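import Groth.Prelude.Def_FlatCA
import Mathlib.RingTheory.Ideal.MinimalPrime.Colon
import Mathlib.RingTheory.Ideal.MinimalPrime.Localization
import Mathlib.RingTheory.Finiteness.Ideal
import Mathlib.RingTheory.Support
import Mathlib.Algebra.Module.LocalizedModule.AtPrime
import Mathlib.RingTheory.Flat.TorsionFree
import Mathlib.Tactic

/-!
# Weakly associated primes and associated primes: elementary theory
-/

universe u v w

namespace Groth.Calg5

open Submodule

section General

variable {R : Type u} [CommRing R] {M : Type v} [AddCommGroup M] [Module R M]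

/-- A prime containing `I` is minimal over `I` iff each of its elements is nilpotent modulo `I`
up to an element outside of the prime. -/
theorem minimalPrimes_iff_forall {I p : Ideal R} [hp : p.IsPrime] :
    p ∈ I.minimalPrimes ↔ I ≤ p ∧ ∀ a ∈ p, ∃ s ∉ p, ∃ n : ℕ, s * a ^ n ∈ I := by
  constructor
  · intro h
    refine ⟨h.le, fun a ha => ?_⟩
    by_contra hc
    push Not at hc
    have hdisj : Disjoint (I : Set R) ↑(p.primeCompl ⊔ Submonoid.powers a) := by
      rw [Set.disjoint_left]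
      intro x hxI hx
      obtain ⟨s, hs, t, ⟨n, rfl⟩, rfl⟩ := Submonoid.mem_sup.mp hx
      exact hc s hs n hxI
    obtain ⟨q, hq, hIq, hqd⟩ := Ideal.exists_le_prime_disjoint I _ hdisj
    have hqp : q ≤ p := fun x hx => by
      by_contra hxp
      exact Set.disjoint_left.mp hqd hx (Submonoid.mem_sup_left hxp)
    have hpq : p ≤ q := h.2 ⟨hq, hIq⟩ hqp
    exact Set.disjoint_left.mp hqd (hpq ha)
      (Submonoid.mem_sup_right (Submonoid.mem_powers a))
  · rintro ⟨hle, h⟩
    refine ⟨⟨hp, hle⟩, fun q hq hqp a ha => ?_⟩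
    obtain ⟨s, hs, n, hn⟩ := h a ha
    have := hq.1
    rcases Ideal.IsPrime.mem_or_mem this (hq.2 hn) with h1 | h1
    · exact absurd (hqp h1) hs
    · exact this.mem_of_pow_mem n h1

theorem mem_ann {m : M} {r : R} : r ∈ (span R {m}).annihilator ↔ r • m = 0 :=
  mem_annihilator_span_singleton m r

/-- `p` is minimal over the annihilator of `m`. -/
def IsWA (p : Ideal R) (m : M) : Prop :=
  (∀ r : R, r • m = 0 → r ∈ p) ∧ ∀ a ∈ p, ∃ s ∉ p, ∃ n : ℕ, (s * a ^ n) • m = 0

theorem isWA_iff_mem_minimalPrimes {p : Ideal R} [p.IsPrime] {m : M} :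
    IsWA p m ↔ p ∈ (span R {m}).annihilator.minimalPrimes := by
  rw [minimalPrimes_iff_forall, IsWA, SetLike.le_def]
  simp only [mem_ann]

theorem mem_weakAss_iff {p : Ideal R} :
    p ∈ FlatCA.weakAss R M ↔ p.IsPrime ∧ ∃ m : M, IsWA p m := by
  constructor
  · rintro ⟨m, hm⟩
    have := hm.isPrime
    exact ⟨this, m, isWA_iff_mem_minimalPrimes.mpr hm⟩
  · rintro ⟨hp, m, hm⟩
    exact ⟨m, isWA_iff_mem_minimalPrimes.mp hm⟩

theorem mem_weakAss_of_isWA {p : Ideal R} [p.IsPrime] {m : M} (h : IsWA p m) :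
    p ∈ FlatCA.weakAss R M :=
  mem_weakAss_iff.mpr ⟨inferInstance, m, h⟩

theorem IsWA.smul {p : Ideal R} [hp : p.IsPrime] {m : M} (h : IsWA p m) {r : R} (hr : r ∉ p) :
    IsWA p (r • m) := by
  constructor
  · intro t ht
    rw [smul_smul] at ht
    exact (hp.mem_or_mem (h.1 _ ht)).resolve_right hr
  · intro a ha
    obtain ⟨s, hs, n, hn⟩ := h.2 a ha
    exact ⟨s, hs, n, by rw [smul_comm, hn, smul_zero]⟩

/-- Every annihilator of a nonzero element lies in a weakly associated prime. -/
theorem exists_weakAss_ge {x : M} (hx : x ≠ 0) :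
    ∃ p ∈ FlatCA.weakAss R M, (span R {x}).annihilator ≤ p := by
  have h : (span R {x}).annihilator ≠ ⊤ := by
    rw [Ne, Ideal.eq_top_iff_one, mem_ann, one_smul]
    exact hx
  obtain ⟨p, hp⟩ := Ideal.nonempty_minimalPrimes h
  exact ⟨p, ⟨x, hp⟩, hp.le⟩

theorem weakAss_eq_empty_iff : FlatCA.weakAss R M = ∅ ↔ Subsingleton M := by
  constructor
  · intro h
    refine subsingleton_of_forall_eq 0 fun x => ?_
    by_contra hx
    obtain ⟨p, hp, -⟩ := exists_weakAss_ge (R := R) hx
    simp [h] at hp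
  · intro h
    ext p
    simp only [Set.mem_empty_iff_false, iff_false]
    rw [mem_weakAss_iff]
    rintro ⟨hp, m, hm⟩
    exact hp.ne_top ((Ideal.eq_top_iff_one p).mpr (hm.1 1 (Subsingleton.elim _ _)))

theorem weakAss_subset_of_injective {N : Type w} [AddCommGroup N] [Module R N] (f : M →ₗ[R] N)
    (hf : Function.Injective f) : FlatCA.weakAss R M ⊆ FlatCA.weakAss R N := by
  rintro p ⟨m, hm⟩
  refine ⟨f m, ?_⟩
  have : (span R {f m}).annihilator = (span R {m}).annihilator := by
    ext r; rw [mem_ann, mem_ann, ← map_smul, map_eq_zero_iff f hf]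
  rwa [this]

theorem weakAss_subset_union {M' : Type w} [AddCommGroup M'] [Module R M'] {M'' : Type*}
    [AddCommGroup M''] [Module R M''] (f : M' →ₗ[R] M) (g : M →ₗ[R] M'')
    (hf : Function.Injective f) (hfg : Function.Exact f g) :
    FlatCA.weakAss R M ⊆ FlatCA.weakAss R M' ∪ FlatCA.weakAss R M'' := by
  intro p hp
  obtain ⟨hpp, m, h1, h2⟩ := mem_weakAss_iff.mp hp
  by_cases h : ∀ r : R, r • g m = 0 → r ∈ p
  · refine Or.inr (mem_weakAss_of_isWA ⟨h, fun a ha => ?_⟩ (m := g m))
    obtain ⟨s, hs, n, hn⟩ := h2 a ha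
    exact ⟨s, hs, n, by rw [← map_smul, hn, map_zero]⟩
  · push Not at h
    obtain ⟨r, hr0, hrp⟩ := h
    rw [← map_smul] at hr0
    obtain ⟨y, hy⟩ := (hfg _).mp hr0
    refine Or.inl (mem_weakAss_of_isWA (m := y) ⟨fun t ht => ?_, fun a ha => ?_⟩)
    · have : (t * r) • m = 0 := by rw [← smul_smul, ← hy, ← map_smul, ht, map_zero]
      exact (hpp.mem_or_mem (h1 _ this)).resolve_right hrp
    · obtain ⟨s, hs, n, hn⟩ := h2 a ha
      refine ⟨r * s, fun hc => (hpp.mem_or_mem hc).elim hrp hs, n, hf ?_⟩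
      rw [map_smul, hy, mul_assoc, ← smul_smul, smul_comm _ r m, hn, smul_zero, smul_zero,
        map_zero]

/-- The union of the weakly associated primes is the set of zero divisors. -/
theorem biUnion_weakAss :
    ⋃ q ∈ FlatCA.weakAss R M, (q : Set R) = {f : R | ¬ IsSMulRegular M f} := by
  ext f
  simp only [Set.mem_iUnion, SetLike.mem_coe, exists_prop, Set.mem_ofPred_eq]
  constructor
  · rintro ⟨q, hq, hfq⟩ hreg
    obtain ⟨-, m, h1, h2⟩ := mem_weakAss_iff.mp hq
    obtain ⟨s, hs, n, hn⟩ := h2 f hfq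
    rw [mul_comm, ← smul_smul] at hn
    exact hs (h1 s ((hreg.pow n).right_eq_zero_of_smul hn))
  · intro hreg
    obtain ⟨x, hfx, hx⟩ : ∃ x : M, f • x = 0 ∧ x ≠ 0 := by
      by_contra hc
      push Not at hc
      exact hreg (isSMulRegular_iff_right_eq_zero_of_smul.mpr hc)
    obtain ⟨p, hp, hle⟩ := exists_weakAss_ge (R := R) hx
    exact ⟨p, hp, hle (mem_ann.mpr hfx)⟩

theorem ass_subset_weakAss : FlatCA.ass R M ⊆ FlatCA.weakAss R M := by
  rintro p ⟨hp, m, rfl⟩
  exact ⟨m, by rw [Ideal.minimalPrimes_eq_subsingleton_self]; rfl⟩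

/-- A finitely generated weakly associated prime is associated. -/
theorem mem_ass_of_fg_of_mem_weakAss {p : Ideal R} (hfg : p.FG) (h : p ∈ FlatCA.weakAss R M) :
    p ∈ FlatCA.ass R M := by
  classical
  obtain ⟨hp, m, h1, h2⟩ := mem_weakAss_iff.mp h
  obtain ⟨g, hg⟩ := hfg
  have key : ∀ x : M, (∀ r : R, r • x = 0 → r ∈ p) →
      (∀ a ∈ g, ∃ s ∉ p, s • a • x = 0) → p ∈ FlatCA.ass R M := by
    intro x hx ha
    choose s hs hs0 using ha
    let S := ∏ a ∈ g.attach, s a.1 a.2
    have hS : S ∉ p := fun hc => by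
      obtain ⟨a, _, hap⟩ := hp.prod_mem_iff.mp hc
      exact hs _ a.2 hap
    refine ⟨hp, S • x, le_antisymm ?_ ?_⟩
    · rw [← hg]
      refine Submodule.span_le.mpr fun a haG => mem_ann.mpr ?_
      obtain ⟨u, hu⟩ : s a haG ∣ S :=
        Finset.dvd_prod_of_mem _ (Finset.mem_attach g ⟨a, haG⟩)
      rw [smul_comm, hu, mul_comm, ← smul_smul, hs0, smul_zero]
    · intro r hr
      rw [mem_ann, smul_smul] at hr
      exact (hp.mem_or_mem (hx _ hr)).resolve_right hS
  -- descending induction on a monomial in the generators of `p`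
  by_contra hnot
  have step : ∀ x : M, (∀ r : R, r • x = 0 → r ∈ p) →
      ∃ a ∈ g, ∀ r : R, r • a • x = 0 → r ∈ p := by
    intro x hx
    by_contra hc
    push Not at hc
    exact hnot (key x hx fun a ha => by obtain ⟨r, h, h'⟩ := hc a ha; exact ⟨r, h', h⟩)
  have hgp : ∀ a ∈ g, a ∈ p := fun a ha => hg ▸ Submodule.subset_span ha
  have exists_pow : ∀ N : ℕ, ∃ b ∈ p ^ N, ∀ r : R, r • b • m = 0 → r ∈ p := by
    intro N
    induction N with
    | zero => exact ⟨1, by simp, by simpa using h1⟩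
    | succ N ih =>
      obtain ⟨b, hb, hbr⟩ := ih
      obtain ⟨a, ha, har⟩ := step (b • m) hbr
      refine ⟨a * b, ?_, by simpa [← smul_smul] using har⟩
      rw [pow_succ']
      exact Ideal.mul_mem_mul (hgp a ha) hb
  choose! s hs n hn using h2
  let S := ∏ a ∈ g, s a
  have hS : S ∉ p := fun hc => by
    obtain ⟨a, ha, hap⟩ := hp.prod_mem_iff.mp hc
    exact hs a (hgp a ha) hap
  have hrad : p ≤ (span R {S • m}).annihilator.radical := by
    rw [← hg]
    refine Submodule.span_le.mpr fun a ha => ⟨n a, mem_ann.mpr ?_⟩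
    obtain ⟨u, hu⟩ : s a ∣ S := Finset.dvd_prod_of_mem _ ha
    rw [smul_smul, hu, show a ^ n a * (s a * u) = u * (s a * a ^ n a) by ring, ← smul_smul,
      hn a (hgp a ha), smul_zero]
  obtain ⟨N, hN⟩ := Ideal.exists_pow_le_of_le_radical_of_fg hrad ⟨g, hg⟩
  obtain ⟨b, hb, hbr⟩ := exists_pow N
  exact hS (hbr S (by rw [smul_comm]; exact mem_ann.mp (hN hb)))

theorem mem_ass_iff {p : Ideal R} :
    p ∈ FlatCA.ass R M ↔ p.IsPrime ∧ ∃ m : M, ∀ r : R, r ∈ p ↔ r • m = 0 := by
  simp only [FlatCA.ass, Set.mem_ofPred_eq, SetLike.ext_iff, mem_ann]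

end General

section ScalarTower

variable {R : Type u} {S : Type v} [CommRing R] [CommRing S] [Algebra R S]
  {M : Type w} [AddCommGroup M] [Module S M] [Module R M] [IsScalarTower R S M]

theorem ann_restrict (m : M) :
    (span R {m}).annihilator = ((span S {m}).annihilator).comap (algebraMap R S) := by
  ext r; rw [Ideal.mem_comap, mem_ann, mem_ann, algebraMap_smul]

theorem image_comap_ass_subset :
    Ideal.comap (algebraMap R S) '' FlatCA.ass S M ⊆ FlatCA.ass R M := by
  rintro _ ⟨q, ⟨hq, m, rfl⟩, rfl⟩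
  exact ⟨Ideal.IsPrime.comap _, m, (ann_restrict m).symm⟩

theorem weakAss_eq_image_of_surjective (h : Function.Surjective (algebraMap R S)) :
    FlatCA.weakAss R M = Ideal.comap (algebraMap R S) '' FlatCA.weakAss S M := by
  ext p
  simp only [FlatCA.weakAss, Set.mem_ofPred_eq, Set.mem_image, ann_restrict (R := R) (S := S),
    Ideal.comap_minimalPrimes_eq_of_surjective h]
  tauto

variable (T : Submonoid R) [IsLocalization T S]

include T in
theorem weakAss_eq_image_of_isLocalization :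
    FlatCA.weakAss R M = Ideal.comap (algebraMap R S) '' FlatCA.weakAss S M := by
  ext p
  simp only [FlatCA.weakAss, Set.mem_ofPred_eq, Set.mem_image, ann_restrict (R := R) (S := S),
    IsLocalization.minimalPrimes_comap T S]
  tauto

include T in
theorem ass_eq_image_of_isLocalization :
    FlatCA.ass R M = Ideal.comap (algebraMap R S) '' FlatCA.ass S M := by
  refine subset_antisymm ?_ image_comap_ass_subset
  rintro p ⟨hp, m, rfl⟩
  refine ⟨(span S {m}).annihilator, ⟨?_, m, rfl⟩, (ann_restrict m).symm⟩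
  rw [IsLocalization.isPrime_iff_isPrime_disjoint T S, Ideal.under_def, ← ann_restrict]
  refine ⟨hp, ?_⟩
  rw [ann_restrict (R := R) (S := S), ← Ideal.under_def, IsLocalization.disjoint_under_iff T S]
  intro htop
  exact hp.ne_top (by rw [ann_restrict (R := R) (S := S), htop, Ideal.comap_top])

end ScalarTower

section Localized

variable {R : Type u} [CommRing R] (T : Submonoid R) {M : Type v} [AddCommGroup M] [Module R M]
  {M' : Type w} [AddCommGroup M'] [Module R M'] (f : M →ₗ[R] M') [IsLocalizedModule T f]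

include f in
theorem ass_mem_localized {p : Ideal R} (hp : p ∈ FlatCA.ass R M)
    (hd : Disjoint (T : Set R) (p : Set R)) : p ∈ FlatCA.ass R M' := by
  obtain ⟨hpp, m, hm⟩ := mem_ass_iff.mp hp
  refine mem_ass_iff.mpr ⟨hpp, f m, fun r => ?_⟩
  rw [← map_smul, IsLocalizedModule.eq_zero_iff T f]
  refine ⟨fun hr => ⟨1, by simp [(hm r).mp hr]⟩, ?_⟩
  rintro ⟨c, hc⟩
  rw [Submonoid.smul_def, smul_smul, ← hm] at hc
  exact (hpp.mem_or_mem hc).resolve_left (fun h => Set.disjoint_left.mp hd c.2 h)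

include f in
theorem mem_weakAss_localized_iff {p : Ideal R} (hd : Disjoint (T : Set R) (p : Set R)) :
    p ∈ FlatCA.weakAss R M ↔ p ∈ FlatCA.weakAss R M' := by
  rw [mem_weakAss_iff, mem_weakAss_iff]
  refine and_congr_right fun hpp => ⟨?_, ?_⟩
  · rintro ⟨m, h1, h2⟩
    refine ⟨f m, fun r hr => ?_, fun a ha => ?_⟩
    · rw [← map_smul, IsLocalizedModule.eq_zero_iff T f] at hr
      obtain ⟨c, hc⟩ := hr
      rw [Submonoid.smul_def, smul_smul] at hc
      exact (hpp.mem_or_mem (h1 _ hc)).resolve_left (fun h => Set.disjoint_left.mp hd c.2 h)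
    · obtain ⟨s, hs, n, hn⟩ := h2 a ha
      exact ⟨s, hs, n, by rw [← map_smul, hn, map_zero]⟩
  · rintro ⟨x, h1, h2⟩
    obtain ⟨⟨m, t⟩, hx⟩ := IsLocalizedModule.surj T f x
    refine ⟨m, fun r hr => ?_, fun a ha => ?_⟩
    · have : (r * (t : R)) • x = 0 := by
        rw [← smul_smul, ← Submonoid.smul_def, hx, ← map_smul, hr, map_zero]
      exact (hpp.mem_or_mem (h1 _ this)).resolve_right (fun h => Set.disjoint_left.mp hd t.2 h)
    · obtain ⟨s, hs, n, hn⟩ := h2 a ha
      have : f ((s * a ^ n) • m) = 0 := by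
        rw [map_smul, ← hx, smul_comm, hn, smul_zero]
      obtain ⟨c, hc⟩ := (IsLocalizedModule.eq_zero_iff T f).mp this
      rw [Submonoid.smul_def, smul_smul, ← mul_assoc] at hc
      exact ⟨c * s, fun h => (hpp.mem_or_mem h).elim
        (fun h => Set.disjoint_left.mp hd c.2 h) hs, n, hc⟩

include f in
theorem injective_of_isSMulRegular (hT : ∀ t ∈ T, IsSMulRegular M t) : Function.Injective f := by
  intro x y hxy
  obtain ⟨c, hc⟩ := (IsLocalizedModule.eq_iff_exists T f).mp hxy
  exact hT c c.2 hc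

theorem disjoint_of_localized {p : Ideal R} (hp : p ∈ FlatCA.weakAss R M')
    (f : M →ₗ[R] M') [IsLocalizedModule T f] : Disjoint (T : Set R) (p : Set R) := by
  rw [Set.disjoint_left]
  intro t ht htp
  have h := Set.ext_iff.mp (biUnion_weakAss (R := R) (M := M')) t
  refine (h.mp (Set.mem_biUnion hp htp)) ?_
  exact ((Module.End.isUnit_iff _).mp (IsLocalizedModule.map_units f ⟨t, ht⟩)).injective

include f in
theorem weakAss_eq_localized (hT : ∀ t ∈ T, IsSMulRegular M t) :
    FlatCA.weakAss R M = FlatCA.weakAss R M' := by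
  refine subset_antisymm (weakAss_subset_of_injective f (injective_of_isSMulRegular T f hT)) ?_
  intro p hp
  exact (mem_weakAss_localized_iff T f (disjoint_of_localized T hp f)).mpr hp

include f in
theorem ass_eq_localized (hT : ∀ t ∈ T, IsSMulRegular M t) :
    FlatCA.ass R M = FlatCA.ass R M' := by
  ext p
  rw [mem_ass_iff, mem_ass_iff]
  have hf := injective_of_isSMulRegular T f hT
  refine and_congr_right fun hp => ⟨?_, ?_⟩
  · rintro ⟨m, hm⟩
    exact ⟨f m, fun r => by rw [hm, ← map_smul, map_eq_zero_iff f hf]⟩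
  · rintro ⟨x, hx⟩
    obtain ⟨⟨m, t⟩, hmt⟩ := IsLocalizedModule.surj T f x
    refine ⟨m, fun r => ?_⟩
    rw [hx, ← map_eq_zero_iff f hf, map_smul, ← hmt, smul_comm r t x]
    refine ⟨fun h => by rw [h, smul_zero], fun h => ?_⟩
    exact ((Module.End.isUnit_iff _).mp (IsLocalizedModule.map_units f t)).injective
      (by simpa [Submonoid.smul_def, smul_comm r (t : R) x] using h)

/-- In a Noetherian ring, a prime minimal in the support is associated. -/
theorem mem_weakAss_of_minimal_support {p : PrimeSpectrum R}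
    (hp : Minimal (fun q : PrimeSpectrum R => q ∈ Module.support R M) p) :
    p.asIdeal ∈ FlatCA.weakAss R M := by
  obtain ⟨m, hm⟩ := Module.mem_support_iff_exists_annihilator.mp hp.1
  refine ⟨m, ⟨p.2, hm⟩, fun q hq hqp => ?_⟩
  exact hp.2 (y := ⟨q, hq.1⟩) (Module.mem_support_iff_exists_annihilator.mpr ⟨m, hq.2⟩) hqp

theorem weakAss_eq_associatedPrimes [IsNoetherianRing R] :
    FlatCA.weakAss R M = associatedPrimes R M := by
  ext p
  constructor
  · rintro ⟨m, hm⟩
    rw [← bot_colon'] at hm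
    obtain ⟨x, hx⟩ := exists_eq_colon_of_mem_minimalPrimes hm
    exact isAssociatedPrime_iff.mpr ⟨hm.isPrime, x, hx⟩
  · intro hp
    obtain ⟨hp', x, hx⟩ := isAssociatedPrime_iff.mp hp
    refine ass_subset_weakAss ⟨hp', x, ?_⟩
    rw [hx, bot_colon']

end Localized

theorem flat_isSMulRegular_of_mem_map_nonZeroDivisors {R : Type u} {S : Type v} [CommRing R]
    [CommRing S] [Algebra R S] {N : Type w} [AddCommGroup N] [Module S N] [Module R N]
    [IsScalarTower R S N] [Module.Flat R N] :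
    ∀ t ∈ Algebra.algebraMapSubmonoid S (nonZeroDivisors R), IsSMulRegular N t := by
  rintro _ ⟨r, hr, rfl⟩
  have h : IsSMulRegular N r :=
    Module.Flat.isSMulRegular_of_nonZeroDivisors hr
  intro x y hxy
  exact h (by simpa [algebraMap_smul] using hxy)

end Groth.Calg5
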