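import Mathlib
import Groth.Agent.VarietyBC.TensorGeom

/-!
Testing geometric properties on finite subextensions of an algebraic extension.
-/

namespace Groth.Calg5

open TensorProduct

universe u v

variable {k : Type u} [Field k] {Ω : Type u} [Field Ω] [Algebra k Ω] [Algebra.IsAlgebraic k Ω]
  {S : Type v} [CommRing S] [Algebra k S]

/-- Any two elements of `Ω ⊗ S` live over a finite subextension of `Ω`. -/
theorem exists_finite_subext (x y : Ω ⊗[k] S) :
    ∃ (E : IntermediateField k Ω), FiniteDimensional k E ∧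
      x ∈ (Algebra.TensorProduct.map E.val (AlgHom.id k S)).range ∧
      y ∈ (Algebra.TensorProduct.map E.val (AlgHom.id k S)).range := by
  classical
  obtain ⟨A, rfl⟩ := TensorProduct.exists_finset x
  obtain ⟨B, rfl⟩ := TensorProduct.exists_finset y
  let E : IntermediateField k Ω :=
    IntermediateField.adjoin k (((A ∪ B).image Prod.fst : Finset Ω) : Set Ω)
  refine ⟨E, IntermediateField.finiteDimensional_adjoin fun a _ => Algebra.IsIntegral.isIntegral a, ?_⟩
  have key : ∀ C : Finset (Ω × S), C ⊆ A ∪ B →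
      ∑ i ∈ C, i.1 ⊗ₜ[k] i.2 ∈ (Algebra.TensorProduct.map E.val (AlgHom.id k S)).range := by
    intro C hC
    refine Subalgebra.sum_mem _ fun i hi => ?_
    exact ⟨⟨i.1, IntermediateField.subset_adjoin k _ (Finset.mem_image_of_mem _ (hC hi))⟩ ⊗ₜ i.2, by simp⟩
  exact ⟨key A Finset.subset_union_left, key B Finset.subset_union_right⟩

theorem map_val_injective (E : IntermediateField k Ω) :
    Function.Injective (Algebra.TensorProduct.map E.val (AlgHom.id k S)) :=
  Module.Flat.rTensor_preserves_injective_linearMap _ Subtype.val_injective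

theorem isReduced_tensor_of_finite
    (h : ∀ E : IntermediateField k Ω, FiniteDimensional k E → IsReduced (E ⊗[k] S)) :
    IsReduced (Ω ⊗[k] S) := by
  refine ⟨fun x hx => ?_⟩
  obtain ⟨E, hE, ⟨a, rfl⟩, -⟩ := exists_finite_subext x x
  have := h E hE
  obtain ⟨n, hn⟩ := hx
  rw [← map_zero (Algebra.TensorProduct.map E.val (AlgHom.id k S))]
  exact congrArg _ (IsNilpotent.eq_zero ⟨n, map_val_injective E (by rw [map_pow, map_zero]; exact hn)⟩)

theorem nilradical_isPrime_tensor_of_finite
    (h : ∀ E : IntermediateField k Ω, FiniteDimensional k E → (nilradical (E ⊗[k] S)).IsPrime) :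
    (nilradical (Ω ⊗[k] S)).IsPrime := by
  have hbot := h ⊥ inferInstance
  refine ⟨fun h1 => ?_, fun {x y} hxy => ?_⟩
  · obtain ⟨n, hn⟩ := mem_nilradical.mp (h1.ge (Submodule.mem_top (x := (1 : Ω ⊗[k] S))))
    refine hbot.ne_top ((Ideal.eq_top_iff_one _).mpr (mem_nilradical.mpr ⟨n, ?_⟩))
    exact map_val_injective _ (by rw [map_pow, map_one, map_zero]; exact hn)
  · obtain ⟨E, hE, ⟨a, rfl⟩, ⟨b, rfl⟩⟩ := exists_finite_subext x y
    obtain ⟨n, hn⟩ := mem_nilradical.mp hxy
    have : a * b ∈ nilradical (E ⊗[k] S) := mem_nilradical.mpr ⟨n, map_val_injective E (by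
      rw [map_pow, map_mul, map_zero]; exact hn)⟩
    rcases (h E hE).mem_or_mem this with h | h
    · exact .inl (mem_nilradical.mpr ((mem_nilradical.mp h).map _))
    · exact .inr (mem_nilradical.mpr ((mem_nilradical.mp h).map _))

theorem isDomain_tensor_of_finite
    (h : ∀ E : IntermediateField k Ω, FiniteDimensional k E → IsDomain (E ⊗[k] S)) :
    IsDomain (Ω ⊗[k] S) := by
  have key : ∀ (D : Type (max u v)) [CommRing D] [IsDomain D], IsReduced D ∧ (nilradical D).IsPrime :=
    fun D _ _ => ⟨inferInstance, Groth.VarietyBC.nilradical_isPrime_of_isDomain D⟩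
  have := isReduced_tensor_of_finite (Ω := Ω) (S := S)
    fun E hE => (have := h E hE; (key (E ⊗[k] S)).1)
  have hp := nilradical_isPrime_tensor_of_finite (Ω := Ω) (S := S)
    fun E hE => (have := h E hE; (key (E ⊗[k] S)).2)
  rw [nilradical_eq_zero] at hp
  have := hp
  exact IsDomain.of_bot_isPrime _

section

variable {k : Type u} [Field k] {R : Type u} [CommRing R] [Algebra k R]

theorem irreducibleSpace_of_algHom {L M : Type u} [Field L] [Field M] [Algebra k L] [Algebra k M]
    (f : L →ₐ[k] M) (h : IrreducibleSpace (PrimeSpectrum (M ⊗[k] R))) :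
    IrreducibleSpace (PrimeSpectrum (L ⊗[k] R)) := by
  rw [PrimeSpectrum.irreducibleSpace_iff_isPrime_nilradical] at h ⊢
  exact Groth.VarietyBC.nilradical_isPrime_of_injective
    (Algebra.TensorProduct.map f (AlgHom.id k R)).toRingHom
    (Module.Flat.rTensor_preserves_injective_linearMap _ f.toRingHom.injective) h

theorem irreducibleSpace_of_sepClosed {L K : Type u} [Field L] [Algebra k L] [Algebra.IsAlgebraic k L]
    [IsSepClosed L] [Field K] [Algebra k K] (h : IrreducibleSpace (PrimeSpectrum (L ⊗[k] R))) :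
    IrreducibleSpace (PrimeSpectrum (K ⊗[k] R)) := by
  let F := AlgebraicClosure K
  let i : L →ₐ[k] F := IsAlgClosed.lift
  let _ := i.toRingHom.toAlgebra
  have : IsScalarTower k L F := .of_algebraMap_eq fun x => (i.commutes x).symm
  refine irreducibleSpace_of_algHom (IsScalarTower.toAlgHom k K F) ?_
  rw [PrimeSpectrum.irreducibleSpace_iff_isPrime_nilradical] at h ⊢
  exact Groth.VarietyBC.nilradical_isPrime_of_injective
    (Algebra.TensorProduct.cancelBaseChange k L L F R).symm.toRingEquiv.toRingHom
    (AlgEquiv.injective _)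
    (Groth.VarietyBC.nilradical_isPrime_tensor (Groth.VarietyBC.nilradical_isPrime_of_isDomain F) h)

end

end Groth.Calg5
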