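import Mathlib
import Groth.Agent.VarietyBC.IntegralIdem

/-!
`Spec R` is connected iff `R` is nontrivial without nontrivial idempotents.
-/

namespace Groth.Calg5

open Groth.VarietyBC PrimeSpectrum

theorem idemTrivial_of_connectedSpace {R : Type*} [CommRing R] [h : ConnectedSpace (PrimeSpectrum R)] :
    IdemTrivial R := fun e he => by
  have hcl : IsClopen (basicOpen e : Set (PrimeSpectrum R)) :=
    PrimeSpectrum.isClopen_iff.mpr ⟨e, he, rfl⟩
  rcases _root_.isClopen_iff.mp hcl with h | h
  · left
    have : basicOpen e = ⊥ := TopologicalSpace.Opens.ext (by simpa using h)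
    exact he.eq_zero_of_isNilpotent (basicOpen_eq_bot_iff e |>.mp this)
  · right
    have hu : IsUnit e := by
      by_contra hne
      obtain ⟨m, hm, hem⟩ := exists_max_ideal_of_mem_nonunits (a := e) hne
      have : (⟨m, hm.isPrime⟩ : PrimeSpectrum R) ∈ (basicOpen e : Set (PrimeSpectrum R)) := by
        rw [h]; trivial
      exact this hem
    exact (IsIdempotentElem.iff_eq_one_of_isUnit hu).mp he

theorem connectedSpace_of_idemTrivial {R : Type*} [CommRing R] [Nontrivial R]
    (h : IdemTrivial R) : ConnectedSpace (PrimeSpectrum R) := by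
  haveI : Nonempty (PrimeSpectrum R) := inferInstance
  refine connectedSpace_iff_clopen.mpr ⟨‹_›, fun s hs => ?_⟩
  obtain ⟨e, he, rfl⟩ := PrimeSpectrum.isClopen_iff.mp hs
  rcases h e he with rfl | rfl
  · left; simp
  · right; simp

theorem connectedSpace_of_injective {R S : Type*} [CommRing R] [CommRing S] (f : R →+* S)
    (hf : Function.Injective f) [h : ConnectedSpace (PrimeSpectrum S)] :
    ConnectedSpace (PrimeSpectrum R) := by
  haveI : Nontrivial S := PrimeSpectrum.nonempty_iff_nontrivial.mp h.toNonempty
  haveI : Nontrivial R := f.domain_nontrivial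
  exact connectedSpace_of_idemTrivial (idemTrivial_of_connectedSpace.of_injective f hf)

end Groth.Calg5
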