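import Mathlib
import Groth.Agent.Calg1.CoefficientField
import Groth.Agent.Calg6.CompleteLocal
import Groth.Agent.Ega41Sep.Separable

/-!
Complete regular local rings containing a field are power series rings.
-/

set_option autoImplicit false
universe u

namespace Groth.Calg5.CohenStructure

open IsLocalRing Groth.Calg6 SGA7.PS

theorem exists_algEquiv_mvPowerSeries (R : Type u)
    [CommRing R] [IsRegularLocalRing R] [IsAdicComplete (maximalIdeal R) R]
    (k : Type u) [Field k] [Algebra k R]
    (hk : Function.Bijective (algebraMap k (ResidueField R))) :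
    ∃ d : ℕ, Nonempty (R ≃ₐ[k] MvPowerSeries (Fin d) k) := by
  obtain ⟨d, a, ha⟩ : ∃ (d : ℕ) (a : Fin d → R),
      Submodule.span R (Set.range a) = maximalIdeal R ∧ ringKrullDim R = d := by
    have hfg : (maximalIdeal R).FG := IsNoetherian.noetherian _
    have hfin := Submodule.FG.finite_generators hfg
    let e := hfin.fintype
    have hcard := Submodule.FG.generators_ncard hfg
    refine ⟨(maximalIdeal R).spanFinrank,
      fun i => ((Fintype.equivFinOfCardEq (α := (maximalIdeal R).generators) (n := (maximalIdeal R).spanFinrank)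
        (by rw [← hcard, ← Nat.card_coe_set_eq, Nat.card_eq_fintype_card])).symm i).1, ?_,
      (IsRegularLocalRing.spanFinrank_maximalIdeal (R := R)).symm⟩
    rw [show Set.range (fun i => ((Fintype.equivFinOfCardEq (α := (maximalIdeal R).generators) _).symm i).1)
      = (maximalIdeal R).generators from by
        rw [Set.range_comp' (g := fun x : (maximalIdeal R).generators => x.1), Equiv.range_eq_univ,
          Set.image_univ]
        exact Subtype.range_coe]
    exact Submodule.span_generators _
  obtain ⟨hspan, hdim⟩ := ha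
  have hmem : ∀ i, a i ∈ maximalIdeal R := fun i => hspan ▸ Submodule.subset_span ⟨i, rfl⟩
  let ψ : MvPowerSeries (Fin d) k →ₐ[k] R := evalAdic (maximalIdeal R) a hmem
  have hmap : (varIdeal (Fin d) k).map ψ.toRingHom = maximalIdeal R := by
    rw [varIdeal, Ideal.map_span, ← hspan, ← Set.range_comp]
    congr 1
    ext i
    simp only [Set.mem_range, Function.comp_apply]
    constructor
    · rintro ⟨j, rfl⟩; exact ⟨j, (evalAdic_X _ a hmem j).symm⟩
    · rintro ⟨j, rfl⟩; exact ⟨j, evalAdic_X _ a hmem j⟩
  have hsurj : Function.Surjective ψ := by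
    haveI : IsHausdorff ((varIdeal (Fin d) k).map ψ.toRingHom) R := by rw [hmap]; infer_instance
    refine surjective_of_map_varIdeal ψ.toRingHom fun x => ?_
    obtain ⟨c, hc⟩ := hk.2 (residue R x)
    refine ⟨c, ?_⟩
    rw [hmap, ← residue_eq_zero_iff, map_sub, sub_eq_zero, ← hc]
    show residue R (algebraMap k R c) = residue R (ψ (MvPowerSeries.C c))
    rw [show (MvPowerSeries.C c : MvPowerSeries (Fin d) k) = algebraMap k _ c from rfl, AlgHom.commutes]
  have hinj : Function.Injective ψ := by
    rw [injective_iff_map_eq_zero]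
    intro f hf
    by_contra hf0
    have hle : ringKrullDim R ≤ ringKrullDim (MvPowerSeries (Fin d) k ⧸ Ideal.span {f}) := by
      refine ringKrullDim_le_of_surjective (Ideal.Quotient.lift (Ideal.span {f}) ψ.toRingHom fun x hx => ?_) ?_
      · obtain ⟨c, rfl⟩ := Ideal.mem_span_singleton'.1 hx
        show ψ (c * f) = 0
        rw [map_mul, hf, mul_zero]
      · exact Ideal.Quotient.lift_surjective_of_surjective _ _ hsurj
    have h2 := ringKrullDim_quotient_succ_le_of_nonZeroDivisor (mem_nonZeroDivisors_of_ne_zero hf0)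
    rw [ringKrullDim_mvPowerSeries] at h2
    have h3 : ((d : WithBot ℕ∞) + 1) ≤ d := le_trans (add_le_add_left (hdim ▸ hle) 1) h2
    have h4 : ((d + 1 : ℕ) : WithBot ℕ∞) ≤ ((d : ℕ) : WithBot ℕ∞) := by exact_mod_cast h3
    simp only [Nat.cast_le] at h4
    omega
  exact ⟨d, ⟨(AlgEquiv.ofBijective ψ ⟨hinj, hsurj⟩).symm⟩⟩

theorem exists_section_of_field (R : Type u) [CommRing R] [IsLocalRing R]
    [IsAdicComplete (maximalIdeal R) R] (k₀ : Type u) [Field k₀] [Algebra k₀ R] :
    ∃ s : ResidueField R →+* R, (residue R).comp s = RingHom.id _ := by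
  obtain ⟨p, hp⟩ := CharP.exists k₀
  let ι : k₀ →+* ResidueField R := (residue R).comp (algebraMap k₀ R)
  haveI : CharP R p := charP_of_injective_ringHom (algebraMap k₀ R).injective p
  haveI : CharP (ResidueField R) p := charP_of_injective_ringHom ι.injective p
  rcases CharP.char_is_prime_or_zero k₀ p with hpp | rfl
  · haveI : Fact p.Prime := ⟨hpp⟩
    letI : Algebra (Groth.Ega41Sep.ZModU.{u} p) R := Groth.Ega41Sep.zmodUAlgebra p R
    haveI := Groth.Ega41Sep.formallySmooth_zmodU p (ResidueField R)
    obtain ⟨σ, hσ⟩ := Algebra.FormallySmooth.exists_mkₐ_comp_eq_of_isAdicComplete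
      (R := Groth.Ega41Sep.ZModU.{u} p) (I := maximalIdeal R)
      (AlgHom.id (Groth.Ega41Sep.ZModU.{u} p) (ResidueField R))
    exact ⟨σ.toRingHom, RingHom.ext fun x => AlgHom.congr_fun hσ x⟩
  · haveI : CharZero (ResidueField R) := CharP.charP_to_charZero _
    exact Groth.Calg1.exists_section R

theorem exists_ringEquiv_mvPowerSeries (R : Type u)
    [CommRing R] [IsRegularLocalRing R] [IsAdicComplete (maximalIdeal R) R]
    (k₀ : Type u) [Field k₀] [Algebra k₀ R] :
    ∃ d : ℕ, Nonempty (R ≃+* MvPowerSeries (Fin d) (ResidueField R)) := by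
  obtain ⟨s, hs⟩ := exists_section_of_field R k₀
  letI : Algebra (ResidueField R) R := s.toAlgebra
  have hk : ∀ x, (residue R) (s x) = x := fun x => RingHom.congr_fun hs x
  obtain ⟨d, ⟨e⟩⟩ := exists_algEquiv_mvPowerSeries R (ResidueField R) (by
    constructor
    · intro x y h
      rw [← hk x, ← hk y]
      exact h
    · exact fun x => ⟨x, hk x⟩)
  exact ⟨d, ⟨e.toRingEquiv⟩⟩

end Groth.Calg5.CohenStructure
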