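import Mathlib
import Groth.Agent.FlatmorThree.FlatAtDescent

/-!
Finite free covers dominating standard étale algebras.
-/

set_option autoImplicit false
universe u

namespace Groth.Calg5.SplitCover

open Polynomial TensorProduct

theorem injective_of_monic {R : Type u} [CommRing R] {f : R[X]} (hf : f.Monic) (h : 0 < f.natDegree) :
    Function.Injective (algebraMap R (AdjoinRoot f)) := by
  rw [injective_iff_map_eq_zero]
  intro r hr
  obtain ⟨g, hg⟩ := AdjoinRoot.mk_eq_zero.1 (show AdjoinRoot.mk f (C r) = 0 from hr)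
  by_contra hr0
  have hg0 : g ≠ 0 := by
    rintro rfl
    rw [mul_zero, C_eq_zero] at hg
    exact hr0 hg
  have := congrArg natDegree hg
  rw [natDegree_C, hf.natDegree_mul' hg0] at this
  omega

theorem exists_split : ∀ (n : ℕ) (R : Type u) [CommRing R] (f : R[X]), f.Monic → f.natDegree ≤ n →
    ∃ (S' : Type u) (_ : CommRing S') (_ : Algebra R S'),
      Module.Finite R S' ∧ Module.Free R S' ∧ Function.Injective (algebraMap R S') ∧
        ∃ s : Multiset S', f.map (algebraMap R S') = (s.map fun a => X - C a).prod := by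
  intro n
  induction n with
  | zero =>
    intro R _ f hf hn
    refine ⟨R, inferInstance, inferInstance, inferInstance, inferInstance, fun a b h => h, 0, ?_⟩
    rw [hf.natDegree_eq_zero.1 (Nat.le_zero.1 hn)]
    simp
  | succ n ih =>
    intro R _ f hf hn
    rcases Nat.eq_zero_or_pos f.natDegree with h0 | hpos
    · refine ⟨R, inferInstance, inferInstance, inferInstance, inferInstance, fun a b h => h, 0, ?_⟩
      rw [hf.natDegree_eq_zero.1 h0]
      simp
    rcases subsingleton_or_nontrivial R with hR | hR
    · exact ⟨R, inferInstance, inferInstance, inferInstance, inferInstance, fun a b h => h, 0,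
        Subsingleton.elim _ _⟩
    let R₁ := AdjoinRoot f
    let r : R₁ := AdjoinRoot.root f
    let f₁ := f.map (algebraMap R R₁) /ₘ (X - C r)
    have hdiv : (X - C r) * f₁ = f.map (algebraMap R R₁) :=
      mul_divByMonic_eq_iff_isRoot.2 (AdjoinRoot.isRoot_root f)
    have hf₁ : f₁.Monic := (monic_X_sub_C r).of_mul_monic_left (hdiv.symm ▸ hf.map _)
    have : Nontrivial R₁ := (injective_of_monic hf hpos).nontrivial
    have hdeg : f₁.natDegree ≤ n := by
      rw [natDegree_divByMonic _ (monic_X_sub_C r), natDegree_X_sub_C]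
      have := natDegree_map_le (f := algebraMap R R₁) (p := f)
      omega
    obtain ⟨S', _, _, h1, h2, h3, s, hs⟩ := ih R₁ f₁ hf₁ hdeg
    letI : Algebra R S' := ((algebraMap R₁ S').comp (algebraMap R R₁)).toAlgebra
    haveI : IsScalarTower R R₁ S' := IsScalarTower.of_algebraMap_eq fun _ => rfl
    haveI := hf.finite_adjoinRoot
    haveI := hf.free_adjoinRoot
    refine ⟨S', inferInstance, inferInstance, Module.Finite.trans R₁ S', Module.Free.trans (R := R) (S := R₁),
      h3.comp (injective_of_monic hf hpos), algebraMap R₁ S' r ::ₘ s, ?_⟩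
    rw [Multiset.map_cons, Multiset.prod_cons, ← hs, IsScalarTower.algebraMap_eq R R₁ S', ← Polynomial.map_map,
      ← hdiv, Polynomial.map_mul, Polynomial.map_sub, Polynomial.map_X, Polynomial.map_C]

theorem exists_split_list (R : Type u) [CommRing R] : ∀ (l : List R[X]), (∀ f ∈ l, f.Monic) →
    ∃ (S' : Type u) (_ : CommRing S') (_ : Algebra R S'),
      Module.Finite R S' ∧ Module.Free R S' ∧ Function.Injective (algebraMap R S') ∧
        ∀ f ∈ l, ∃ s : Multiset S', f.map (algebraMap R S') = (s.map fun a => X - C a).prod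
  | [], _ => ⟨R, inferInstance, inferInstance, inferInstance, inferInstance, fun a b h => h, by simp⟩
  | f :: l, hl => by
    obtain ⟨S₁, _, _, h1, h2, h3, h4⟩ := exists_split_list R l fun g hg => hl g (List.mem_cons_of_mem _ hg)
    have hfm := (hl f List.mem_cons_self).map (algebraMap R S₁)
    obtain ⟨S', _, _, k1, k2, k3, s, hs⟩ := exists_split _ S₁ _ hfm le_rfl
    letI : Algebra R S' := ((algebraMap S₁ S').comp (algebraMap R S₁)).toAlgebra
    haveI : IsScalarTower R S₁ S' := IsScalarTower.of_algebraMap_eq fun _ => rfl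
    refine ⟨S', inferInstance, inferInstance, Module.Finite.trans S₁ S', Module.Free.trans (R := R) (S := S₁),
      k3.comp h3, ?_⟩
    intro g hg
    rw [IsScalarTower.algebraMap_eq R S₁ S', ← Polynomial.map_map]
    rcases List.mem_cons.1 hg with rfl | hg
    · exact ⟨s, hs⟩
    · obtain ⟨t, ht⟩ := h4 g hg
      refine ⟨t.map (algebraMap S₁ S'), ?_⟩
      rw [ht, Polynomial.map_multiset_prod, Multiset.map_map, Multiset.map_map]
      simp only [Function.comp_def, Polynomial.map_sub, Polynomial.map_X, Polynomial.map_C]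

theorem exists_lift {R S S' : Type u} [CommRing R] [CommRing S] [Algebra R S] [CommRing S'] [Algebra R S']
    (P : StandardEtalePresentation R S) (s : Multiset S')
    (hs : P.f.map (algebraMap R S') = (s.map fun a => X - C a).prod)
    (q : Ideal S) [q.IsPrime] (q' : Ideal S') [q'.IsPrime] (h : q'.under R = q.under R) :
    ∃ (g' : S') (_ : g' ∉ q') (φ : S →ₐ[R] Localization.Away g'),
      (q'.map (algebraMap S' (Localization.Away g'))).comap φ = q := by
  letI : Algebra S' (S ⊗[R] S') := Algebra.TensorProduct.rightAlgebra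
  obtain ⟨Q, _, hQq, hQq'⟩ := Groth.FlatmorThree.exists_prime_over_both (R := R) (S := S) (R' := S')
    (S' := S ⊗[R] S') q q' h
  let a : S →ₐ[R] Q.ResidueField :=
    (IsScalarTower.toAlgHom R (S ⊗[R] S') Q.ResidueField).comp Algebra.TensorProduct.includeLeft
  let b : S' →ₐ[R] Q.ResidueField :=
    (IsScalarTower.toAlgHom R (S ⊗[R] S') Q.ResidueField).comp Algebra.TensorProduct.includeRight
  have ha : ∀ x, a x = 0 ↔ x ∈ q := by
    intro x
    rw [← hQq]
    exact Ideal.algebraMap_residueField_eq_zero
  have hb : ∀ x, b x = 0 ↔ x ∈ q' := by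
    intro x
    rw [← hQq']
    exact Ideal.algebraMap_residueField_eq_zero
  have heval : ((s.map b).map fun c => a P.x - c).prod = 0 := by
    have h1 : (P.f.map (algebraMap R Q.ResidueField)).eval (a P.x) = 0 := by
      rw [eval_map, ← aeval_def, aeval_algHom_apply, P.hasMap.1, map_zero]
    rw [← b.comp_algebraMap, ← Polynomial.map_map, hs, Polynomial.map_multiset_prod, eval_multiset_prod,
      Multiset.map_map, Multiset.map_map] at h1
    rw [Multiset.map_map]
    simpa [Function.comp_def] using h1
  obtain ⟨c, hc, hc0⟩ := Multiset.mem_map.1 (Multiset.prod_eq_zero_iff.1 heval)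
  obtain ⟨α, hα, rfl⟩ := Multiset.mem_map.1 hc
  have hxα : a P.x = b α := sub_eq_zero.1 hc0
  have hgu : IsUnit (b (aeval α P.g)) := by
    rw [← aeval_algHom_apply, ← hxα, aeval_algHom_apply]
    exact P.hasMap.2.map a
  have hg : aeval α P.g ∉ q' := fun h => hgu.ne_zero ((hb _).2 h)
  refine ⟨aeval α P.g, hg, ?_⟩
  let L := Localization.Away (aeval α P.g)
  have hα0 : aeval α P.f = 0 := by
    rw [aeval_def, ← eval_map, hs, eval_multiset_prod, Multiset.map_map]
    exact Multiset.prod_eq_zero (Multiset.mem_map.2 ⟨α, hα, by simp⟩)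
  have hM : P.HasMap (algebraMap S' L α) := by
    constructor
    · rw [aeval_algebraMap_apply, hα0, map_zero]
    · rw [aeval_algebraMap_apply]
      exact IsLocalization.Away.algebraMap_isUnit _
  let φ : S →ₐ[R] L := (P.P.lift (algebraMap S' L α) hM).comp P.equivRing.toAlgHom
  let b' : L →ₐ[R] Q.ResidueField :=
    IsLocalization.liftAlgHom (M := Submonoid.powers (aeval α P.g)) (f := b) (by
      rintro ⟨_, n, rfl⟩
      simp only [map_pow]
      exact hgu.pow n)
  have hb' : ∀ x, b' (algebraMap S' L x) = b x := fun x => IsLocalization.lift_eq _ x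
  have hφ : b'.comp φ = a := by
    refine P.hom_ext ?_
    rw [AlgHom.comp_apply, hxα, ← hb' α]
    congr 1
    show P.P.lift _ hM (P.equivRing P.x) = _
    rw [show P.equivRing P.x = P.P.X from by simp, StandardEtalePair.lift_X]
  refine ⟨φ, ?_⟩
  have hJ : RingHom.ker b' = q'.map (algebraMap S' L) := by
    conv_lhs => rw [← IsLocalization.map_under (Submonoid.powers (aeval α P.g)) L (RingHom.ker b')]
    congr 1
    ext x
    rw [Ideal.mem_comap, RingHom.mem_ker, hb', hb]
  rw [← hJ]
  ext x
  rw [Ideal.mem_comap, RingHom.mem_ker, ← AlgHom.comp_apply, hφ, ha]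

end Groth.Calg5.SplitCover
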