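import Mathlib
import Groth.Agent.S12080

/-!
Criteria for invertibility of a module.
-/

set_option autoImplicit false
set_option linter.style.haveILetI false

universe u

open TensorProduct

namespace Groth.Calg5.InvertibleCrit

/-- A finitely presented module which is free of rank one at every maximal ideal is invertible. -/
theorem invertible_of_atPrime {B M : Type u} [CommRing B] [AddCommGroup M] [Module B M]
    [Module.FinitePresentation B M]
    (h : ∀ (q : Ideal B) [q.IsMaximal],
      Nonempty (Localization.AtPrime q ⊗[B] M ≃ₗ[Localization.AtPrime q] Localization.AtPrime q)) :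
    Module.Invertible B M := by
  classical
  refine Groth.Agent.S12080.result B M
    {f | Nonempty (LocalizedModule.Away f M ≃ₗ[Localization.Away f] Localization.Away f)} ?_ fun f hf => hf
  by_contra hne
  obtain ⟨q, hq, hle⟩ := Ideal.exists_le_maximal _ hne
  obtain ⟨e⟩ := h q
  have : Module.Free (Localization.AtPrime q) (Localization.AtPrime q ⊗[B] M) := Module.Free.of_equiv e.symm
  obtain ⟨r, hr, hfree, hrank⟩ := Module.FinitePresentation.exists_free_localizedModule_powers q.primeCompl
    (TensorProduct.mk B (Localization.AtPrime q) M 1) (Localization.AtPrime q)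
  have : Nontrivial (Localization.Away r) :=
    (IsLocalization.Away.lift r (IsLocalization.map_units (M := q.primeCompl) (Localization.AtPrime q)
      ⟨r, hr⟩) : Localization.Away r →+* Localization.AtPrime q).domain_nontrivial
  have hone : Module.finrank (Localization.Away r) (LocalizedModule.Away r M) = 1 := by
    rw [hrank, e.finrank_eq, Module.finrank_self]
  exact hr (hle (Ideal.subset_span ⟨(Module.basisUnique (Fin 1) hone).equivFun.trans
    (LinearEquiv.funUnique (Fin 1) _ _)⟩))

/-- An invertible module over a semilocal ring is free of rank one. -/
theorem exists_linearEquiv_of_invertible {B M : Type u} [CommRing B] [AddCommGroup M] [Module B M]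
    [Finite (MaximalSpectrum B)] [Module.Invertible B M] : Nonempty (M ≃ₗ[B] B) :=
  Module.Invertible.free_iff_linearEquiv.mp
    (CommRing.Pic.mk_eq_one_iff_free.mp (Subsingleton.elim (CommRing.Pic.mk B M) 1))

end Groth.Calg5.InvertibleCrit
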