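import Mathlib
import Groth.Agent.Calg6.CMSop
import Groth.Agent.Ega41Adic.KaehlerRank

/-!
Complete intersections over a field: `c` equations cutting down the dimension by `c` form a regular
sequence at every prime of their zero locus.
-/

set_option autoImplicit false

universe u

open IsLocalRing RingTheory.Sequence

namespace Groth.Calg5.RelGCI

theorem length_add_height_head_le {α : Type*} [Preorder α] (l : LTSeries α) :
    (l.length : ℕ∞) + Order.height l.head ≤ Order.height l.last := by
  induction l using RelSeries.inductionOn' with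
  | singleton x => simp
  | snoc p x hx ih =>
    rw [RelSeries.snoc_length, RelSeries.head_snoc, RelSeries.last_snoc, Nat.cast_add, Nat.cast_one,
      add_right_comm]
    exact le_trans (add_le_add ih le_rfl) (Order.height_add_one_le hx)

/-- An affine subscheme of dimension `≤ n - c` of affine `n`-space has codimension `≥ c`. -/
theorem le_height_of_quotient {k : Type u} [Field k] {n c : ℕ} (hc : c ≤ n)
    (I : Ideal (MvPolynomial (Fin n) k))
    (hI : ringKrullDim (MvPolynomial (Fin n) k ⧸ I) ≤ ((n - c : ℕ) : WithBot ℕ∞))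
    (p : Ideal (MvPolynomial (Fin n) k)) [p.IsPrime] (hp : I ≤ p) : (c : ℕ∞) ≤ p.height := by
  have h1 := Groth.Ega41Adic.height_add_ringKrullDim_quotient k (Fin n) p
  rw [Nat.card_eq_fintype_card, Fintype.card_fin] at h1
  have h2 : ringKrullDim (MvPolynomial (Fin n) k ⧸ p) ≤ ((n - c : ℕ) : WithBot ℕ∞) :=
    le_trans (ringKrullDim_le_of_surjective (Ideal.Quotient.factor hp)
      (Ideal.Quotient.factor_surjective hp)) hI
  generalize p.height = e at h1
  induction e using ENat.recTopCoe with
  | top => exact le_top
  | coe e =>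
    have h3 : ((n : ℕ) : WithBot ℕ∞) ≤ ((e + (n - c) : ℕ) : WithBot ℕ∞) := by
      rw [← h1, Nat.cast_add]
      exact add_le_add_right h2 _
    have h4 : n ≤ e + (n - c) := by exact_mod_cast h3
    exact_mod_cast (show c ≤ e by omega)

/-- `c` polynomials cutting affine `n`-space down to dimension `≤ n - c` form a regular sequence at
every prime containing them. -/
theorem isWeaklyRegular_atPrime_of_dim_le {k : Type u} [Field k] {n c : ℕ} (hc : c ≤ n)
    (F : Fin c → MvPolynomial (Fin n) k)
    (hdim : ringKrullDim (MvPolynomial (Fin n) k ⧸ Ideal.span (Set.range F)) ≤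
      ((n - c : ℕ) : WithBot ℕ∞))
    (q : Ideal (MvPolynomial (Fin n) k)) [q.IsPrime] (hq : Ideal.span (Set.range F) ≤ q) :
    IsWeaklyRegular (Localization.AtPrime q)
      ((List.ofFn F).map (algebraMap (MvPolynomial (Fin n) k) (Localization.AtPrime q))) := by
  set B := Localization.AtPrime q
  have : IsRegularLocalRing B := inferInstance
  have hmem : ∀ x ∈ (List.ofFn F).map (algebraMap (MvPolynomial (Fin n) k) B), x ∈ maximalIdeal B := by
    simp only [List.mem_map, List.mem_ofFn, forall_exists_index, and_imp]
    rintro _ x i rfl rfl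
    exact (IsLocalization.AtPrime.to_map_mem_maximal_iff B q _).mpr
      (hq (Ideal.subset_span ⟨i, rfl⟩))
  refine Groth.Calg6.isWeaklyRegular_of_supportDim_add_length_le _ B
    (Groth.Calg6.isCohenMacaulayModule_of_isRegularLocalRing B) hmem ?_
  rw [Module.supportDim_self_eq_ringKrullDim, List.length_map, List.length_ofFn, smul_eq_mul,
    Ideal.mul_top, Module.supportDim_quotient_eq_ringKrullDim]
  obtain ⟨d, hd⟩ : ∃ d : ℕ, ringKrullDim B = (d : WithBot ℕ∞) := by
    have h1 : ringKrullDim B < ⊤ := ringKrullDim_lt_top
    have h2 : (0 : WithBot ℕ∞) ≤ ringKrullDim B := ringKrullDim_nonneg_of_nontrivial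
    generalize ringKrullDim B = e at h1 h2
    induction e with
    | bot => simp at h2
    | coe e =>
      induction e using ENat.recTopCoe with
      | top => exact absurd h1 (lt_irrefl _)
      | coe e => exact ⟨e, rfl⟩
  set J := Ideal.ofList ((List.ofFn F).map (algebraMap (MvPolynomial (Fin n) k) B))
  -- a chain of primes containing the sequence sits above a prime of height at least `c`
  have hchain : ∀ l : LTSeries (PrimeSpectrum (B ⧸ J)), l.length + c ≤ d := by
    intro l
    let g : PrimeSpectrum (B ⧸ J) → PrimeSpectrum B := PrimeSpectrum.comap (Ideal.Quotient.mk J)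
    have hmono : StrictMono g := Monotone.strictMono_of_injective
      (fun a b hab => Ideal.comap_mono hab)
      (PrimeSpectrum.comap_injective_of_surjective _ Ideal.Quotient.mk_surjective)
    let l' : LTSeries (PrimeSpectrum B) := l.map g hmono
    have hhead : (c : ℕ∞) ≤ Order.height l'.head := by
      change (c : ℕ∞) ≤ Order.height l'.head
      have hle : Ideal.span (Set.range F) ≤ l'.head.asIdeal.under (MvPolynomial (Fin n) k) := by
        rw [Ideal.span_le]
        rintro _ ⟨i, rfl⟩
        change algebraMap (MvPolynomial (Fin n) k) B (F i) ∈ l'.head.asIdeal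
        rw [LTSeries.head_map]
        change Ideal.Quotient.mk J (algebraMap (MvPolynomial (Fin n) k) B (F i)) ∈ l.head.asIdeal
        have hFJ : algebraMap (MvPolynomial (Fin n) k) B (F i) ∈ J :=
          Ideal.subset_span (List.mem_map_of_mem (List.mem_ofFn.mpr ⟨i, rfl⟩))
        rw [Ideal.Quotient.eq_zero_iff_mem.mpr hFJ]
        exact zero_mem _
      have := le_height_of_quotient hc _ hdim _ hle
      rw [IsLocalization.height_under q.primeCompl, PrimeSpectrum.height_eq_orderHeight] at this
      exact this
    have h5 : ((l.length + c : ℕ) : ℕ∞) ≤ Order.height l'.last := by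
      push_cast
      refine le_trans (add_le_add le_rfl hhead) (length_add_height_head_le l')
    have h6 : ((Order.height l'.last : ℕ∞) : WithBot ℕ∞) ≤ (((d : ℕ∞)) : WithBot ℕ∞) :=
      le_trans (Order.height_le_krullDim _) hd.le
    rw [WithBot.coe_le_coe] at h6
    exact_mod_cast h5.trans h6
  rw [hd]
  have hdim' : ringKrullDim (B ⧸ J) ≤ ((d - c : ℕ) : WithBot ℕ∞) :=
    iSup_le fun l => by exact_mod_cast Nat.le_sub_of_add_le (hchain l)
  have hcd : c ≤ d := by
    have : Nontrivial (B ⧸ J) := Ideal.Quotient.nontrivial_iff.mpr fun h => by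
      have h1 : J ≤ maximalIdeal B := Ideal.span_le.mpr hmem
      exact (maximalIdeal.isMaximal B).ne_top (top_le_iff.mp (h ▸ h1))
    obtain ⟨x⟩ := (inferInstance : Nonempty (PrimeSpectrum (B ⧸ J)))
    have := hchain (RelSeries.singleton _ x)
    simpa using this
  calc ringKrullDim (B ⧸ J) + (c : WithBot ℕ∞) ≤ ((d - c : ℕ) : WithBot ℕ∞) + (c : WithBot ℕ∞) :=
        add_le_add_left hdim' _
    _ = (d : WithBot ℕ∞) := by rw [← Nat.cast_add, Nat.sub_add_cancel hcd]

end Groth.Calg5.RelGCI
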