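import Mathlib
import Groth.Agent.FlatMorOne.FlatnessCriteria
import Groth.Agent.Calg5.RelGCIField

/-!
The fibrewise criterion for regular sequences with flat quotients, and its application to
polynomial rings over a Noetherian base.
-/

set_option autoImplicit false
set_option linter.style.haveILetI false

universe u

open IsLocalRing RingTheory.Sequence TensorProduct
open scoped Pointwise

namespace Groth.Calg5.RelGCI

section Criterion

variable {A S : Type u} [CommRing A] [IsLocalRing A] [CommRing S] [IsLocalRing S] [IsNoetherianRing S]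
  [Algebra A S] [IsLocalHom (algebraMap A S)]

/-- A sequence that is weakly regular on the closed fibre of a flat module is weakly regular with
flat quotients. -/
theorem regular_flat_of_fibre (l : List S) :
    ∀ (M : Type u) [AddCommGroup M] [Module A M] [Module S M] [IsScalarTower A S M]
      [Module.Finite S M] [Module.Flat A M],
      IsWeaklyRegular (M ⊗[A] ResidueField A) l →
        IsWeaklyRegular M l ∧
          ∀ i, Module.Flat A (M ⧸ Ideal.ofList (l.take i) • (⊤ : Submodule S M)) := by
  induction l with
  | nil =>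
    intro M _ _ _ _ _ _ _
    exact ⟨IsWeaklyRegular.nil S M, fun i => Module.Flat.of_linearEquiv
      ((Submodule.quotEquivOfEqBot _ (by simp)).restrictScalars A)⟩
  | cons x l ih =>
    intro M _ _ _ _ _ _ h
    rw [isWeaklyRegular_cons_iff] at h
    obtain ⟨hx, hl⟩ := h
    let u : M →ₗ[A] M := (LinearMap.lsmul S M x).restrictScalars A
    have hu : Function.Injective (u.lTensor (ResidueField A)) := by
      refine (LinearMap.lTensor_inj_iff_rTensor_inj _ _).mpr ?_
      have e : ⇑(u.rTensor (ResidueField A)) = fun z => x • z := by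
        funext z
        induction z using TensorProduct.induction_on with
        | zero => simp
        | tmul m a => rw [LinearMap.rTensor_tmul, TensorProduct.smul_tmul']; rfl
        | add y z hy hz => rw [map_add, hy, hz, smul_add]
      rw [e]; exact hx
    obtain ⟨hinj, hflat⟩ := Groth.FlatMorOne.injective_and_flat_coker S u hu
    have hrange : LinearMap.range u = (x • (⊤ : Submodule S M)).restrictScalars A := by
      ext m
      rw [LinearMap.mem_range, Submodule.restrictScalars_mem, Submodule.mem_smul_pointwise_iff_exists]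
      exact ⟨fun ⟨b, hb⟩ => ⟨b, trivial, hb⟩, fun ⟨b, _, hb⟩ => ⟨b, hb⟩⟩
    haveI : Module.Flat A (QuotSMulTop x M) :=
      Module.Flat.of_linearEquiv ((Submodule.quotEquivOfEq _ _ hrange).trans
        (Submodule.Quotient.restrictScalarsEquiv A (x • (⊤ : Submodule S M)))).symm
    let π : M ⊗[A] ResidueField A →ₗ[S] QuotSMulTop x M ⊗[A] ResidueField A :=
      AlgebraTensorModule.map (x • (⊤ : Submodule S M)).mkQ LinearMap.id
    have hπs : Function.Surjective π := by
      intro z
      induction z using TensorProduct.induction_on with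
      | zero => exact ⟨0, map_zero π⟩
      | tmul m a =>
        obtain ⟨m, rfl⟩ := Submodule.mkQ_surjective _ m
        exact ⟨m ⊗ₜ a, rfl⟩
      | add y z hy hz =>
        obtain ⟨y, rfl⟩ := hy; obtain ⟨z, rfl⟩ := hz
        exact ⟨y + z, map_add π y z⟩
    have hπk : LinearMap.ker π = x • (⊤ : Submodule S (M ⊗[A] ResidueField A)) := by
      have hex : Function.Exact u ((x • (⊤ : Submodule S M)).mkQ.restrictScalars A) := by
        intro m
        change Submodule.Quotient.mk m = 0 ↔ _
        rw [Submodule.Quotient.mk_eq_zero, Submodule.mem_smul_pointwise_iff_exists]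
        exact ⟨fun ⟨b, _, hb⟩ => ⟨b, hb⟩, fun ⟨b, hb⟩ => ⟨b, trivial, hb⟩⟩
      have := rTensor_exact (ResidueField A) hex (Submodule.mkQ_surjective _)
      have e : ∀ w, u.rTensor (ResidueField A) w = x • w := fun w => by
        induction w using TensorProduct.induction_on with
        | zero => simp
        | tmul m a => rw [LinearMap.rTensor_tmul, TensorProduct.smul_tmul']; rfl
        | add y z hy hz => rw [map_add, hy, hz, smul_add]
      ext z
      rw [LinearMap.mem_ker, Submodule.mem_smul_pointwise_iff_exists]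
      refine (this z).trans ⟨fun ⟨w, hw⟩ => ⟨w, trivial, (e w).symm.trans hw⟩,
        fun ⟨w, _, hw⟩ => ⟨w, (e w).trans hw⟩⟩
    obtain ⟨h1, h2⟩ := ih (QuotSMulTop x M)
      (((Submodule.quotEquivOfEq _ _ hπk.symm).trans
        (π.quotKerEquivOfSurjective hπs)).isWeaklyRegular_congr l |>.mp hl)
    refine ⟨IsWeaklyRegular.cons (fun a b hab => hinj hab) h1, fun i => ?_⟩
    cases i with
    | zero =>
      exact Module.Flat.of_linearEquiv ((Submodule.quotEquivOfEqBot _ (by simp)).restrictScalars A)
    | succ i =>
      haveI := h2 i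
      rw [List.take_succ_cons]
      exact Module.Flat.of_linearEquiv
        ((Submodule.quotOfListConsSMulTopEquivQuotSMulTopInner M x (l.take i)).restrictScalars A)

end Criterion

section Fibre

variable {R : Type u} [CommRing R] {n : ℕ} (p : Ideal R) [p.IsPrime]

theorem exists_mul_eq_map (z : MvPolynomial (Fin n) p.ResidueField) :
    ∃ r : R, r ∉ p ∧ ∃ b : MvPolynomial (Fin n) R,
      MvPolynomial.C (algebraMap R p.ResidueField r) * z = MvPolynomial.map (algebraMap R p.ResidueField) b := by
  induction z using MvPolynomial.induction_on with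
  | C a =>
    obtain ⟨x, y, hy, rfl⟩ := IsFractionRing.div_surjective (R ⧸ p) a
    obtain ⟨x, rfl⟩ := Ideal.Quotient.mk_surjective x
    obtain ⟨y, rfl⟩ := Ideal.Quotient.mk_surjective y
    have hy0 : algebraMap R p.ResidueField y ≠ 0 := fun h =>
      nonZeroDivisors.ne_zero hy (Ideal.Quotient.eq_zero_iff_mem.mpr
        (Ideal.algebraMap_residueField_eq_zero.mp h))
    refine ⟨y, fun h => hy0 (Ideal.algebraMap_residueField_eq_zero.mpr h), MvPolynomial.C x, ?_⟩
    rw [MvPolynomial.map_C, ← map_mul]
    congr 1
    rw [← Ideal.Quotient.algebraMap_eq, ← IsScalarTower.algebraMap_apply,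
      ← IsScalarTower.algebraMap_apply, mul_div_cancel₀ _ hy0]
  | add a b ha hb =>
    obtain ⟨r, hr, a', ha'⟩ := ha
    obtain ⟨s, hs, b', hb'⟩ := hb
    refine ⟨r * s, fun h => ((‹p.IsPrime›.mem_or_mem h).elim hr hs),
      MvPolynomial.C s * a' + MvPolynomial.C r * b', ?_⟩
    rw [map_add, map_mul (MvPolynomial.map _), map_mul (MvPolynomial.map _), MvPolynomial.map_C,
      MvPolynomial.map_C, ← ha', ← hb', map_mul, map_mul]
    ring
  | mul_X a i ha =>
    obtain ⟨r, hr, a', ha'⟩ := ha
    exact ⟨r, hr, a' * MvPolynomial.X i, by rw [← mul_assoc, ha', map_mul, MvPolynomial.map_X]⟩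

theorem map_eq_zero_iff_mem (a : MvPolynomial (Fin n) R) :
    MvPolynomial.map (algebraMap R p.ResidueField) a = 0 ↔ a ∈ p.map MvPolynomial.C := by
  rw [MvPolynomial.mem_map_C_iff, MvPolynomial.ext_iff]
  simp only [MvPolynomial.coeff_map, MvPolynomial.coeff_zero, Ideal.algebraMap_residueField_eq_zero]

theorem exists_prime_comap (q' : Ideal (MvPolynomial (Fin n) R)) [q'.IsPrime]
    (hq : q'.comap MvPolynomial.C = p) :
    ∃ q : Ideal (MvPolynomial (Fin n) p.ResidueField),
      q.IsPrime ∧ q.comap (MvPolynomial.map (algebraMap R p.ResidueField)) = q' := by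
  set φ := MvPolynomial.map (σ := Fin n) (algebraMap R p.ResidueField)
  refine (Ideal.comap_map_eq_self_iff_of_isPrime q').mp (le_antisymm (fun a ha => ?_) Ideal.le_comap_map)
  have key : ∀ y ∈ q'.map φ, ∃ r : R, r ∉ p ∧ ∃ b ∈ q', MvPolynomial.C (algebraMap R p.ResidueField r) * y = φ b := by
    intro y hy
    refine Submodule.span_induction ?_ ?_ ?_ ?_ hy
    · rintro _ ⟨b, hb, rfl⟩
      exact ⟨1, fun h => ‹p.IsPrime›.ne_top ((Ideal.eq_top_iff_one p).mpr h), b, hb, by simp⟩
    · exact ⟨1, fun h => ‹p.IsPrime›.ne_top ((Ideal.eq_top_iff_one p).mpr h), 0, zero_mem _, by simp⟩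
    · rintro a b - - ⟨r, hr, a', ha', ea⟩ ⟨s, hs, b', hb', eb⟩
      refine ⟨r * s, fun h => ((‹p.IsPrime›.mem_or_mem h).elim hr hs),
        MvPolynomial.C s * a' + MvPolynomial.C r * b',
        add_mem (Ideal.mul_mem_left _ _ ha') (Ideal.mul_mem_left _ _ hb'), ?_⟩
      rw [map_add, map_mul φ, map_mul φ, MvPolynomial.map_C, MvPolynomial.map_C, ← ea, ← eb,
        map_mul, map_mul]
      ring
    · rintro z a - ⟨r, hr, a', ha', ea⟩
      obtain ⟨s, hs, z', ez⟩ := exists_mul_eq_map p z
      refine ⟨s * r, fun h => ((‹p.IsPrime›.mem_or_mem h).elim hs hr), z' * a',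
        Ideal.mul_mem_left _ _ ha', ?_⟩
      rw [map_mul φ, ← ez, ← ea, map_mul, map_mul, smul_eq_mul]
      ring
  obtain ⟨r, hr, b, hb, hab⟩ := key _ ha
  have h1 : MvPolynomial.C r * a - b ∈ q' := by
    refine (Ideal.map_le_iff_le_comap.mpr hq.ge) ((map_eq_zero_iff_mem p _).mp ?_)
    rw [map_sub, map_mul, MvPolynomial.map_C, hab, sub_self]
  have h2 : MvPolynomial.C r * a ∈ q' := by simpa using add_mem h1 hb
  exact (‹q'.IsPrime›.mem_or_mem h2).resolve_left fun h => hr (hq ▸ h)

end Fibre

/-- Over a Noetherian base, a sequence cutting the fibre through `q'` down by its length is regular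
with flat quotients at `q'`. -/
theorem regular_flat_noetherian {R : Type u} [CommRing R] [IsNoetherianRing R] {n c : ℕ}
    (F : Fin c → MvPolynomial (Fin n) R) (q' : Ideal (MvPolynomial (Fin n) R)) [q'.IsPrime]
    (hq' : Ideal.span (Set.range F) ≤ q') (hc : c ≤ n) (p : Ideal R) [p.IsPrime]
    (hp : q'.comap (MvPolynomial.C (R := R)) = p)
    (hdim : ringKrullDim (MvPolynomial (Fin n) p.ResidueField ⧸
      Ideal.span (Set.range fun i => MvPolynomial.map (algebraMap R p.ResidueField) (F i))) ≤
        ((n - c : ℕ) : WithBot ℕ∞)) :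
    IsWeaklyRegular (Localization.AtPrime q')
        ((List.ofFn F).map (algebraMap (MvPolynomial (Fin n) R) (Localization.AtPrime q'))) ∧
      ∀ i, Module.Flat R (Localization.AtPrime q' ⧸ Ideal.ofList
        (((List.ofFn F).take i).map (algebraMap (MvPolynomial (Fin n) R) (Localization.AtPrime q')))) := by
  obtain ⟨q, hq, hqc⟩ := exists_prime_comap p q' hp
  set φ := MvPolynomial.map (σ := Fin n) (algebraMap R p.ResidueField) with hφ
  let θ := Localization.localRingHom p q' (MvPolynomial.C (R := R)) hp.symm
  letI : Algebra (Localization.AtPrime p) (Localization.AtPrime q') := θ.toAlgebra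
  haveI : IsLocalHom (algebraMap (Localization.AtPrime p) (Localization.AtPrime q')) :=
    Localization.isLocalHom_localRingHom p q' _ hp.symm
  haveI : IsScalarTower R (Localization.AtPrime p) (Localization.AtPrime q') :=
    IsScalarTower.of_algebraMap_eq fun r => by
      change _ = θ _
      rw [Localization.localRingHom_to_map, IsScalarTower.algebraMap_apply R (MvPolynomial (Fin n) R)]
      rfl
  haveI : Module.Flat R (Localization.AtPrime q') := Module.Flat.trans R (MvPolynomial (Fin n) R) _
  haveI : Module.Flat (Localization.AtPrime p) (Localization.AtPrime q') :=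
    (Module.flat_iff_of_isLocalization (Localization.AtPrime p) p.primeCompl _).mpr inferInstance
  let ψ := Localization.localRingHom q' q φ hqc.symm
  letI : Algebra (Localization.AtPrime q') (Localization.AtPrime q) := ψ.toAlgebra
  have hψs : Function.Surjective ψ := by
    intro y
    obtain ⟨b, u, rfl⟩ := IsLocalization.exists_mk'_eq q.primeCompl y
    obtain ⟨r, hr, b', hb⟩ := exists_mul_eq_map p b
    obtain ⟨s, hs, u', hu⟩ := exists_mul_eq_map p (u : MvPolynomial (Fin n) p.ResidueField)
    have hC : ∀ t : R, t ∉ p → φ (MvPolynomial.C t) ∉ q := fun t ht hmem =>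
      ht (hp ▸ (show MvPolynomial.C t ∈ q' from hqc ▸ hmem))
    have hden : u' * MvPolynomial.C r ∈ q'.primeCompl := by
      intro hmem
      have : φ (u' * MvPolynomial.C r) ∈ q := (hqc ▸ hmem : _ ∈ q.comap φ)
      rw [map_mul, ← hu] at this
      rcases hq.mem_or_mem this with h | h
      · rcases hq.mem_or_mem h with h | h
        · exact hC s hs (by rwa [MvPolynomial.map_C])
        · exact u.2 h
      · exact hC r hr h
    refine ⟨IsLocalization.mk' _ (b' * MvPolynomial.C s) (⟨_, hden⟩ : q'.primeCompl), ?_⟩
    rw [Localization.localRingHom_mk']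
    apply IsLocalization.mk'_eq_of_eq
    simp only [map_mul, hφ, ← hb, ← hu, MvPolynomial.map_C]
    ring
  have hψk : RingHom.ker ψ =
      (maximalIdeal (Localization.AtPrime p)).map (algebraMap _ (Localization.AtPrime q')) := by
    rw [← IsLocalization.AtPrime.map_eq_maximalIdeal p (Localization.AtPrime p), Ideal.map_map]
    have ecomp : (algebraMap (Localization.AtPrime p) (Localization.AtPrime q')).comp
        (algebraMap R (Localization.AtPrime p)) =
        (algebraMap (MvPolynomial (Fin n) R) (Localization.AtPrime q')).comp MvPolynomial.C := by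
      ext r
      exact Localization.localRingHom_to_map p q' _ hp.symm r
    rw [ecomp, ← Ideal.map_map]
    refine le_antisymm (fun z hz => ?_) (Ideal.map_le_iff_le_comap.mpr fun a ha => ?_)
    · obtain ⟨a, t, rfl⟩ := IsLocalization.exists_mk'_eq q'.primeCompl z
      rw [RingHom.mem_ker, Localization.localRingHom_mk', IsLocalization.mk'_eq_zero_iff] at hz
      obtain ⟨v, hv⟩ := hz
      have hv0 : (v : MvPolynomial (Fin n) p.ResidueField) ≠ 0 := fun h => v.2 (h ▸ q.zero_mem)
      rw [IsLocalization.mk'_mem_map_algebraMap_iff q'.primeCompl]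
      have ha0 := (map_eq_zero_iff_mem p a).mp ((mul_eq_zero.mp hv).resolve_left hv0)
      exact ⟨1, one_mem _, by rwa [one_mul]⟩
    · rw [Ideal.mem_comap, RingHom.mem_ker, Localization.localRingHom_to_map,
        (map_eq_zero_iff_mem p a).mpr ha, map_zero]
  let e : (Localization.AtPrime q') ⊗[Localization.AtPrime p] (ResidueField (Localization.AtPrime p))
      ≃ₗ[Localization.AtPrime q'] Localization.AtPrime q :=
    (Algebra.TensorProduct.quotIdealMapEquivTensorQuot (Localization.AtPrime q')
        (maximalIdeal (Localization.AtPrime p))).symm.toLinearEquiv ≪≫ₗ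
      Submodule.quotEquivOfEq _ (LinearMap.ker (Algebra.linearMap (Localization.AtPrime q') (Localization.AtPrime q))) hψk.symm ≪≫ₗ
      (Algebra.linearMap (Localization.AtPrime q') (Localization.AtPrime q)).quotKerEquivOfSurjective hψs
  have hqF : Ideal.span (Set.range fun i => φ (F i)) ≤ q := by
    rw [Ideal.span_le]
    rintro _ ⟨i, rfl⟩
    exact (hqc ▸ hq' (Ideal.subset_span ⟨i, rfl⟩) : F i ∈ q.comap φ)
  have hfib := isWeaklyRegular_atPrime_of_dim_le hc (fun i => φ (F i)) hdim q hqF
  set l := (List.ofFn F).map (algebraMap (MvPolynomial (Fin n) R) (Localization.AtPrime q')) with hl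
  have hlψ : l.map ψ = (List.ofFn fun i => φ (F i)).map
      (algebraMap (MvPolynomial (Fin n) p.ResidueField) (Localization.AtPrime q)) := by
    simp only [hl, List.map_map, List.map_ofFn]
    congr 1
    funext i
    exact Localization.localRingHom_to_map q' q φ hqc.symm (F i)
  have hfib' : IsWeaklyRegular (Localization.AtPrime q) l :=
    (isWeaklyRegular_map_algebraMap_iff (Localization.AtPrime q) _ l).mp (hlψ ▸ hfib)
  obtain ⟨h1, h2⟩ := regular_flat_of_fibre (A := Localization.AtPrime p) l (Localization.AtPrime q')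
    ((e.isWeaklyRegular_congr l).mpr hfib')
  refine ⟨h1, fun i => ?_⟩
  haveI := h2 i
  have hI : Ideal.ofList (((List.ofFn F).take i).map (algebraMap (MvPolynomial (Fin n) R) (Localization.AtPrime q'))) =
      Ideal.ofList (l.take i) • (⊤ : Submodule (Localization.AtPrime q') (Localization.AtPrime q')) := by
    rw [hl, List.map_take, smul_eq_mul, Ideal.mul_top]
  haveI : Module.Flat R (Localization.AtPrime q' ⧸
      Ideal.ofList (l.take i) • (⊤ : Submodule (Localization.AtPrime q') (Localization.AtPrime q'))) :=
    (Module.flat_iff_of_isLocalization (Localization.AtPrime p) p.primeCompl _).mp inferInstance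
  exact Module.Flat.of_linearEquiv ((Submodule.quotEquivOfEq _ _ hI).restrictScalars R)

end Groth.Calg5.RelGCI
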