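import Mathlib
import Groth.Agent.Variety2.DimAffine
import Groth.Agent.Calg5.RelGCINoeth

/-!
Sequences cutting a fibre down by their length are regular with flat quotients near that fibre,
over an arbitrary base ring (descent to a Noetherian subring).
-/

set_option autoImplicit false
set_option linter.style.haveILetI false

universe u

open IsLocalRing RingTheory.Sequence TensorProduct
open scoped Pointwise

namespace Groth.Calg5.RelGCI

attribute [local instance] MvPolynomial.algebraMvPolynomial

/-- A field extension does not lower the dimension of a finitely generated algebra. -/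
theorem ringKrullDim_le_tensor (k K A : Type u) [Field k] [Field K] [Algebra k K] [CommRing A]
    [Algebra k A] [Algebra.FiniteType k A] : ringKrullDim A ≤ ringKrullDim (K ⊗[k] A) := by
  cases subsingleton_or_nontrivial A
  · simp [ringKrullDim_eq_bot_of_subsingleton]
  obtain ⟨s, g, hinj, hfin⟩ := exists_finite_inj_algHom_of_fg k A
  letI := g.toRingHom.toAlgebra
  haveI : Module.Finite (MvPolynomial (Fin s) k) A := hfin
  let G := Algebra.TensorProduct.map (AlgHom.id K K) g
  have hG : Function.Injective G :=
    Module.Flat.lTensor_preserves_injective_linearMap (M := K) g.toLinearMap hinj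
  have hGf : G.toRingHom.Finite := by
    letI := G.toRingHom.toAlgebra
    haveI : IsScalarTower K (K ⊗[k] MvPolynomial (Fin s) k) (K ⊗[k] A) :=
      IsScalarTower.of_algebraMap_eq' G.comp_algebraMap.symm
    obtain ⟨T, hT⟩ := Module.Finite.fg_top (R := MvPolynomial (Fin s) k) (M := A)
    classical
    refine ⟨⟨T.image fun a => (1 : K) ⊗ₜ[k] a, eq_top_iff.mpr ?_⟩⟩
    intro z hz
    clear hz
    induction z using TensorProduct.induction_on with
    | zero => exact zero_mem _
    | add y z hy hz => exact add_mem hy hz
    | tmul a b =>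
      have hb : b ∈ Submodule.span (MvPolynomial (Fin s) k) (T : Set A) := hT ▸ Submodule.mem_top
      induction hb using Submodule.span_induction with
      | mem x hx =>
        rw [show a ⊗ₜ[k] x = (a ⊗ₜ[k] (1 : MvPolynomial (Fin s) k)) • ((1 : K) ⊗ₜ[k] x) by
          change _ = G (a ⊗ₜ 1) * _
          simp [G]]
        exact Submodule.smul_mem _ _ (Submodule.subset_span (by simpa using ⟨x, hx, rfl⟩))
      | zero => simp
      | add x y _ _ hx hy => rw [TensorProduct.tmul_add]; exact add_mem hx hy
      | smul r x _ hx =>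
        rw [show a ⊗ₜ[k] (r • x) = ((1 : K) ⊗ₜ[k] r) • (a ⊗ₜ[k] x) by
          change _ = G (1 ⊗ₜ r) * _
          simp [G]
          rfl]
        exact Submodule.smul_mem _ _ hx
  letI := G.toRingHom.toAlgebra
  haveI : Module.Finite (K ⊗[k] MvPolynomial (Fin s) k) (K ⊗[k] A) := hGf
  rw [Groth.Variety2.Dim.ringKrullDim_eq_of_isIntegral (MvPolynomial (Fin s) k) A hinj,
    Groth.Variety2.Dim.ringKrullDim_eq_of_isIntegral (K ⊗[k] MvPolynomial (Fin s) k) (K ⊗[k] A) hG,
    ringKrullDim_eq_of_ringEquiv (MvPolynomial.algebraTensorAlgEquiv k K).toRingEquiv,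
    MvPolynomial.ringKrullDim_of_isNoetherianRing, MvPolynomial.ringKrullDim_of_isNoetherianRing,
    ringKrullDim_eq_zero_of_field, ringKrullDim_eq_zero_of_field]

/-- Base change of a quotient of a polynomial ring. -/
noncomputable def tensorQuotientEquiv {R : Type u} [CommRing R] (K : Type u) [CommRing K] [Algebra R K]
    {n : ℕ} {ι : Type*} (F : ι → MvPolynomial (Fin n) R) :
    K ⊗[R] (MvPolynomial (Fin n) R ⧸ Ideal.span (Set.range F)) ≃ₐ[K]
      MvPolynomial (Fin n) K ⧸ Ideal.span (Set.range fun i => MvPolynomial.map (algebraMap R K) (F i)) :=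
  (Algebra.TensorProduct.tensorQuotientEquiv K _ K _).trans
    (Ideal.quotientEquivAlg _ _ (MvPolynomial.algebraTensorAlgEquiv R K) (by
      rw [Ideal.map_span, Ideal.map_span]
      congr 1
      rw [← Set.range_comp, ← Set.range_comp]
      congr 1
      funext i
      simp [MvPolynomial.algebraTensorAlgEquiv_tmul]))

/-- The dimension of the fibre can be computed over the residue field of the contracted prime. -/
theorem ringKrullDim_fibre_le {R₀ R : Type u} [CommRing R₀] [CommRing R] [Algebra R₀ R] {n : ℕ}
    {ι : Type*} [Finite ι] (G : ι → MvPolynomial (Fin n) R₀) (p : Ideal R) [p.IsPrime]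
    (p₀ : Ideal R₀) [p₀.IsPrime] (hp : p₀ = p.comap (algebraMap R₀ R)) :
    ringKrullDim (MvPolynomial (Fin n) p₀.ResidueField ⧸
        Ideal.span (Set.range fun i => MvPolynomial.map (algebraMap R₀ p₀.ResidueField) (G i))) ≤
      ringKrullDim (MvPolynomial (Fin n) p.ResidueField ⧸
        Ideal.span (Set.range fun i => MvPolynomial.map (algebraMap R p.ResidueField)
          (MvPolynomial.map (algebraMap R₀ R) (G i)))) := by
  let f := Ideal.ResidueField.map p₀ p (algebraMap R₀ R) hp
  letI := f.toAlgebra
  have hf : (algebraMap p₀.ResidueField p.ResidueField).comp (algebraMap R₀ p₀.ResidueField) =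
      (algebraMap R p.ResidueField).comp (algebraMap R₀ R) := by
    ext r
    exact Ideal.ResidueField.map_algebraMap p₀ p _ hp r
  refine (ringKrullDim_le_tensor p₀.ResidueField p.ResidueField _).trans (le_of_eq ?_)
  rw [ringKrullDim_eq_of_ringEquiv (tensorQuotientEquiv p.ResidueField
    fun i => MvPolynomial.map (algebraMap R₀ p₀.ResidueField) (G i)).toRingEquiv]
  rw [show (fun i => MvPolynomial.map (algebraMap p₀.ResidueField p.ResidueField)
      (MvPolynomial.map (algebraMap R₀ p₀.ResidueField) (G i))) = fun i => MvPolynomial.map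
        (algebraMap R p.ResidueField) (MvPolynomial.map (algebraMap R₀ R) (G i)) from funext fun i => by
    rw [MvPolynomial.map_map, MvPolynomial.map_map, hf]]

/-- Injectivity passes along a pushout square. -/
theorem lTensor_injective_of_isPushout (R₀ R P₀ P : Type u) [CommRing R₀] [CommRing R] [CommRing P₀]
    [CommRing P] [Algebra R₀ R] [Algebra R₀ P₀] [Algebra R₀ P] [Algebra R P] [Algebra P₀ P]
    [IsScalarTower R₀ R P] [IsScalarTower R₀ P₀ P] [Algebra.IsPushout R₀ R P₀ P] {Q : Type u}
    [AddCommGroup Q] [Module R₀ Q] [Module P₀ Q] [IsScalarTower R₀ P₀ Q] (mu : Q →ₗ[P₀] Q)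
    (h : Function.Injective ((mu.restrictScalars R₀).lTensor R)) :
    Function.Injective (mu.lTensor P) := by
  let e := Algebra.IsPushout.cancelBaseChange R₀ R P₀ P Q
  have hnat : ∀ z, mu.lTensor P (e.symm z) = e.symm ((mu.restrictScalars R₀).lTensor R z) := by
    intro z
    induction z using TensorProduct.induction_on with
    | zero => simp
    | add a b ha hb => simp only [map_add, ha, hb]
    | tmul s m =>
      have hs : ∀ m', e.symm (s ⊗ₜ m') = algebraMap R P s ⊗ₜ m' := by
        intro m'
        have h1 : e (algebraMap R P s ⊗ₜ m') = s ⊗ₜ m' := by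
          rw [Algebra.algebraMap_eq_smul_one, ← TensorProduct.smul_tmul', map_smul,
            Algebra.IsPushout.cancelBaseChange_tmul, TensorProduct.smul_tmul', smul_eq_mul, mul_one]
        rw [← h1, LinearEquiv.symm_apply_apply]
      rw [LinearMap.lTensor_tmul, hs, hs, LinearMap.lTensor_tmul]
      rfl
  intro a b hab
  obtain ⟨a, rfl⟩ := e.symm.surjective a
  obtain ⟨b, rfl⟩ := e.symm.surjective b
  rw [hnat, hnat] at hab
  rw [h (e.symm.injective hab)]

/-- Localisations of flat modules are flat. -/
theorem flat_localizedModule {R P X : Type u} [CommRing R] [CommRing P] [Algebra R P]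
    [AddCommGroup X] [Module R X] [Module P X] [IsScalarTower R P X] [Module.Flat R X]
    (T : Submonoid P) : Module.Flat R (LocalizedModule T X) :=
  Module.Flat.iff_lTensor_injective.mpr fun I _ =>
    Groth.FlatMorOne.lTensor_localizedModule_injective T
      (Module.Flat.lTensor_preserves_injective_linearMap I.subtype Subtype.val_injective)

section Compare

variable {P₀ S₀ S : Type u} [CommRing P₀] [CommRing S₀] [CommRing S] [Algebra P₀ S₀] [Algebra P₀ S]
  [Algebra S₀ S] [IsScalarTower P₀ S₀ S] (M : Submonoid P₀) [IsLocalization M S₀]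

/-- Base change of a quotient of a localisation. -/
noncomputable def compareEquiv (J : Ideal S₀) :
    S ⊗[P₀] (S₀ ⧸ J) ≃ₗ[S] S ⧸ J.map (algebraMap S₀ S) :=
  haveI := IsLocalization.tensorProduct_compatibleSMul M S₀ S (S₀ ⧸ J)
  (TensorProduct.equivOfCompatibleSMul P₀ S₀ S S (S₀ ⧸ J)).symm ≪≫ₗ
    (Algebra.TensorProduct.quotIdealMapEquivTensorQuot S J).symm.toLinearEquiv

include M in
theorem isSMulRegular_quotient (J : Ideal S₀) (y : S₀)
    (h : Function.Injective (((LinearMap.lsmul S₀ (S₀ ⧸ J) y).restrictScalars P₀).lTensor S)) :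
    IsSMulRegular (S ⧸ J.map (algebraMap S₀ S)) (algebraMap S₀ S y) := by
  have key : ∀ z, compareEquiv M J (((LinearMap.lsmul S₀ (S₀ ⧸ J) y).restrictScalars P₀).lTensor S z) =
      algebraMap S₀ S y • compareEquiv M J z := by
    intro z
    rw [← map_smul]
    congr 1
    induction z using TensorProduct.induction_on with
    | zero => simp
    | add a b ha hb => simp only [map_add, smul_add, ha, hb]
    | tmul s m =>
      haveI := IsLocalization.tensorProduct_compatibleSMul M S₀ S (S₀ ⧸ J)
      rw [LinearMap.lTensor_tmul, TensorProduct.smul_tmul', smul_eq_mul, ← Algebra.smul_def]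
      exact (TensorProduct.CompatibleSMul.smul_tmul (R' := S₀) y s m).symm
  intro a b hab
  obtain ⟨a, rfl⟩ := (compareEquiv M J).surjective a
  obtain ⟨b, rfl⟩ := (compareEquiv M J).surjective b
  change algebraMap S₀ S y • compareEquiv M J a = algebraMap S₀ S y • compareEquiv M J b at hab
  rw [← key, ← key] at hab
  exact congrArg (compareEquiv M J) (h ((compareEquiv M J).injective hab))

include M in
/-- Flatness of the quotient upstairs. -/
theorem flat_quotient {R P : Type u} [CommRing R] [CommRing P] [Algebra R P] [Algebra P₀ P]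
    [Algebra P S] [Algebra R S] [IsScalarTower R P S] [IsScalarTower P₀ P S]
    (N : Submonoid P) [IsLocalization N S] (J : Ideal S₀)
    [Module.Flat R (P ⊗[P₀] (S₀ ⧸ J))] : Module.Flat R (S ⧸ J.map (algebraMap S₀ S)) := by
  haveI := flat_localizedModule (R := R) (X := P ⊗[P₀] (S₀ ⧸ J)) N
  have h := (IsLocalizedModule.iso N (TensorProduct.mk P S (P ⊗[P₀] (S₀ ⧸ J)) 1)).symm ≪≫ₗ
    LinearEquiv.refl P _
  exact Module.Flat.of_linearEquiv
    ((((compareEquiv M J).symm ≪≫ₗ
      (AlgebraTensorModule.cancelBaseChange P₀ P S S (S₀ ⧸ J)).symm).restrictScalars P ≪≫ₗ h).restrictScalars R)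

end Compare

/-- Descent: sequences defined over a Noetherian ring `R₀`. -/
theorem regular_flat_of_descent {R₀ R : Type u} [CommRing R₀] [CommRing R] [Algebra R₀ R]
    [IsNoetherianRing R₀] {n c : ℕ} (G : Fin c → MvPolynomial (Fin n) R₀)
    (q' : Ideal (MvPolynomial (Fin n) R)) [q'.IsPrime]
    (hq' : Ideal.span (Set.range fun i => MvPolynomial.map (algebraMap R₀ R) (G i)) ≤ q') (hc : c ≤ n)
    (p : Ideal R) [p.IsPrime] (hp : q'.comap (MvPolynomial.C (R := R)) = p)
    (hdim : ringKrullDim (MvPolynomial (Fin n) p.ResidueField ⧸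
      Ideal.span (Set.range fun i => MvPolynomial.map (algebraMap R p.ResidueField)
        (MvPolynomial.map (algebraMap R₀ R) (G i)))) ≤ ((n - c : ℕ) : WithBot ℕ∞)) :
    IsWeaklyRegular (Localization.AtPrime q')
        ((List.ofFn fun i => MvPolynomial.map (algebraMap R₀ R) (G i)).map
          (algebraMap (MvPolynomial (Fin n) R) (Localization.AtPrime q'))) ∧
      ∀ i, Module.Flat R (Localization.AtPrime q' ⧸ Ideal.ofList
        (((List.ofFn fun i => MvPolynomial.map (algebraMap R₀ R) (G i)).take i).map
          (algebraMap (MvPolynomial (Fin n) R) (Localization.AtPrime q')))) := by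
  set q₀ := q'.comap (algebraMap (MvPolynomial (Fin n) R₀) (MvPolynomial (Fin n) R)) with hq₀
  have hp₀ : q₀.comap (MvPolynomial.C (R := R₀)) = p.comap (algebraMap R₀ R) := by
    rw [← hp, hq₀, Ideal.comap_comap, Ideal.comap_comap]
    congr 1
    ext r
    simp
  have hG₀ : Ideal.span (Set.range G) ≤ q₀ := by
    rw [Ideal.span_le]
    rintro _ ⟨i, rfl⟩
    exact hq' (Ideal.subset_span ⟨i, rfl⟩)
  obtain ⟨hreg, hflat⟩ := regular_flat_noetherian G q₀ hG₀ hc (p.comap (algebraMap R₀ R)) hp₀
    ((ringKrullDim_fibre_le G p _ rfl).trans hdim)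
  letI : Algebra (Localization.AtPrime q₀) (Localization.AtPrime q') :=
    (Localization.localRingHom q₀ q' (algebraMap _ _) hq₀).toAlgebra
  haveI : IsScalarTower (MvPolynomial (Fin n) R₀) (Localization.AtPrime q₀) (Localization.AtPrime q') :=
    IsScalarTower.of_algebraMap_eq fun a => by
      change _ = Localization.localRingHom q₀ q' _ hq₀ _
      rw [Localization.localRingHom_to_map, ← IsScalarTower.algebraMap_apply]
  set l₀ := (List.ofFn G).map (algebraMap (MvPolynomial (Fin n) R₀) (Localization.AtPrime q₀)) with hl₀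
  have hl : (List.ofFn fun i => MvPolynomial.map (algebraMap R₀ R) (G i)).map
      (algebraMap (MvPolynomial (Fin n) R) (Localization.AtPrime q')) =
      l₀.map (algebraMap (Localization.AtPrime q₀) (Localization.AtPrime q')) := by
    simp only [hl₀, List.map_ofFn]
    congr 1
    funext i
    change algebraMap _ _ (algebraMap (MvPolynomial (Fin n) R₀) (MvPolynomial (Fin n) R) (G i)) = _
    rw [← IsScalarTower.algebraMap_apply, Function.comp_apply, Function.comp_apply,
      ← IsScalarTower.algebraMap_apply]
  constructor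
  · rw [hl, isWeaklyRegular_iff]
    intro i hi
    rw [List.length_map] at hi
    rw [List.getElem_map]
    set J := Ideal.ofList (l₀.take i) with hJ
    have hJ' : Ideal.ofList ((l₀.map (algebraMap (Localization.AtPrime q₀) (Localization.AtPrime q'))).take i) •
        (⊤ : Submodule (Localization.AtPrime q') (Localization.AtPrime q')) =
          J.map (algebraMap _ _) := by
      rw [← List.map_take, smul_eq_mul, Ideal.mul_top, hJ, Ideal.map_ofList]
    refine ((Submodule.quotEquivOfEq _ _ hJ').isSMulRegular_congr _).mpr ?_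
    set y := l₀[i] with hy
    have hreg' : IsSMulRegular (Localization.AtPrime q₀ ⧸ J) y := by
      have h := hreg.regular_mod_prev i hi
      have e : Ideal.ofList (l₀.take i) • (⊤ : Submodule (Localization.AtPrime q₀) (Localization.AtPrime q₀)) = J := by
        rw [smul_eq_mul, Ideal.mul_top]
      exact ((Submodule.quotEquivOfEq _ _ e).isSMulRegular_congr y).mp h
    have hflat' : Module.Flat R₀ (Localization.AtPrime q₀ ⧸ Ideal.ofList (l₀.take (i + 1))) := by
      have h := hflat (i + 1)
      rwa [List.map_take] at h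
    have hle : J ≤ Ideal.ofList (l₀.take (i + 1)) := by
      rw [List.take_succ_eq_append_getElem hi, Ideal.ofList_append]
      exact le_sup_left
    let mu₀ : (Localization.AtPrime q₀ ⧸ J) →ₗ[MvPolynomial (Fin n) R₀] (Localization.AtPrime q₀ ⧸ J) :=
      (LinearMap.lsmul (Localization.AtPrime q₀) _ y).restrictScalars _
    have hex : Function.Exact (mu₀.restrictScalars R₀)
        ((Ideal.Quotient.factorₐ R₀ hle).toLinearMap) := by
      intro z
      obtain ⟨a, rfl⟩ := Ideal.Quotient.mk_surjective z
      change Ideal.Quotient.mk _ a = 0 ↔ _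
      rw [Ideal.Quotient.eq_zero_iff_mem, List.take_succ_eq_append_getElem hi, Ideal.ofList_append,
        Ideal.ofList_singleton, Submodule.mem_sup]
      constructor
      · rintro ⟨b, hb, z, hz, rfl⟩
        obtain ⟨w, rfl⟩ := Ideal.mem_span_singleton'.mp hz
        refine ⟨Ideal.Quotient.mk J w, ?_⟩
        change y • Ideal.Quotient.mk J w = _
        rw [map_add, Ideal.Quotient.eq_zero_iff_mem.mpr hb, zero_add, mul_comm]
        rfl
      · rintro ⟨w, hw⟩
        obtain ⟨w, rfl⟩ := Ideal.Quotient.mk_surjective w
        change Ideal.Quotient.mk J (y * w) = _ at hw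
        rw [Ideal.Quotient.eq] at hw
        exact ⟨a - y * w, by simpa using J.neg_mem hw, y * w,
          Ideal.mem_span_singleton'.mpr ⟨w, mul_comm _ _⟩, by ring⟩
    have hR : Function.Injective ((mu₀.restrictScalars R₀).lTensor R) :=
      LinearMap.lTensor_injective_of_exact_of_flat _ (Ideal.Quotient.factor_surjective hle) _
        (fun a b hab => hreg' hab) hex R
    have hP : Function.Injective (mu₀.lTensor (MvPolynomial (Fin n) R)) :=
      lTensor_injective_of_isPushout R₀ R (MvPolynomial (Fin n) R₀) (MvPolynomial (Fin n) R) mu₀ hR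
    have hS : Function.Injective (mu₀.lTensor (Localization.AtPrime q')) := by
      refine (Groth.FlatMorOne.lTensor_baseChange_injective_iff (T := MvPolynomial (Fin n) R) mu₀).mp ?_
      refine Module.Flat.lTensor_preserves_injective_linearMap _ ?_
      rw [LinearMap.baseChange_eq_ltensor]
      exact hP
    exact isSMulRegular_quotient q₀.primeCompl J y hS
  · intro i
    set J := Ideal.ofList (l₀.take i) with hJ
    have hI : Ideal.ofList (((List.ofFn fun i => MvPolynomial.map (algebraMap R₀ R) (G i)).take i).map
        (algebraMap (MvPolynomial (Fin n) R) (Localization.AtPrime q'))) = J.map (algebraMap _ _) := by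
      rw [List.map_take, hl, ← List.map_take, hJ, Ideal.map_ofList]
    haveI hJflat : Module.Flat R₀ (Localization.AtPrime q₀ ⧸ J) := by
      have h := hflat i
      rwa [List.map_take] at h
    let X := MvPolynomial (Fin n) R ⊗[MvPolynomial (Fin n) R₀] (Localization.AtPrime q₀ ⧸ J)
    haveI : Module.Flat R X :=
      Module.Flat.of_linearEquiv (Algebra.IsPushout.cancelBaseChange R₀ R (MvPolynomial (Fin n) R₀)
        (MvPolynomial (Fin n) R) (Localization.AtPrime q₀ ⧸ J))
    haveI := flat_quotient (R := R) (P := MvPolynomial (Fin n) R) (S := Localization.AtPrime q')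
      q₀.primeCompl q'.primeCompl J
    exact Module.Flat.of_linearEquiv ((Submodule.quotEquivOfEq _ _ hI).restrictScalars R)

/-- **Regularity and flatness over any base**: if the fibre through `q'` of `R[x]/(F)` has dimension
at most `n - c`, then `F` is weakly regular at `q'` and all partial quotients are flat over `R`. -/
theorem regular_flat {R : Type u} [CommRing R] {n c : ℕ} (F : Fin c → MvPolynomial (Fin n) R)
    (q' : Ideal (MvPolynomial (Fin n) R)) [q'.IsPrime]
    (hq' : Ideal.span (Set.range F) ≤ q') (hc : c ≤ n)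
    (p : Ideal R) [p.IsPrime] (hp : q'.comap (MvPolynomial.C (R := R)) = p)
    (hdim : ringKrullDim (p.Fiber (MvPolynomial (Fin n) R ⧸ Ideal.span (Set.range F))) ≤
      ((n - c : ℕ) : WithBot ℕ∞)) :
    IsWeaklyRegular (Localization.AtPrime q')
        ((List.ofFn F).map (algebraMap (MvPolynomial (Fin n) R) (Localization.AtPrime q'))) ∧
      ∀ i, Module.Flat R (Localization.AtPrime q' ⧸ Ideal.ofList
        (((List.ofFn F).take i).map (algebraMap (MvPolynomial (Fin n) R) (Localization.AtPrime q')))) := by
  classical
  let T : Finset R := Finset.univ.biUnion fun i => (F i).coeffs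
  let R₀ : Subalgebra ℤ R := Algebra.adjoin ℤ (T : Set R)
  haveI : Algebra.FiniteType ℤ R₀ := (Subalgebra.fg_iff_finiteType R₀).mp (Subalgebra.fg_adjoin_finset _)
  haveI : IsNoetherianRing R₀ := Algebra.FiniteType.isNoetherianRing ℤ R₀
  have hG : ∀ i, ∃ G, MvPolynomial.map (algebraMap R₀ R) G = F i := fun i =>
    MvPolynomial.mem_range_map_iff_coeffs_subset.mpr fun a ha =>
      ⟨⟨a, Algebra.subset_adjoin (Finset.mem_biUnion.mpr ⟨i, Finset.mem_univ _, ha⟩)⟩, rfl⟩
  choose G hG using hG
  have hF : F = fun i => MvPolynomial.map (algebraMap R₀ R) (G i) := funext fun i => (hG i).symm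
  clear hG
  rw [ringKrullDim_eq_of_ringEquiv (tensorQuotientEquiv p.ResidueField F).toRingEquiv] at hdim
  rw [hF] at hq' hdim ⊢
  exact regular_flat_of_descent G q' hq' hc p hp hdim

end Groth.Calg5.RelGCI
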