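import Groth.Agent.Calg5.WeakAss
import Mathlib.RingTheory.LocalRing.ResidueField.Fiber
import Mathlib.LinearAlgebra.TensorProduct.Quotient
import Mathlib.LinearAlgebra.TensorProduct.Tower
import Mathlib.RingTheory.Ideal.AssociatedPrime.Finiteness
import Mathlib.RingTheory.TensorProduct.DirectLimitFG
import Mathlib.RingTheory.Flat.Basic
import Mathlib.Algebra.Module.Torsion.Basic
import Mathlib.Tactic

/-!
# Associated primes of fibre modules
-/

universe u

namespace Groth.Calg5

open TensorProduct

attribute [local instance] Algebra.TensorProduct.rightAlgebra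

variable {R S : Type u} [CommRing R] [CommRing S] [Algebra R S]
  (N : Type u) [AddCommGroup N] [Module S N] [Module R N] [IsScalarTower R S N]
  (p : Ideal R) [p.IsPrime]

/-- `pN` as an `S`-submodule of `N`. -/
abbrev pN : Submodule S N := (p.map (algebraMap R S)) • (⊤ : Submodule S N)

theorem mem_pN_iff {x : N} : x ∈ pN (S := S) N p ↔ x ∈ (p • ⊤ : Submodule R N) := by
  rw [← Submodule.restrictScalars_mem R (pN (S := S) N p), pN, Ideal.smul_restrictScalars,
    Submodule.restrictScalars_top]

theorem algebraMapSubmonoid_disjoint_iff {q : Ideal S} :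
    Disjoint ((Algebra.algebraMapSubmonoid S p.primeCompl : Submonoid S) : Set S) (q : Set S) ↔
      q.comap (algebraMap R S) ≤ p := by
  rw [Set.disjoint_left]
  constructor
  · intro h x hx
    by_contra hxp
    exact h ⟨x, hxp, rfl⟩ hx
  · rintro h _ ⟨r, hr, rfl⟩ hq
    exact hr (h hq)

theorem fiber_smul_eq {r : R} (z : p.Fiber S) : algebraMap R S r • z = r • z := by
  rw [Algebra.smul_def, Algebra.smul_def r z]
  congr 1
  exact (Algebra.TensorProduct.includeRight (R := R) (A := p.ResidueField) (B := S)).commutes r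

theorem exists_smul_eq_algebraMap (z : p.Fiber S) :
    ∃ r ∉ p, ∃ s : S, algebraMap R S r • z = algebraMap S (p.Fiber S) s := by
  obtain ⟨r, hr, s, hs⟩ := Ideal.Fiber.exists_smul_eq_one_tmul p z
  exact ⟨r, hr, s, by rw [fiber_smul_eq, hs]; rfl⟩

instance isScalarTower_fiberMod : IsScalarTower S (p.Fiber S) (FlatCA.fiberMod p S N) :=
  inferInstanceAs (IsScalarTower S (p.Fiber S) ((p.Fiber S) ⊗[S] N))

theorem isUnit_algebraMap_fiber {r : R} (hr : r ∉ p) :
    IsUnit (algebraMap S (p.Fiber S) (algebraMap R S r)) := by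
  have h : IsUnit (algebraMap R p.ResidueField r) := by
    rw [isUnit_iff_ne_zero, Ne, Ideal.algebraMap_residueField_eq_zero]; exact hr
  have : algebraMap S (p.Fiber S) (algebraMap R S r) =
      algebraMap p.ResidueField (p.Fiber S) (algebraMap R p.ResidueField r) := by
    rw [← IsScalarTower.algebraMap_apply R p.ResidueField (p.Fiber S)]
    exact (Algebra.TensorProduct.includeRight (R := R) (A := p.ResidueField) (B := S)).commutes r
  rw [this]
  exact h.map _

theorem toFiberMod_eq_zero_of_mem {x : N} (hx : x ∈ pN (S := S) N p) :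
    FlatCA.toFiberMod p S N x = 0 := by
  refine Submodule.smul_induction_on hx (fun a ha n _ => ?_) fun a b ha hb => by
    rw [map_add, ha, hb, add_zero]
  rw [map_smul]
  have hker : p.map (algebraMap R S) ≤ RingHom.ker (algebraMap S (p.Fiber S)) := by
    rw [Ideal.map_le_iff_le_comap]
    intro r hr
    rw [Ideal.mem_comap, RingHom.mem_ker]
    have h0 : algebraMap R p.ResidueField r = 0 := Ideal.algebraMap_residueField_eq_zero.mpr hr
    calc algebraMap S (p.Fiber S) (algebraMap R S r)
        = algebraMap R (p.Fiber S) r :=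
          (Algebra.TensorProduct.includeRight (R := R) (A := p.ResidueField) (B := S)).commutes r
      _ = 0 := by rw [IsScalarTower.algebraMap_apply R p.ResidueField (p.Fiber S), h0, map_zero]
  rw [← algebraMap_smul (p.Fiber S) a, RingHom.mem_ker.mp (hker ha), zero_smul]

theorem exists_smul_mem_pN_of_toFiberMod_eq_zero {x : N} (hx : FlatCA.toFiberMod p S N x = 0) :
    ∃ r ∉ p, algebraMap R S r • x ∈ pN (S := S) N p := by
  let T := Algebra.algebraMapSubmonoid S p.primeCompl
  let J : Ideal (Localization T) := (p.map (algebraMap R S)).map (algebraMap S (Localization T))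
  let G := LocalizedModule T (N ⧸ pN (S := S) N p)
  have htor : Module.IsTorsionBySet (Localization T) G J := by
    rw [Module.isTorsionBySet_iff_subset_annihilator]
    show (J : Set (Localization T)) ⊆ _
    refine SetLike.coe_subset_coe.mpr (Ideal.map_le_iff_le_comap.mpr fun a ha => ?_)
    rw [Ideal.mem_comap, Module.mem_annihilator]
    intro g
    induction g using LocalizedModule.induction_on with
    | _ m t =>
      obtain ⟨m, rfl⟩ := Submodule.Quotient.mk_surjective _ m
      rw [algebraMap_smul, LocalizedModule.smul'_mk, ← Submodule.Quotient.mk_smul,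
        (Submodule.Quotient.mk_eq_zero _).mpr (Submodule.smul_mem_smul ha Submodule.mem_top),
        LocalizedModule.zero_mk]
  let e : p.Fiber S ≃ₐ[S] Localization T ⧸ J := Ideal.Fiber.algEquivAux₁ p
  letI : Module (Localization T ⧸ J) G := htor.module
  letI : Module (p.Fiber S) G := Module.compHom G e.toRingEquiv.toRingHom
  have : IsScalarTower S (p.Fiber S) G := by
    refine ⟨fun s z g => ?_⟩
    change e (s • z) • g = s • (e z • g)
    rw [map_smul]
    obtain ⟨w, hw⟩ := Ideal.Quotient.mk_surjective (e z)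
    rw [← hw]
    change (Ideal.Quotient.mk J (s • w)) • g = s • (Ideal.Quotient.mk J w • g)
    exact smul_assoc s w g
  let f : N →ₗ[S] G := (LocalizedModule.mkLinearMap T _).comp (pN (S := S) N p).mkQ
  have h1 : (f.liftBaseChange (p.Fiber S)) (FlatCA.toFiberMod p S N x) = f x :=
    LinearMap.liftBaseChange_one_tmul (p.Fiber S) f x
  rw [hx] at h1
  have h2 : f x = 0 := h1.symm.trans (LinearMap.map_zero _)
  obtain ⟨⟨_, r, hr, rfl⟩, hc⟩ :=
    (IsLocalizedModule.eq_zero_iff T (LocalizedModule.mkLinearMap T _)).mp h2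
  refine ⟨r, hr, ?_⟩
  rw [Submonoid.smul_def, Submodule.mkQ_apply, ← Submodule.Quotient.mk_smul,
    Submodule.Quotient.mk_eq_zero] at hc
  exact hc

/-- The canonical map `N/pN → N ⊗ κ(p)`. -/
noncomputable def quotToFiberMod : (N ⧸ pN (S := S) N p) →ₗ[S] FlatCA.fiberMod p S N :=
  (pN (S := S) N p).liftQ (FlatCA.toFiberMod p S N) fun _ hx =>
    LinearMap.mem_ker.mpr (toFiberMod_eq_zero_of_mem N p hx)

theorem exists_smul_eq_one_tmul (x : (p.Fiber S) ⊗[S] N) :
    ∃ r ∉ p, ∃ n : N, algebraMap R S r • x = (1 : p.Fiber S) ⊗ₜ[S] n := by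
  induction x using TensorProduct.induction_on with
  | zero => exact ⟨1, p.primeCompl.one_mem, 0, by rw [smul_zero, TensorProduct.tmul_zero]⟩
  | tmul z n =>
    obtain ⟨r, hr, s, hs⟩ := exists_smul_eq_algebraMap p z
    refine ⟨r, hr, s • n, ?_⟩
    rw [TensorProduct.tmul_smul, TensorProduct.smul_tmul', TensorProduct.smul_tmul', hs,
      Algebra.smul_def, mul_one]
  | add x y hx hy =>
    obtain ⟨r, hr, a, ha⟩ := hx
    obtain ⟨r', hr', b, hb⟩ := hy
    refine ⟨r * r', p.primeCompl.mul_mem hr hr',
      algebraMap R S r' • a + algebraMap R S r • b, ?_⟩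
    rw [TensorProduct.tmul_add, TensorProduct.tmul_smul, TensorProduct.tmul_smul, ← ha, ← hb,
      smul_smul, smul_smul, map_mul, smul_add, mul_comm (algebraMap R S r') (algebraMap R S r)]

theorem exists_smul_eq_toFiberMod (x : FlatCA.fiberMod p S N) :
    ∃ r ∉ p, ∃ n : N, algebraMap R S r • x = FlatCA.toFiberMod p S N n :=
  exists_smul_eq_one_tmul N p x

/-- The fibre module is the localization of `N/pN` at `R ∖ p`. -/
instance isLocalizedModule_quotToFiberMod :
    IsLocalizedModule (Algebra.algebraMapSubmonoid S p.primeCompl) (quotToFiberMod (S := S) N p)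
    where
  map_units := by
    rintro ⟨_, r, hr, rfl⟩
    rw [Module.End.isUnit_iff]
    obtain ⟨u, hu⟩ := isUnit_algebraMap_fiber (S := S) p hr
    have key : ∀ x : FlatCA.fiberMod p S N, algebraMap R S r • x = (u : p.Fiber S) • x := by
      intro x; rw [hu]; exact (algebraMap_smul (p.Fiber S) (algebraMap R S r) x).symm
    refine ⟨fun x y hxy => ?_, fun y => ⟨(↑u⁻¹ : p.Fiber S) • y, ?_⟩⟩
    · simp only [Module.algebraMap_end_apply, key] at hxy
      have := congrArg ((↑u⁻¹ : p.Fiber S) • ·) hxy
      simpa [smul_smul] using this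
    · simp only [Module.algebraMap_end_apply, key, smul_smul, Units.mul_inv, one_smul]
  surj := by
    intro x
    obtain ⟨r, hr, n, hn⟩ := exists_smul_eq_toFiberMod N p x
    exact ⟨⟨Submodule.Quotient.mk n, ⟨_, r, hr, rfl⟩⟩, hn⟩
  exists_of_eq := by
    intro a b hab
    obtain ⟨a, rfl⟩ := Submodule.Quotient.mk_surjective _ a
    obtain ⟨b, rfl⟩ := Submodule.Quotient.mk_surjective _ b
    have : FlatCA.toFiberMod p S N (a - b) = 0 := by
      rw [map_sub, sub_eq_zero]; exact hab
    obtain ⟨r, hr, hmem⟩ := exists_smul_mem_pN_of_toFiberMod_eq_zero N p this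
    refine ⟨⟨_, r, hr, rfl⟩, ?_⟩
    rw [smul_sub, ← Submodule.Quotient.eq] at hmem
    exact hmem

variable {N p}

theorem disjoint_of_comap_eq {q : Ideal S} (h : q.comap (algebraMap R S) = p) :
    Disjoint ((Algebra.algebraMapSubmonoid S p.primeCompl : Submonoid S) : Set S) (q : Set S) :=
  (algebraMapSubmonoid_disjoint_iff p).mpr h.le

theorem mem_ass_fiberMod_iff {q : Ideal S} (hq : q.comap (algebraMap R S) = p) :
    q ∈ FlatCA.ass S (FlatCA.fiberMod p S N) ↔
      ∃ Q ∈ FlatCA.ass (p.Fiber S) (FlatCA.fiberMod p S N),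
        Q.comap (algebraMap S (p.Fiber S)) = q := by
  constructor
  · intro h
    obtain ⟨hqp, m, hm⟩ := mem_ass_iff.mp h
    refine ⟨(Submodule.span (p.Fiber S) {m}).annihilator, ⟨?_, m, rfl⟩, ?_⟩
    · have key : ∀ z, ∀ r ∉ p, ∀ s : S, algebraMap R S r • z = algebraMap S (p.Fiber S) s →
          (z ∈ (Submodule.span (p.Fiber S) {m}).annihilator ↔ s ∈ q) := by
        intro z r hr s hs
        rw [mem_ann, hm, ← algebraMap_smul (p.Fiber S) s m, ← hs]
        obtain ⟨u, hu⟩ := isUnit_algebraMap_fiber (S := S) p hr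
        rw [Algebra.smul_def, ← hu, mul_smul]
        constructor
        · intro h; rw [h, smul_zero]
        · intro h
          have := congrArg ((↑u⁻¹ : p.Fiber S) • ·) h
          simpa [smul_smul] using this
      refine ⟨?_, ?_⟩
      · rw [Ne, Ideal.eq_top_iff_one, key 1 1 p.primeCompl.one_mem 1 (by simp)]
        exact fun h => hqp.ne_top ((Ideal.eq_top_iff_one q).mpr h)
      · intro z w hzw
        obtain ⟨r, hr, s, hs⟩ := exists_smul_eq_algebraMap p z
        obtain ⟨r', hr', s', hs'⟩ := exists_smul_eq_algebraMap p w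
        rw [key (z * w) (r * r') (p.primeCompl.mul_mem hr hr') (s * s')
          (by rw [map_mul, map_mul, ← hs, ← hs', smul_mul_smul_comm])] at hzw
        rcases hqp.mem_or_mem hzw with h1 | h1
        · exact Or.inl ((key z r hr s hs).mpr h1)
        · exact Or.inr ((key w r' hr' s' hs').mpr h1)
    · ext s
      rw [Ideal.mem_comap, mem_ann, algebraMap_smul, hm]
  · rintro ⟨Q, hQ, rfl⟩
    exact image_comap_ass_subset ⟨Q, hQ, rfl⟩

theorem mem_ass_fiberMod_of_mem_ass_quotient {q : Ideal S} (hq : q.comap (algebraMap R S) = p)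
    (h : q ∈ FlatCA.ass S (N ⧸ pN (S := S) N p)) : q ∈ FlatCA.ass S (FlatCA.fiberMod p S N) :=
  ass_mem_localized _ (quotToFiberMod N p) h (disjoint_of_comap_eq hq)

theorem mem_ass_quotient_of_mem_ass_fiberMod [IsNoetherianRing S] {q : Ideal S}
    (hq : q.comap (algebraMap R S) = p)
    (h : q ∈ FlatCA.ass S (FlatCA.fiberMod p S N)) : q ∈ FlatCA.ass S (N ⧸ pN (S := S) N p) :=
  mem_ass_of_fg_of_mem_weakAss (Ideal.fg_of_isNoetherianRing q)
    ((mem_weakAss_localized_iff _ (quotToFiberMod N p) (disjoint_of_comap_eq hq)).mpr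
      (ass_subset_weakAss h))

variable (N p)

/-- `n ↦ n ⊗ 1`, inducing `N/pN ≅ N ⊗ R/p`. -/
noncomputable def toTensorQuot : N →ₗ[S] N ⊗[R] (R ⧸ p) where
  toFun n := n ⊗ₜ 1
  map_add' a b := TensorProduct.add_tmul a b 1
  map_smul' s n := rfl

theorem tensorQuotEquiv_toTensorQuot (x : N) :
    TensorProduct.tensorQuotEquivQuotSMul N p (toTensorQuot (S := S) N p x) =
      Submodule.Quotient.mk x := by
  show TensorProduct.quotTensorEquivQuotSMul N p ((1 : R ⧸ p) ⊗ₜ[R] x) = _
  rw [TensorProduct.quotTensorEquivQuotSMul_mk_one_tmul]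

/-- `N/pN ≅ N ⊗ R/p` as `S`-modules. -/
noncomputable def quotEquivTensorQuot : (N ⧸ pN (S := S) N p) ≃ₗ[S] N ⊗[R] (R ⧸ p) :=
  LinearEquiv.ofBijective ((pN (S := S) N p).liftQ (toTensorQuot N p) (by
    intro x hx
    rw [LinearMap.mem_ker]
    apply (TensorProduct.tensorQuotEquivQuotSMul N p).injective
    rw [map_zero]
    rw [tensorQuotEquiv_toTensorQuot]
    exact (Submodule.Quotient.mk_eq_zero _).mpr ((mem_pN_iff N p).mp hx))) (by
    refine ⟨?_, ?_⟩
    · rw [← LinearMap.ker_eq_bot]
      refine Submodule.ker_liftQ_eq_bot _ _ _ fun x hx => ?_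
      rw [LinearMap.mem_ker] at hx
      have := congrArg (TensorProduct.tensorQuotEquivQuotSMul N p) hx
      rw [tensorQuotEquiv_toTensorQuot, map_zero] at this
      exact (mem_pN_iff N p).mpr ((Submodule.Quotient.mk_eq_zero _).mp this)
    · intro z
      induction z using TensorProduct.induction_on with
      | zero => exact ⟨0, map_zero _⟩
      | tmul n r =>
        obtain ⟨r, rfl⟩ := Ideal.Quotient.mk_surjective r
        refine ⟨Submodule.Quotient.mk (r • n), ?_⟩
        show (r • n) ⊗ₜ[R] (1 : R ⧸ p) = n ⊗ₜ Ideal.Quotient.mk p r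
        rw [TensorProduct.smul_tmul]
        congr 1
        rw [Algebra.smul_def, mul_one, Ideal.Quotient.algebraMap_eq]
      | add a b ha hb =>
        obtain ⟨a, rfl⟩ := ha; obtain ⟨b, rfl⟩ := hb
        exact ⟨a + b, map_add _ _ _⟩)

theorem isSMulRegular_quotient_of_flat [Module.Flat R N] :
    ∀ t ∈ Algebra.algebraMapSubmonoid S p.primeCompl, IsSMulRegular (N ⧸ pN (S := S) N p) t := by
  rintro _ ⟨r, hr, rfl⟩ a b hab
  apply (quotEquivTensorQuot N p).injective
  have hinj : Function.Injective (LinearMap.lsmul R (R ⧸ p) r) := by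
    intro x y hxy
    obtain ⟨x, rfl⟩ := Ideal.Quotient.mk_surjective x
    obtain ⟨y, rfl⟩ := Ideal.Quotient.mk_surjective y
    simp only [LinearMap.lsmul_apply, Algebra.smul_def, Ideal.Quotient.algebraMap_eq, ← map_mul,
      Ideal.Quotient.eq, ← mul_sub] at hxy
    rw [Ideal.Quotient.eq]
    exact (Ideal.IsPrime.mem_or_mem inferInstance hxy).resolve_left hr
  apply Module.Flat.lTensor_preserves_injective_linearMap (M := N) _ hinj
  have h2 := congrArg (quotEquivTensorQuot N p) hab
  simp only [map_smul] at h2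
  have key : ∀ z : N ⊗[R] (R ⧸ p),
      LinearMap.lTensor N (LinearMap.lsmul R (R ⧸ p) r) z = algebraMap R S r • z := by
    intro z
    rw [algebraMap_smul]
    induction z using TensorProduct.induction_on with
    | zero => rw [map_zero, smul_zero]
    | tmul n x => simp [TensorProduct.tmul_smul]
    | add a b ha hb => rw [map_add, ha, hb, smul_add]
  rw [key, key, h2]

theorem ass_quotient_eq_ass_fiberMod [Module.Flat R N] :
    FlatCA.ass S (N ⧸ pN (S := S) N p) = FlatCA.ass S (FlatCA.fiberMod p S N) :=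
  ass_eq_localized _ (quotToFiberMod N p) (isSMulRegular_quotient_of_flat N p)

theorem comap_eq_of_mem_ass_quotient [Module.Flat R N] {q : Ideal S}
    (hq : q ∈ FlatCA.ass S (N ⧸ pN (S := S) N p)) : q.comap (algebraMap R S) = p := by
  refine le_antisymm ?_ fun r hr => ?_
  · have : q ∈ FlatCA.weakAss S (FlatCA.fiberMod p S N) :=
      ass_subset_weakAss ((ass_quotient_eq_ass_fiberMod (S := S) N p) ▸ hq)
    exact (algebraMapSubmonoid_disjoint_iff p).mp
      (disjoint_of_localized _ this (quotToFiberMod (S := S) N p))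
  · obtain ⟨-, m, hm⟩ := mem_ass_iff.mp hq
    obtain ⟨n, rfl⟩ := Submodule.Quotient.mk_surjective _ m
    rw [Ideal.mem_comap, hm, ← Submodule.Quotient.mk_smul, Submodule.Quotient.mk_eq_zero]
    exact Submodule.smul_mem_smul (Ideal.mem_map_of_mem _ hr) Submodule.mem_top

section Extension

variable {M₁ M₂ M₃ : Type*} [AddCommGroup M₁] [Module S M₁] [AddCommGroup M₂] [Module S M₂]
  [AddCommGroup M₃] [Module S M₃]

theorem ass_subset_of_injective (f : M₁ →ₗ[S] M₂) (hf : Function.Injective f) :
    FlatCA.ass S M₁ ⊆ FlatCA.ass S M₂ := by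
  intro q hq
  obtain ⟨hqp, m, hm⟩ := mem_ass_iff.mp hq
  exact mem_ass_iff.mpr ⟨hqp, f m, fun r => by rw [hm, ← map_smul, map_eq_zero_iff f hf]⟩

theorem ass_subset_union (f : M₁ →ₗ[S] M₂) (g : M₂ →ₗ[S] M₃) (hf : Function.Injective f)
    (hfg : Function.Exact f g) : FlatCA.ass S M₂ ⊆ FlatCA.ass S M₁ ∪ FlatCA.ass S M₃ := by
  intro q hq
  obtain ⟨hqp, m, hm⟩ := mem_ass_iff.mp hq
  by_cases h : ∀ r, r • g m = 0 → r ∈ q
  · exact Or.inr (mem_ass_iff.mpr ⟨hqp, g m,
      fun r => ⟨fun hr => by rw [← map_smul, (hm r).mp hr, map_zero], h r⟩⟩)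
  · push Not at h
    obtain ⟨c, hc, hcq⟩ := h
    rw [← map_smul] at hc
    obtain ⟨y, hy⟩ := (hfg _).mp hc
    refine Or.inl (mem_ass_iff.mpr ⟨hqp, y, fun r => ?_⟩)
    rw [← map_eq_zero_iff f hf, map_smul, hy, smul_smul, ← hm]
    exact ⟨fun h => q.mul_mem_right c h, fun h => (hqp.mem_or_mem h).resolve_right hcq⟩

end Extension

theorem ass_tensor_subset [IsNoetherianRing R] [Module.Flat R N]
    (M : Type u) [AddCommGroup M] [Module R M] [Module.Finite R M] (q : Ideal S)
    (hq : q ∈ FlatCA.ass S (N ⊗[R] M)) :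
    ∃ P : PrimeSpectrum R, q ∈ FlatCA.ass S (N ⧸ pN (S := S) N P.asIdeal) := by
  revert hq
  refine IsNoetherianRing.induction_on_isQuotientEquivQuotientPrime R ‹Module.Finite R M›
    (motive := fun X _ _ _ => q ∈ FlatCA.ass S (N ⊗[R] X) →
      ∃ P : PrimeSpectrum R, q ∈ FlatCA.ass S (N ⧸ pN (S := S) N P.asIdeal)) ?_ ?_ ?_
  · intro X _ _ _ _ hX
    obtain ⟨hqp, m, hm⟩ := mem_ass_iff.mp hX
    exact absurd ((hm 1).mpr (Subsingleton.elim _ _)) ((Ideal.ne_top_iff_one q).mp hqp.ne_top)
  · intro X _ _ _ P e hX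
    refine ⟨P, ass_subset_of_injective
      ((quotEquivTensorQuot N P.asIdeal).symm.toLinearMap ∘ₗ
        AlgebraTensorModule.lTensor S N e.toLinearMap) ?_ hX⟩
    refine (quotEquivTensorQuot (S := S) N P.asIdeal).symm.injective.comp ?_
    exact Module.Flat.lTensor_preserves_injective_linearMap (M := N) _ e.injective
  · intro X₁ _ _ _ X₂ _ _ _ X₃ _ _ _ f g hf hg hfg h₁ h₃ hX
    have hinj := Module.Flat.lTensor_preserves_injective_linearMap (M := N) f hf
    have hex : Function.Exact (AlgebraTensorModule.lTensor S N f)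
        (AlgebraTensorModule.lTensor S N g) := lTensor_exact N hfg hg
    rcases ass_subset_union (AlgebraTensorModule.lTensor S N f)
      (AlgebraTensorModule.lTensor S N g) hinj hex hX with h | h
    exacts [h₁ h, h₃ h]

theorem ass_quotient_subset_ass_tensor [Module.Flat R N] (M : Type u) [AddCommGroup M] [Module R M]
    (hp : p ∈ FlatCA.ass R M) :
    FlatCA.ass S (N ⧸ pN (S := S) N p) ⊆ FlatCA.ass S (N ⊗[R] M) := by
  obtain ⟨-, m, hm⟩ := hp
  have hker : p = LinearMap.ker (LinearMap.toSpanSingleton R M m) := by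
    ext r; rw [hm, mem_ann]; rfl
  let f : R ⧸ p →ₗ[R] M := Submodule.liftQ p (LinearMap.toSpanSingleton R M m) hker.le
  have hf : Function.Injective f :=
    LinearMap.ker_eq_bot.mp (Submodule.ker_liftQ_eq_bot _ _ _ hker.ge)
  refine ass_subset_of_injective
    (AlgebraTensorModule.lTensor S N f ∘ₗ (quotEquivTensorQuot N p).toLinearMap) ?_
  exact (Module.Flat.lTensor_preserves_injective_linearMap (M := N) _ hf).comp
    (quotEquivTensorQuot (S := S) N p).injective

theorem exists_fg_ass_tensor (M : Type u) [AddCommGroup M] [Module R M] (q : Ideal S)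
    (h : q ∈ FlatCA.ass S (N ⊗[R] M)) (hq : q.FG ∨ Module.Flat R N) :
    ∃ M' : Submodule R M, M'.FG ∧ q ∈ FlatCA.ass S (N ⊗[R] ↥M') := by
  classical
  obtain ⟨hqp, z, hz⟩ := mem_ass_iff.mp h
  obtain ⟨P, hP, w, hw⟩ := TensorProduct.exists_of_fg (TensorProduct.comm R N M z)
  let z' : N ⊗[R] ↥P := TensorProduct.comm R _ _ w
  let L : ∀ Q : Submodule R M, N ⊗[R] ↥Q →ₗ[S] N ⊗[R] M :=
    fun Q => AlgebraTensorModule.lTensor S N Q.subtype
  have hz' : L P z' = z := by
    show LinearMap.lTensor N P.subtype z' = z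
    rw [← LinearMap.comm_comp_rTensor_comp_comm_eq]
    simp only [z', LinearMap.coe_comp, LinearEquiv.coe_coe, Function.comp_apply,
      TensorProduct.comm_comm, hw]
  rcases hq with hfg | hflat
  · obtain ⟨g, hg⟩ := hfg
    have key : ∀ T : Finset S, ↑T ⊆ (q : Set S) → ∃ (Q : Submodule R M) (hPQ : P ≤ Q), Q.FG ∧
        ∀ t ∈ T, t • AlgebraTensorModule.lTensor S N (Submodule.inclusion hPQ) z' = 0 := by
      intro T
      induction T using Finset.induction_on with
      | empty => exact fun _ => ⟨P, le_rfl, hP, by simp⟩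
      | insert a T _ ih =>
        intro hT
        rw [Finset.coe_insert, Set.insert_subset_iff] at hT
        obtain ⟨Q, hPQ, hQ, hQT⟩ := ih hT.2
        set y := a • AlgebraTensorModule.lTensor S N (Submodule.inclusion hPQ) z' with hy
        have hy0 : LinearMap.rTensor N Q.subtype (TensorProduct.comm R _ _ y) = 0 := by
          have h1 : L Q y = 0 := by
            rw [hy, map_smul]
            have : L Q (AlgebraTensorModule.lTensor S N (Submodule.inclusion hPQ) z') = z := by
              rw [← hz']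
              show LinearMap.lTensor N _ (LinearMap.lTensor N _ z') = LinearMap.lTensor N _ z'
              rw [← LinearMap.lTensor_comp_apply, Submodule.subtype_comp_inclusion]
            rw [this]
            exact (hz a).mp hT.1
          have h2 : LinearMap.lTensor N Q.subtype y = 0 := h1
          rw [← LinearMap.comm_comp_rTensor_comp_comm_eq] at h2
          simpa using h2
        obtain ⟨Q', hQQ', hQ', hQ'0⟩ := TensorProduct.eq_zero_of_fg_of_subtype_eq_zero hQ hy0
        have hy' : AlgebraTensorModule.lTensor S N (Submodule.inclusion hQQ') y = 0 := by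
          show LinearMap.lTensor N (Submodule.inclusion hQQ') y = 0
          rw [← LinearMap.comm_comp_rTensor_comp_comm_eq]
          simp [hQ'0]
        have hcomp : AlgebraTensorModule.lTensor S N (Submodule.inclusion (hPQ.trans hQQ')) z' =
            AlgebraTensorModule.lTensor S N (Submodule.inclusion hQQ')
              (AlgebraTensorModule.lTensor S N (Submodule.inclusion hPQ) z') := by
          show LinearMap.lTensor N _ z' = LinearMap.lTensor N _ (LinearMap.lTensor N _ z')
          rw [← LinearMap.lTensor_comp_apply]; rfl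
        refine ⟨Q', hPQ.trans hQQ', hQ', fun t ht => ?_⟩
        rw [hcomp, ← map_smul]
        rcases Finset.mem_insert.mp ht with rfl | ht
        · exact hy'
        · rw [hQT t ht, map_zero]
    obtain ⟨Q, hPQ, hQ, hQT⟩ := key g (hg ▸ Submodule.subset_span)
    refine ⟨Q, hQ, mem_ass_iff.mpr
      ⟨hqp, AlgebraTensorModule.lTensor S N (Submodule.inclusion hPQ) z', fun r => ⟨?_, ?_⟩⟩⟩
    · intro hr
      have : q ≤ (Submodule.span S
          {AlgebraTensorModule.lTensor S N (Submodule.inclusion hPQ) z'}).annihilator := by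
        rw [← hg]
        exact Submodule.span_le.mpr fun t ht => mem_ann.mpr (hQT t ht)
      exact mem_ann.mp (this hr)
    · intro hr
      refine (hz r).mpr ?_
      have := congrArg (L Q) hr
      rw [map_smul, map_zero] at this
      rw [← hz']
      convert this using 2
      show LinearMap.lTensor N _ z' = LinearMap.lTensor N _ (LinearMap.lTensor N _ z')
      rw [← LinearMap.lTensor_comp_apply, Submodule.subtype_comp_inclusion]
  · have hinj : Function.Injective (L P) :=
      Module.Flat.lTensor_preserves_injective_linearMap (M := N) _ P.injective_subtype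
    refine ⟨P, hP, mem_ass_iff.mpr ⟨hqp, z', fun r => ?_⟩⟩
    rw [hz r, ← map_eq_zero_iff _ hinj, map_smul, hz']

end Groth.Calg5
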