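import Mathlib
import Groth.Prelude.Def_Disc
import Groth.Agent.Gorenstein.Basic
import Groth.Agent.Gorenstein.Regular
import Groth.Agent.Gorenstein.ChangeRings
import Groth.Agent.Gorenstein.RingEquiv
import Groth.Agent.Ega4Algebra1.RegularLocal
import Groth.Agent.Calg5.RelGCIField

/-!
Zero-dimensional complete intersections over a field have cyclic socles and free dualizing module.
-/

set_option autoImplicit false
set_option linter.style.haveILetI false

universe u

open IsLocalRing RingTheory.Sequence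

namespace Groth.Calg5.ArtinCI

/-- Finite self-injective dimension passes to quotients by regular sequences. -/
theorem exists_injLT_quotient_ofList {A : Type u} [CommRing A] [IsLocalRing A] [IsNoetherianRing A]
    (hA : ∃ n, GrothGoren.InjLT A A n) (l : List A) (hl : ∀ x ∈ l, x ∈ maximalIdeal A)
    (hreg : IsWeaklyRegular A l) :
    ∃ n, GrothGoren.InjLT (A ⧸ Ideal.ofList l) (A ⧸ Ideal.ofList l) n := by
  induction l using List.reverseRecOn with
  | nil =>
    exact (GrothGoren.exists_injLT_iff_of_ringEquiv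
      ((RingEquiv.quotientBot A).symm.trans (Ideal.quotEquivOfEq Ideal.ofList_nil.symm))).1 hA
  | append_singleton l b ih =>
    rw [isWeaklyRegular_append_iff] at hreg
    have hl' : ∀ x ∈ l, x ∈ maximalIdeal A := fun x hx => hl x (List.mem_append_left _ hx)
    have hb : b ∈ maximalIdeal A := hl b (List.mem_append_right _ (List.mem_singleton_self b))
    have hle : Ideal.ofList l ≤ maximalIdeal A := Ideal.span_le.2 hl'
    haveI := Groth.Ega4Algebra1.isLocalRing_quotient_of_le (Ideal.ofList l) hle
    have h3 := ih hl' hreg.1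
    set b' : A ⧸ Ideal.ofList l := Ideal.Quotient.mk _ b
    have hb' : b' ∈ maximalIdeal (A ⧸ Ideal.ofList l) := fun hu => hb
      (@IsLocalHom.map_nonunit _ _ _ _ _ _ (Ideal.Quotient.mk (Ideal.ofList l))
        (IsLocalHom.of_surjective _ Ideal.Quotient.mk_surjective) b hu)
    have hb'reg : IsSMulRegular (A ⧸ Ideal.ofList l) b' := by
      have h := ((isWeaklyRegular_cons_iff _ _ _).1 hreg.2).1
      intro x y hxy
      obtain ⟨x, rfl⟩ := Ideal.Quotient.mk_surjective x
      obtain ⟨y, rfl⟩ := Ideal.Quotient.mk_surjective y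
      have e : Ideal.ofList l • (⊤ : Submodule A A) = Ideal.ofList l := by rw [smul_eq_mul, Ideal.mul_top]
      have := @h (Submodule.Quotient.mk x) (Submodule.Quotient.mk y) (by
        change Submodule.Quotient.mk (b • x) = Submodule.Quotient.mk (b • y)
        rw [Submodule.Quotient.eq, e, ← Ideal.Quotient.eq]
        exact hxy)
      rw [Submodule.Quotient.eq, e] at this
      exact Ideal.Quotient.eq.2 this
    haveI : Nontrivial (A ⧸ Ideal.ofList l) := inferInstance
    haveI := Groth.Ega4Algebra1.isLocalRing_quotient_of_le (Ideal.span {b'})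
      ((Ideal.span_singleton_le_iff_mem _).2 hb')
    have h4 := (GrothGoren.exists_injLT_quotient_iff (A ⧸ Ideal.ofList l) hb' hb'reg).1 h3
    have hmap : (Ideal.span {b} : Ideal A).map (Ideal.Quotient.mk (Ideal.ofList l)) = Ideal.span {b'} := by
      rw [Ideal.map_span, Set.image_singleton]
    have hsup : Ideal.ofList l ⊔ Ideal.span {b} = Ideal.ofList (l ++ [b]) := by
      rw [Ideal.ofList_append, Ideal.ofList_singleton]
    exact (GrothGoren.exists_injLT_iff_of_ringEquiv
      (((Ideal.quotEquivOfEq hmap.symm).trans (DoubleQuot.quotQuotEquivQuotSup _ _)).trans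
        (Ideal.quotEquivOfEq hsup))).1 h4

theorem not_isSMulRegular_of_isArtinian {R : Type u} [CommRing R] [IsLocalRing R] [IsArtinianRing R] :
    ∀ x ∈ maximalIdeal R, ¬ IsSMulRegular R x := fun x hx hreg =>
  (mem_maximalIdeal x).1 hx (IsArtinianRing.isUnit_of_mem_nonZeroDivisors
    (mem_nonZeroDivisors_iff_right.mpr fun y hy =>
      hreg (show x * y = x * 0 by rw [mul_zero, mul_comm, hy])))

/-- The socle of a self-injective local ring is cyclic. -/
theorem socle_dvd_of_injective {R : Type u} [CommRing R] [IsLocalRing R]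
    (hR : Module.Injective R R) {s t : R} (ht : t ≠ 0)
    (htm : ∀ m ∈ maximalIdeal R, m * t = 0) (hsm : ∀ m ∈ maximalIdeal R, m * s = 0) : t ∣ s := by
  let g₀ : R →ₗ[R] R := LinearMap.toSpanSingleton R R s
  let f₀ : R →ₗ[R] R := LinearMap.toSpanSingleton R R t
  have hker : LinearMap.ker f₀ ≤ LinearMap.ker g₀ := by
    intro r hr
    have hr' : r * t = 0 := hr
    have hrm : r ∈ maximalIdeal R := fun hu => ht (hu.mul_right_eq_zero.mp hr')
    exact hsm r hrm
  obtain ⟨h, hh⟩ := Module.Injective.out ((LinearMap.ker f₀).liftQ f₀ le_rfl)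
    (LinearMap.ker_eq_bot.mp (Submodule.ker_liftQ_eq_bot _ _ _ le_rfl))
    ((LinearMap.ker f₀).liftQ g₀ hker)
  have h1 := hh (Submodule.Quotient.mk 1)
  simp only [Submodule.liftQ_apply, f₀, g₀, LinearMap.toSpanSingleton_apply, smul_eq_mul, one_mul] at h1
  exact ⟨h 1, by rw [← h1, ← smul_eq_mul t (h 1), ← map_smul, smul_eq_mul, mul_one]⟩

/-- Cyclicity of the socle descends from the localisation. -/
theorem dvd_of_injective_localization {B : Type u} [CommRing B] (M : Ideal B) [M.IsMaximal]
    (hinj : Module.Injective (Localization.AtPrime M) (Localization.AtPrime M))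
    {s t : B} (ht : t ≠ 0) (htm : ∀ m ∈ M, m * t = 0) (hsm : ∀ m ∈ M, m * s = 0) : t ∣ s := by
  have hkill : ∀ (u x : B), u ∉ M → u * x = 0 → (∀ m ∈ M, m * x = 0) → x = 0 := by
    intro u x hu hux hx
    obtain ⟨a, w, hw, he⟩ := Ideal.IsMaximal.exists_inv ‹M.IsMaximal› hu
    rw [← one_mul x, ← he, add_mul, mul_assoc, hux, hx w hw, mul_zero, add_zero]
  have hkill' : ∀ x : B, (∀ m ∈ M, m * x = 0) →
      ∀ z ∈ maximalIdeal (Localization.AtPrime M), z * algebraMap B _ x = 0 := by
    intro x hx z hz
    obtain ⟨a, b, rfl⟩ := IsLocalization.exists_mk'_eq M.primeCompl z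
    rw [IsLocalization.AtPrime.mk'_mem_maximal_iff (Localization.AtPrime M) M] at hz
    rw [IsLocalization.mk'_eq_mul_mk'_one, mul_right_comm, ← map_mul, hx a hz, map_zero, zero_mul]
  have ht' : algebraMap B (Localization.AtPrime M) t ≠ 0 := fun h => by
    obtain ⟨u, hu⟩ := (IsLocalization.map_eq_zero_iff M.primeCompl _ t).mp h
    exact ht (hkill u t u.2 hu htm)
  obtain ⟨c, hc⟩ := socle_dvd_of_injective hinj ht' (hkill' t htm) (hkill' s hsm)
  obtain ⟨r, v, rfl⟩ := IsLocalization.exists_mk'_eq M.primeCompl c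
  rw [IsLocalization.mul_mk'_eq_mk'_of_mul, eq_comm, IsLocalization.mk'_eq_iff_eq_mul, ← map_mul,
    IsLocalization.eq_iff_exists M.primeCompl] at hc
  obtain ⟨w, hw⟩ := hc
  have h0 : t * r - s * (v : B) = 0 := hkill w _ w.2 (by rw [mul_sub, hw, sub_self]) fun m hm => by
    rw [mul_sub, ← mul_assoc, htm m hm, zero_mul, ← mul_assoc, hsm m hm, zero_mul, sub_zero]
  obtain ⟨a, w', hw', he⟩ := Ideal.IsMaximal.exists_inv ‹M.IsMaximal› v.2
  refine ⟨a * r, ?_⟩
  calc s = (a * v + w') * s := by rw [he, one_mul]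
    _ = a * (s * v) + w' * s := by ring
    _ = a * (t * r) + 0 := by rw [hsm w' hw', sub_eq_zero.mp h0]
    _ = t * (a * r) := by ring

variable {k : Type u} [Field k] {n : ℕ} (f : Fin n → MvPolynomial (Fin n) k)

/-- Zero-dimensional complete intersections have cyclic socles: at a maximal ideal, any two elements
killed by it are dependent. -/
theorem socle_cyclic [Module.Finite k (MvPolynomial (Fin n) k ⧸ Ideal.span (Set.range f))]
    (M : Ideal (MvPolynomial (Fin n) k ⧸ Ideal.span (Set.range f))) [M.IsMaximal]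
    {s t : MvPolynomial (Fin n) k ⧸ Ideal.span (Set.range f)} (ht : t ≠ 0)
    (htm : ∀ m ∈ M, m * t = 0) (hsm : ∀ m ∈ M, m * s = 0) : t ∣ s := by
  set B := MvPolynomial (Fin n) k ⧸ Ideal.span (Set.range f)
  haveI : IsArtinianRing B := IsArtinianRing.of_finite k B
  set q := M.comap (Ideal.Quotient.mk (Ideal.span (Set.range f))) with hq
  haveI : q.IsPrime := Ideal.IsPrime.comap _
  have hFq : Ideal.span (Set.range f) ≤ q := fun x hx => by
    rw [hq, Ideal.mem_comap, Ideal.Quotient.eq_zero_iff_mem.2 hx]; exact M.zero_mem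
  have hdim : ringKrullDim B ≤ ((n - n : ℕ) : WithBot ℕ∞) := by
    rw [Nat.sub_self, Nat.cast_zero]; exact Ring.krullDimLE_iff.mp inferInstance
  have hreg := Groth.Calg5.RelGCI.isWeaklyRegular_atPrime_of_dim_le le_rfl f hdim q hFq
  let A := Localization.AtPrime q
  set l := (List.ofFn f).map (algebraMap (MvPolynomial (Fin n) k) A) with hl
  have hlm : ∀ x ∈ l, x ∈ maximalIdeal A := by
    simp only [hl, List.mem_map, List.mem_ofFn, forall_exists_index, and_imp]
    rintro _ x i rfl rfl
    exact (IsLocalization.AtPrime.to_map_mem_maximal_iff A q _).mpr (hFq (Ideal.subset_span ⟨i, rfl⟩))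
  obtain ⟨m, hm⟩ := exists_injLT_quotient_ofList (GrothGoren.exists_injLT_of_regular _ A le_rfl) l hlm hreg
  have hJA : (Ideal.span (Set.range f)).map (algebraMap (MvPolynomial (Fin n) k) A) = Ideal.ofList l := by
    rw [hl, ← Ideal.map_ofList]
    congr 1
    unfold Ideal.ofList
    congr 1
    ext x
    simp [List.mem_ofFn]
  have hsub : Algebra.algebraMapSubmonoid B q.primeCompl = M.primeCompl := by
    ext x
    constructor
    · rintro ⟨y, hy, rfl⟩; exact hy
    · intro hx
      obtain ⟨y, rfl⟩ := Ideal.Quotient.mk_surjective x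
      exact ⟨y, hx, rfl⟩
  haveI : IsLocalization M.primeCompl (A ⧸ (Ideal.span (Set.range f)).map (algebraMap _ A)) := by
    rw [← hsub]; infer_instance
  have hB : ∃ m, GrothGoren.InjLT (Localization.AtPrime M) (Localization.AtPrime M) m :=
    (GrothGoren.exists_injLT_iff_of_ringEquiv ((Ideal.quotEquivOfEq hJA.symm).trans
      (IsLocalization.algEquiv M.primeCompl (A ⧸ (Ideal.span (Set.range f)).map (algebraMap _ A))
        (Localization.AtPrime M)).toRingEquiv)).1 ⟨m, hm⟩
  obtain ⟨m', hm'⟩ := hB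
  haveI : IsArtinianRing (Localization.AtPrime M) := inferInstance
  have hinj : Module.Injective (Localization.AtPrime M) (Localization.AtPrime M) := by
    exact GrothGoren.injective_self_of_injLT (not_isSMulRegular_of_isArtinian) m'
      (GrothGoren.injLT_mono (Nat.le_succ m') hm')
  exact dvd_of_injective_localization M hinj ht htm hsm

/-- A finite algebra over a field with cyclic socles has free dualizing module. -/
theorem exists_omega_equiv_of_socle (B : Type u) [CommRing B] [Algebra k B] [Module.Finite k B]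
    (hcyc : ∀ (M : Ideal B) [M.IsMaximal] {s t : B}, t ≠ 0 → (∀ m ∈ M, m * t = 0) →
      (∀ m ∈ M, m * s = 0) → t ∣ s) :
    Nonempty (B ≃ₗ[B] Disc.Omega k B) := by
  classical
  haveI : IsArtinianRing B := IsArtinianRing.of_finite k B
  haveI : Fintype (MaximalSpectrum B) := Fintype.ofFinite _
  -- the socle at each maximal ideal
  have hsoc : ∀ M : MaximalSpectrum B, ∃ s : B, s ≠ 0 ∧ ∀ m ∈ M.asIdeal, m * s = 0 := by
    intro M
    haveI := M.isMaximal
    have hmin : M.asIdeal ∈ minimalPrimes B := by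
      refine ⟨⟨M.isMaximal.isPrime, bot_le⟩, fun q ⟨hq, _⟩ hle => ?_⟩
      exact ((IsArtinianRing.isMaximal_of_isPrime q).eq_of_le M.isMaximal.ne_top hle).ge
    have hass : M.asIdeal ∈ associatedPrimes B B :=
      Module.associatedPrimes.minimalPrimes_annihilator_subset_associatedPrimes B B
        (by rwa [Module.annihilator_eq_bot.mpr inferInstance])
    obtain ⟨_, ι, hι⟩ := (isAssociatedPrime_iff_exists_injective_linearMap _ B).1 hass
    refine ⟨ι 1, fun h0 => M.isMaximal.ne_top ((Ideal.eq_top_iff_one _).mpr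
      (Ideal.Quotient.eq_zero_iff_mem.mp (hι (h0.trans (map_zero ι).symm)))), fun m hm => ?_⟩
    have h1 : ι (m • 1) = m • ι 1 := map_smul ι m 1
    have h2 : m • (1 : B ⧸ M.asIdeal) = 0 :=
      Ideal.Quotient.eq_zero_iff_mem.mpr (M.asIdeal.mul_mem_right 1 hm)
    rw [h2, map_zero] at h1
    exact h1.symm
  choose s hs0 hsm using hsoc
  have hsep : ∀ (M : MaximalSpectrum B) (e : B), e ∉ M.asIdeal → e * s M ≠ 0 := by
    intro M e he h
    obtain ⟨a, w, hw, hew⟩ := Ideal.IsMaximal.exists_inv M.isMaximal he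
    exact hs0 M (by rw [← one_mul (s M), ← hew, add_mul, mul_assoc, h, hsm M w hw, mul_zero, add_zero])
  have hind : LinearIndependent k s := by
    rw [Fintype.linearIndependent_iff]
    intro c hc M
    have hno : ¬ (Finset.univ.erase M).inf MaximalSpectrum.asIdeal ≤ M.asIdeal := by
      intro hle
      obtain ⟨M', hM', hle'⟩ := (Ideal.IsPrime.inf_le' M.isMaximal.isPrime).mp hle
      exact (Finset.mem_erase.mp hM').1 (MaximalSpectrum.ext
        (M'.isMaximal.eq_of_le M.isMaximal.ne_top hle'))
    obtain ⟨e, he, heM⟩ := SetLike.not_le_iff_exists.mp hno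
    have h1 : ∑ i, c i • (e * s i) = 0 := by
      simp only [← mul_smul_comm, ← Finset.mul_sum, hc, mul_zero]
    rw [Finset.sum_eq_single M] at h1
    · exact (smul_eq_zero.mp h1).resolve_right (hsep M e heM)
    · intro M' _ hne
      rw [hsm M' e ((Finset.inf_le (Finset.mem_erase.mpr ⟨hne, Finset.mem_univ _⟩) :
        (Finset.univ.erase M).inf MaximalSpectrum.asIdeal ≤ M'.asIdeal) he), smul_zero]
    · simp

  obtain ⟨φ, hφ⟩ : ∃ φ : B →ₗ[k] k, ∀ M, φ (s M) = 1 := by
    obtain ⟨φ, hφ⟩ := LinearMap.exists_extend ((Module.Basis.span hind).constr k fun _ => (1 : k))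
    refine ⟨φ, fun M => ?_⟩
    have := LinearMap.congr_fun hφ (Module.Basis.span hind M)
    rwa [Module.Basis.constr_basis, LinearMap.comp_apply, Submodule.subtype_apply,
      Module.Basis.span_apply] at this
  let T : B →ₗ[B] Disc.Omega k B :=
    { toFun := fun b => b • (⟨φ⟩ : Disc.Omega k B)
      map_add' := fun a b => add_smul a b _
      map_smul' := fun a b => mul_smul a b (⟨φ⟩ : Disc.Omega k B) }
  have hT : Function.Injective T := by
    rw [injective_iff_map_eq_zero]
    intro v hv
    by_contra hv0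
    have hker : ∀ b : B, φ (v * b) = 0 := fun b =>
      congrArg (fun w : Disc.Omega k B => w.toLinearMap b) hv
    haveI : Nontrivial (Submodule.span B {v}) := Submodule.nontrivial_iff_ne_bot.mpr (by simpa using hv0)
    obtain ⟨P, hP⟩ := associatedPrimes.nonempty B (Submodule.span B {v})
    obtain ⟨_, ι, hι⟩ := (isAssociatedPrime_iff_exists_injective_linearMap _ _).1 hP
    obtain ⟨w, hw, hιw⟩ : ∃ w, ∃ hw : w ∈ Submodule.span B {v}, ι 1 = ⟨w, hw⟩ := ⟨_, (ι 1).2, rfl⟩
    haveI := hP.isPrime
    haveI := IsArtinianRing.isMaximal_of_isPrime P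
    let M : MaximalSpectrum B := ⟨P, inferInstance⟩
    have hw0 : w ≠ 0 := fun h0 => hP.isPrime.ne_top ((Ideal.eq_top_iff_one _).mpr
      (Ideal.Quotient.eq_zero_iff_mem.mp (hι ((hιw.trans (Subtype.ext h0)).trans (map_zero ι).symm))))
    have hwM : ∀ m ∈ M.asIdeal, m * w = 0 := fun m hm => by
      have hm' : m ∈ P := hm
      have h1 : ι (m • 1) = m • ⟨w, hw⟩ := by rw [map_smul, hιw]
      have h2 : m • (1 : B ⧸ P) = 0 := Ideal.Quotient.eq_zero_iff_mem.mpr (P.mul_mem_right 1 hm')
      rw [h2, map_zero] at h1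
      exact (congrArg Subtype.val h1).symm
    obtain ⟨b, hb⟩ := hcyc M.asIdeal hw0 hwM (hsm M)
    obtain ⟨a, ha⟩ := Submodule.mem_span_singleton.mp hw
    have := hφ M
    rw [hb, ← ha, smul_eq_mul, show a * v * b = v * (a * b) by ring, hker] at this
    exact zero_ne_one this
  refine ⟨LinearEquiv.ofBijective T ⟨hT, ?_⟩⟩
  let U : B →ₗ[k] Module.Dual k B :=
    { toFun := fun b => (T b).toLinearMap
      map_add' := fun a b => by rw [map_add]; rfl
      map_smul' := fun c b => LinearMap.ext fun x => by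
        change φ (c • b * x) = c * φ (b * x)
        rw [smul_mul_assoc, map_smul, smul_eq_mul] }
  have hU : Function.Injective U := fun a b h => hT (Disc.Omega.ext h)
  have hUs : Function.Surjective U :=
    (LinearMap.injective_iff_surjective_of_finrank_eq_finrank
      (Subspace.dual_finrank_eq (K := k) (V := B)).symm).mp hU
  intro y
  obtain ⟨b, hb⟩ := hUs y.toLinearMap
  exact ⟨b, Disc.Omega.ext hb⟩

/-- **A zero-dimensional complete intersection over a field has free dualizing module.** -/
theorem exists_omega_equiv [Module.Finite k (MvPolynomial (Fin n) k ⧸ Ideal.span (Set.range f))] :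
    Nonempty ((MvPolynomial (Fin n) k ⧸ Ideal.span (Set.range f))
      ≃ₗ[MvPolynomial (Fin n) k ⧸ Ideal.span (Set.range f)]
        Disc.Omega k (MvPolynomial (Fin n) k ⧸ Ideal.span (Set.range f))) :=
  exists_omega_equiv_of_socle _ (fun M _ _ _ ht htm hsm => socle_cyclic f M ht htm hsm)

end Groth.Calg5.ArtinCI
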