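import Groth.Agent.Ega4Algebra1.CatenaryDim
import Groth.Prelude.Def_EGA4b

/-!
`height + coheight = dim` in an equidimensional catenary Noetherian local ring.
-/

set_option autoImplicit false
universe u

namespace Groth.Calg5.CatenaryEquidim

open Groth.Ega4Algebra1

variable {A : Type u} [CommRing A] [IsNoetherianRing A] [IsLocalRing A]

omit [IsLocalRing A] in
theorem ne_top_of_height (p : PrimeSpectrum A) : Order.height p ≠ ⊤ := by
  have h := Ideal.height_ne_top (I := p.asIdeal) p.isPrime.ne_top
  rwa [PrimeSpectrum.height_eq_orderHeight] at h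

theorem height_add_coheight_eq (hcat : CAlg.IsCatenary A) (heq : EGA4.IsEquidim A)
    (p : PrimeSpectrum A) :
    ((Order.height p + Order.coheight p : ℕ∞) : WithBot ℕ∞) = ringKrullDim A := by
  obtain ⟨n, hn⟩ := ENat.ne_top_iff_exists.mp (ne_top_of_height p)
  induction n generalizing p with
  | zero =>
    have hmin : IsMin p := Order.height_eq_zero.1 (by simpa using hn.symm)
    rw [Order.height_eq_zero.2 hmin, zero_add, ← ringKrullDim_quotient_eq_coheight]
    exact heq p.asIdeal (PrimeSpectrum.isMin_iff.1 hmin)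
  | succ n ih =>
    have hn' : Order.height p = n + 1 := by rw [← hn]; norm_cast
    obtain ⟨-, ⟨q, hqp, hq⟩, hle⟩ := Order.height_eq_coe_add_one_iff.1 hn'
    have hcov : q ⋖ p := by
      refine ⟨hqp, fun z hqz hzp => ?_⟩
      have h1 := (Order.height_add_one_le hqz).trans (hle z hzp)
      rw [hq] at h1
      norm_cast at h1
      omega
    rw [← ih q hq.symm, coheight_eq_add_one_of_covBy A hcat hcov, hn', hq, add_comm (Order.coheight p) 1,
      ← add_assoc]

theorem height_eq_add_one_of_covBy (hcat : CAlg.IsCatenary A) (heq : EGA4.IsEquidim A)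
    {p q : PrimeSpectrum A} (h : p ⋖ q) : Order.height q = Order.height p + 1 := by
  have h1 := (height_add_coheight_eq hcat heq q).trans (height_add_coheight_eq hcat heq p).symm
  rw [coheight_eq_add_one_of_covBy A hcat h] at h1
  obtain ⟨a, ha⟩ := ENat.ne_top_iff_exists.mp (ne_top_of_height p)
  obtain ⟨b, hb⟩ := ENat.ne_top_iff_exists.mp (ne_top_of_height q)
  obtain ⟨c, hc⟩ := ENat.ne_top_iff_exists.mp (coheight_ne_top A q)
  rw [← ha, ← hb, ← hc] at h1
  rw [← ha, ← hb]
  norm_cast at h1 ⊢
  omega

theorem eq_of_height_eq (hcat : CAlg.IsCatenary A) (heq : EGA4.IsEquidim A) {p q : PrimeSpectrum A}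
    (h : Order.height p = Order.height q) : Order.coheight p = Order.coheight q := by
  have h1 := (height_add_coheight_eq hcat heq q).trans (height_add_coheight_eq hcat heq p).symm
  obtain ⟨a, ha⟩ := ENat.ne_top_iff_exists.mp (ne_top_of_height p)
  obtain ⟨b, hb⟩ := ENat.ne_top_iff_exists.mp (coheight_ne_top A p)
  obtain ⟨c, hc⟩ := ENat.ne_top_iff_exists.mp (coheight_ne_top A q)
  rw [← h, ← ha, ← hb, ← hc] at h1
  rw [← hb, ← hc]
  norm_cast at h1 ⊢
  omega

end Groth.Calg5.CatenaryEquidim
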