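import Mathlib.RingTheory.AdicCompletion.Functoriality
import Mathlib.RingTheory.AdicCompletion.Exactness
import Mathlib.RingTheory.Smooth.Quotient
import Mathlib.Tactic

/-!
# Elementary facts on adic completions (no Noetherian hypotheses)
-/

universe u

namespace Groth.Calg5

variable {R : Type u} [CommRing R] (I : Ideal R) {K M N : Type u} [AddCommGroup K] [Module R K]
  [AddCommGroup M] [Module R M] [AddCommGroup N] [Module R N]

theorem completion_compat {n m : ℕ} (h : n ≤ m) (x : AdicCompletion I M) {a : M}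
    (ha : x.val m = Submodule.Quotient.mk a) : x.val n = Submodule.Quotient.mk a := by
  rw [← x.2 h, ha]
  rfl

theorem completion_ext {x y : AdicCompletion I M} (h : ∀ n, x.val n = y.val n) : x = y :=
  Subtype.ext (funext h)

theorem map_smul_top_le (f : K →ₗ[R] M) (n : ℕ) {a : K} (ha : a ∈ (I ^ n • ⊤ : Submodule R K)) :
    f a ∈ (I ^ n • ⊤ : Submodule R M) := by
  have := Submodule.mem_map_of_mem (f := f) ha
  rw [Submodule.map_smul''] at this
  exact Submodule.smul_mono le_rfl le_top this

theorem map_val_mk (f : K →ₗ[R] M) (x : AdicCompletion I K) (n : ℕ) {a : K}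
    (ha : x.val n = Submodule.Quotient.mk a) :
    (AdicCompletion.map I f x).val n = Submodule.Quotient.mk (f a) := by
  rw [AdicCompletion.map_val_apply, ha]
  rfl

theorem exists_rep (x : AdicCompletion I M) (n : ℕ) : ∃ a : M, x.val n = Submodule.Quotient.mk a :=
  (Submodule.Quotient.mk_surjective _ (x.val n)).imp fun _ h => h.symm

variable {i : K →ₗ[R] M} {g : M →ₗ[R] N}

/-- If the induced filtration on `K` is cofinal with the adic one, completion is left exact. -/
theorem completion_injective
    (H : ∀ n : ℕ, ∃ m, n ≤ m ∧ ∀ a, i a ∈ (I ^ m • ⊤ : Submodule R M) →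
      a ∈ (I ^ n • ⊤ : Submodule R K)) :
    Function.Injective (AdicCompletion.map I i) := by
  rw [injective_iff_map_eq_zero]
  intro x hx
  refine completion_ext I fun n => ?_
  obtain ⟨m, hnm, hm⟩ := H n
  obtain ⟨a, ha⟩ := exists_rep I x m
  have h0 := map_val_mk I i x m ha
  rw [hx] at h0
  have h1 : i a ∈ (I ^ m • ⊤ : Submodule R M) := (Submodule.Quotient.mk_eq_zero _).mp h0.symm
  rw [completion_compat I hnm x ha]
  exact (Submodule.Quotient.mk_eq_zero _).mpr (hm a h1)

theorem completion_exact (hg : Function.Surjective g) (hig : Function.Exact i g)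
    (H : ∀ n : ℕ, ∃ m, n ≤ m ∧ ∀ a, i a ∈ (I ^ m • ⊤ : Submodule R M) →
      a ∈ (I ^ n • ⊤ : Submodule R K)) :
    Function.Exact (AdicCompletion.map I i) (AdicCompletion.map I g) := by
  intro y
  constructor
  · intro hy
    have hrep : ∀ n, ∃ a : K, y.val n = Submodule.Quotient.mk (i a) := by
      intro n
      obtain ⟨b, hb⟩ := exists_rep I y n
      have h0 := map_val_mk I g y n hb
      rw [hy] at h0
      have h1 : g b ∈ (I ^ n • ⊤ : Submodule R N) := (Submodule.Quotient.mk_eq_zero _).mp h0.symm
      have h2 : (I ^ n • ⊤ : Submodule R N) = Submodule.map g (I ^ n • ⊤) := by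
        rw [Submodule.map_smul'', Submodule.map_top, LinearMap.range_eq_top.mpr hg]
      rw [h2] at h1
      obtain ⟨c, hc, hcb⟩ := h1
      obtain ⟨a, ha⟩ := (hig (b - c)).mp (by rw [map_sub, hcb, sub_self])
      refine ⟨a, ?_⟩
      rw [hb, Submodule.Quotient.eq, ha, sub_sub_cancel]
      exact hc
    choose a ha using hrep
    choose μ hμ hμ' using H
    have key : ∀ {n l k : ℕ}, μ n ≤ l → μ n ≤ k →
        a l - a k ∈ (I ^ n • ⊤ : Submodule R K) := by
      intro n l k hl hk
      refine hμ' n _ ?_
      rw [map_sub, ← Submodule.Quotient.eq, ← completion_compat I hl y (ha l),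
        completion_compat I hk y (ha k)]
    refine ⟨⟨fun n => Submodule.Quotient.mk (a (μ n)), fun {m n} hmn => ?_⟩, completion_ext I fun n => ?_⟩
    · show Submodule.Quotient.mk (a (μ n)) = Submodule.Quotient.mk (a (μ m))
      rw [Submodule.Quotient.eq]
      have h1 := key (n := m) (l := max (μ m) (μ n)) (k := μ m) (le_max_left _ _) le_rfl
      have h2 := Submodule.pow_smul_top_le I K hmn
        (key (n := n) (l := max (μ m) (μ n)) (k := μ n) (le_max_right _ _) le_rfl)
      have h3 := sub_mem h1 h2
      simpa using h3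
    · refine (map_val_mk I i _ n (a := a (μ n)) ?_).trans
        (completion_compat I (hμ n) y (ha (μ n))).symm
      rfl
  · rintro ⟨x, rfl⟩
    refine completion_ext I fun n => ?_
    obtain ⟨a, ha⟩ := exists_rep I x n
    rw [map_val_mk I g _ n (map_val_mk I i x n ha), hig.apply_apply_eq_zero]
    rfl

theorem hypothesis_of_flat [Module.Flat R N] (hi : Function.Injective i) (hg : Function.Surjective g)
    (hig : Function.Exact i g) (n : ℕ) (a : K) (ha : i a ∈ (I ^ n • ⊤ : Submodule R M)) :
    a ∈ (I ^ n • ⊤ : Submodule R K) := by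
  have h : i a ∈ LinearMap.ker g ⊓ (I ^ n • ⊤ : Submodule R M) :=
    ⟨hig.apply_apply_eq_zero a, ha⟩
  rw [LinearMap.ker_inf_smul_top_eq_smul_of_flat (I ^ n) g hg, hig.linearMap_ker_eq,
    ← Submodule.map_top, ← Submodule.map_smul''] at h
  obtain ⟨a', ha', he⟩ := h
  rwa [← hi he]

theorem hypothesis_of_annihilated (hi : Function.Injective i) (hig : Function.Exact i g) (c : ℕ)
    (hc : ∀ x ∈ I ^ c, ∀ q : N, x • q = 0) (n : ℕ) (a : K)
    (ha : i a ∈ (I ^ (n + c) • ⊤ : Submodule R M)) : a ∈ (I ^ n • ⊤ : Submodule R K) := by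
  rw [pow_add, Submodule.mul_smul] at ha
  have hle : (I ^ c • ⊤ : Submodule R M) ≤ LinearMap.range i := by
    rw [← hig.linearMap_ker_eq, Submodule.smul_le]
    intro x hx m _
    rw [LinearMap.mem_ker, map_smul, hc x hx]
  have h := Submodule.smul_mono le_rfl hle ha
  rw [← Submodule.map_top, ← Submodule.map_smul''] at h
  obtain ⟨a', ha', he⟩ := h
  rwa [← hi he]

end Groth.Calg5
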