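import Mathlib.RingTheory.Spectrum.Prime.Topology
import Mathlib.Topology.Connected.Clopen
import Mathlib.RingTheory.Spectrum.Prime.RingHom
import Mathlib.Tactic

/-!
# Connected components of prime spectra via idempotents
-/

universe u

namespace Groth.Calg5

variable {R : Type u} [CommRing R]

/-- The idempotents contained in a point of the spectrum. -/
def idemIn (p : PrimeSpectrum R) : Set R := {e | IsIdempotentElem e ∧ e ∈ p.asIdeal}

theorem span_idemIn_exists (p : PrimeSpectrum R) {x : R} (hx : x ∈ Ideal.span (idemIn p)) :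
    ∃ e ∈ idemIn p, x * e = x := by
  induction hx using Submodule.span_induction with
  | mem e he => exact ⟨e, he, he.1.eq⟩
  | zero => exact ⟨0, ⟨IsIdempotentElem.zero, zero_mem _⟩, zero_mul _⟩
  | add x y _ _ hx hy =>
    obtain ⟨e, ⟨he, hep⟩, hxe⟩ := hx
    obtain ⟨e', ⟨he', hep'⟩, hye⟩ := hy
    refine ⟨e + e' - e * e', ⟨?_, p.asIdeal.sub_mem (add_mem hep hep') (Ideal.mul_mem_left _ _ hep')⟩, ?_⟩
    · have h1 : e * e = e := he
      have h2 : e' * e' = e' := he'
      show (e + e' - e * e') * (e + e' - e * e') = e + e' - e * e'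
      linear_combination (1 - 2 * e' + e' * e') * h1 + (1 - e) * h2
    · linear_combination (1 - e') * hxe + (1 - e) * hye
  | smul a x _ hx =>
    obtain ⟨e, he, hxe⟩ := hx
    exact ⟨e, he, by rw [smul_eq_mul, mul_assoc, hxe]⟩

theorem idempotent_mem_or (p : PrimeSpectrum R) {e : R} (he : IsIdempotentElem e) :
    e ∈ idemIn p ∨ 1 - e ∈ idemIn p := by
  rcases p.2.mem_or_mem (show e * (1 - e) ∈ p.asIdeal by rw [he.mul_one_sub_self]; exact zero_mem _)
    with h | h
  · exact Or.inl ⟨he, h⟩
  · exact Or.inr ⟨he.one_sub, h⟩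

theorem isPreconnected_zeroLocus_idemIn (p : PrimeSpectrum R) :
    IsPreconnected (PrimeSpectrum.zeroLocus (idemIn p)) := by
  set I := Ideal.span (idemIn p) with hI
  have : PreconnectedSpace (PrimeSpectrum (R ⧸ I)) := by
    refine preconnectedSpace_iff_clopen.mpr fun s hs => ?_
    obtain ⟨ē, hē, rfl⟩ := PrimeSpectrum.isClopen_iff.mp hs
    obtain ⟨f, rfl⟩ := Ideal.Quotient.mk_surjective ē
    obtain ⟨e, he, hfe⟩ := span_idemIn_exists p (x := f * f - f)
      (Ideal.Quotient.eq_zero_iff_mem.mp (by rw [map_sub, map_mul, hē.eq, sub_self]))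
    have hg : IsIdempotentElem (f * (1 - e)) := by
      have h1 : e * e = e := he.1
      show f * (1 - e) * (f * (1 - e)) = f * (1 - e)
      linear_combination (- 1 : R) * hfe + f * f * h1
    have hmk : Ideal.Quotient.mk I (f * (1 - e)) = Ideal.Quotient.mk I f := by
      rw [map_mul, map_sub, map_one, Ideal.Quotient.eq_zero_iff_mem.mpr (Ideal.subset_span he),
        sub_zero, mul_one]
    rw [← hmk]
    rcases idempotent_mem_or p hg with h | h
    · left
      rw [Ideal.Quotient.eq_zero_iff_mem.mpr (Ideal.subset_span h)]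
      simp
    · right
      have : Ideal.Quotient.mk I (f * (1 - e)) = 1 := by
        have h' := Ideal.Quotient.eq_zero_iff_mem.mpr (Ideal.subset_span h)
        rw [map_sub, map_one, sub_eq_zero] at h'
        exact h'.symm
      rw [this]
      simp
  have h := isPreconnected_range (f := PrimeSpectrum.comap (Ideal.Quotient.mk I))
    (PrimeSpectrum.continuous_comap _)
  rwa [range_comap_of_surjective _ _ Ideal.Quotient.mk_surjective, Ideal.mk_ker,
    PrimeSpectrum.zeroLocus_span] at h

theorem mem_zeroLocus_idemIn (p : PrimeSpectrum R) :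
    p ∈ PrimeSpectrum.zeroLocus (idemIn p) := fun _ h => h.2

theorem connectedComponent_eq_zeroLocus (p : PrimeSpectrum R) :
    connectedComponent p = PrimeSpectrum.zeroLocus (idemIn p) := by
  refine subset_antisymm ?_
    ((isPreconnected_zeroLocus_idemIn p).subset_connectedComponent (mem_zeroLocus_idemIn p))
  intro x hx e he
  have hs : IsClopen (PrimeSpectrum.zeroLocus ({e} : Set R)) :=
    PrimeSpectrum.isClopen_iff_zeroLocus.mpr ⟨e, he.1, rfl⟩
  exact hs.connectedComponent_subset (show p ∈ _ by simp [he.2]) hx rfl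

theorem exists_idempotent_separating {T : Set (PrimeSpectrum R)} (hT : IsClosed T)
    (h : ∀ x ∈ T, connectedComponent x ⊆ T) {x : PrimeSpectrum R} (hx : x ∉ T) :
    ∃ e : R, IsIdempotentElem e ∧ e ∉ x.asIdeal ∧ T ⊆ PrimeSpectrum.zeroLocus {e} := by
  obtain ⟨A, rfl⟩ := (PrimeSpectrum.isClosed_iff_zeroLocus_ideal T).mp hT
  have htop : Ideal.span (idemIn x) ⊔ A = ⊤ := by
    by_contra hc
    obtain ⟨m, hm, hle⟩ := Ideal.exists_le_maximal _ hc
    have h1 : (⟨m, hm.isPrime⟩ : PrimeSpectrum R) ∈ connectedComponent x := by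
      rw [connectedComponent_eq_zeroLocus]
      exact fun e he => hle (Ideal.mem_sup_left (Ideal.subset_span he))
    refine hx (h ⟨m, hm.isPrime⟩ (fun a ha => hle (Ideal.mem_sup_right ha)) ?_)
    rw [← connectedComponent_eq h1]
    exact mem_connectedComponent
  obtain ⟨a, ha, b, hb, hab⟩ := Submodule.mem_sup.mp ((Ideal.eq_top_iff_one _).mp htop)
  obtain ⟨e, ⟨he, hex⟩, hae⟩ := span_idemIn_exists x ha
  refine ⟨1 - e, he.one_sub, fun hc => x.2.ne_top ?_, ?_⟩
  · rw [Ideal.eq_top_iff_one]; simpa using add_mem hex hc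
  · intro y hy
    rw [PrimeSpectrum.mem_zeroLocus, Set.singleton_subset_iff]
    have : b * (1 - e) = 1 - e := by linear_combination (1 - e) * hab + hae
    exact this ▸ Ideal.mul_mem_right _ _ (hy hb)

end Groth.Calg5
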