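import Mathlib
import Groth.Agent.KoszulReg.Basic
import Groth.Agent.FrobLCI.CE.Bridge
import Groth.Agent.FrobLCI.TorObs.Wedge
import Groth.Agent.KoszulCone.ConeElem

/-!
Exactness of the concrete Koszul model from `LCI.IsKoszulRegularSeq`, and Wiebe's theorem:
if `f = c g` with `f` Koszul-regular then `(f) : (g) = (f) + (det c)`.
-/

set_option autoImplicit false
set_option linter.style.haveILetI false

universe u

open CategoryTheory Groth.KoszulCone Groth.FrobLCI.CE Groth.FrobLCI.TorObs

namespace Groth.Calg5.KoszulColon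

variable {R : Type u} [CommRing R]

theorem exists_equiv : ∀ {n : ℕ} (x : Fin n → R),
    ∃ T : ∀ i : ℕ, (Koszul.koszul R (List.ofFn x)).X (-(i : ℤ)) ≃ₗ[R] (idx n i → R),
      ∀ i (v : (Koszul.koszul R (List.ofFn x)).X (-((i + 1 : ℕ) : ℤ))),
        T i ((Koszul.koszul R (List.ofFn x)).d (-((i + 1 : ℕ) : ℤ)) (-(i : ℤ)) v) =
          d x i (T (i + 1) v) := by
  intro n
  induction n with
  | zero =>
    intro x
    rw [List.ofFn_zero]
    have hz : ∀ i : ℕ, Limits.IsZero ((Koszul.koszul R ([] : List R)).X (-((i + 1 : ℕ) : ℤ))) := fun i =>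
      HomologicalComplex.isZero_single_obj_X _ _ _ _ (by omega)
    let e : (Koszul.koszul R ([] : List R)).X (-((0 : ℕ) : ℤ)) ≅ ModuleCat.of R R :=
      HomologicalComplex.singleObjXSelf (ComplexShape.up ℤ) 0 (ModuleCat.of R R)
    refine ⟨fun i => match i with
      | 0 => e.toLinearEquiv.trans (LinearEquiv.funUnique Unit R R).symm
      | i + 1 =>
        letI := ModuleCat.subsingleton_of_isZero (hz i)
        LinearEquiv.ofSubsingleton _ (Empty → R), fun i v => ?_⟩
    have := ModuleCat.subsingleton_of_isZero (hz i)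
    rw [Subsingleton.elim v 0, map_zero, map_zero, map_zero]
    exact (map_zero (dL x i)).symm
  | succ n ih =>
    intro x
    obtain ⟨E, hE⟩ := ih (Fin.tail x)
    rw [List.ofFn_succ, show (fun i : Fin n => x i.succ) = Fin.tail x from rfl]
    have hz := Groth.FrobLCI.CE.isZero_koszul (List.ofFn (Fin.tail x))
    change ∃ T : ∀ i : ℕ, (CochainComplex.mappingCone
        (x 0 • 𝟙 (Koszul.koszul R (List.ofFn (Fin.tail x))))).X (-(i : ℤ)) ≃ₗ[R] (idx (n + 1) i → R),
      ∀ i (v : (CochainComplex.mappingCone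
        (x 0 • 𝟙 (Koszul.koszul R (List.ofFn (Fin.tail x))))).X (-((i + 1 : ℕ) : ℤ))),
        T i ((CochainComplex.mappingCone (x 0 • 𝟙 (Koszul.koszul R (List.ofFn (Fin.tail x))))).d
          (-((i + 1 : ℕ) : ℤ)) (-(i : ℤ)) v) = d x i (T (i + 1) v)
    generalize Koszul.koszul R (List.ofFn (Fin.tail x)) = K at E hE hz ⊢
    let φ : K ⟶ K := x 0 • 𝟙 K
    let C := CochainComplex.mappingCone φ
    have hsub : Subsingleton (K.X (-((0 : ℕ) : ℤ) + 1)) :=
      ModuleCat.subsingleton_of_isZero (hz _ (by simp))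
    let T : ∀ i : ℕ, C.X (-(i : ℤ)) →ₗ[R] (idx (n + 1) i → R) := fun i => match i with
      | 0 => (E 0).toLinearMap ∘ₗ csnd φ _
      | i + 1 =>
        { toFun := fun v j => Sum.elim (E i (cfst φ _ (-(i : ℤ)) (by push_cast; ring) v))
            (E (i + 1) (csnd φ _ v)) (show idx n i ⊕ idx n (i + 1) from j)
          map_add' := fun v w => funext fun j => by rcases j with a | b <;> simp
          map_smul' := fun c v => funext fun j => by rcases j with a | b <;> simp }
    have hTb : ∀ i, Function.Bijective (T i) := by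
      intro i
      cases i with
      | zero =>
        refine ⟨fun v w h => cone_ext φ rfl (Subsingleton.elim _ _) ((E 0).injective h), fun y => ?_⟩
        exact ⟨cmk φ _ _ rfl 0 ((E 0).symm y),
          (congrArg (E 0) (csnd_cmk φ _ _ rfl _ _)).trans ((E 0).apply_symm_apply y)⟩
      | succ i =>
        refine ⟨fun v w h => cone_ext φ (j := -(i : ℤ)) (by push_cast; ring) ?_ ?_, fun y => ?_⟩
        · exact (E i).injective (funext fun a => congrFun h (Sum.inl a))
        · exact (E (i + 1)).injective (funext fun b => congrFun h (Sum.inr b))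
        · refine ⟨cmk φ _ (-(i : ℤ)) (by push_cast; ring) ((E i).symm fun a => y (Sum.inl a))
            ((E (i + 1)).symm fun b => y (Sum.inr b)), funext fun j => ?_⟩
          rcases j with a | b <;> simp [T]
    refine ⟨fun i => LinearEquiv.ofBijective (T i) (hTb i), fun i v => ?_⟩
    change T i (C.d _ _ v) = d x i (T (i + 1) v)
    cases i with
    | zero =>
      change E 0 (csnd φ _ (C.d _ _ v)) = _
      rw [csnd_d φ _ _ (by norm_num) v, map_add, hE]
      change E 0 (x 0 • _) + _ = _
      rw [map_smul]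
      rfl
    | succ i =>
      funext j
      rcases j with a | b
      · change E i (cfst φ _ (-(i : ℤ)) (by push_cast; ring) (C.d _ _ v)) a = _
        rw [cfst_d φ _ (-((i + 1 : ℕ) : ℤ)) _ (by push_cast; ring) (by push_cast; ring) v, map_neg, hE,
          d_succ_inl]
        rfl
      · change E (i + 1) (csnd φ _ (C.d _ _ v)) b = _
        rw [csnd_d φ _ _ (by push_cast; ring) v, map_add, hE, d_succ_inr]
        change (E (i + 1) (x 0 • _) + _) b = _
        rw [map_smul]
        rfl

/-- The concrete Koszul complex of a Koszul-regular sequence is exact in positive degrees. -/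
theorem exact_of_isKoszulRegularSeq {n : ℕ} (x : Fin n → R)
    (h : LCI.IsKoszulRegularSeq R (List.ofFn x)) (i : ℕ) (v : idx n (i + 1) → R) (hv : d x i v = 0) :
    ∃ w, d x (i + 1) w = v := by
  obtain ⟨T, hT⟩ := exists_equiv x
  have hex : (Koszul.koszul R (List.ofFn x)).ExactAt (-((i + 1 : ℕ) : ℤ)) :=
    (HomologicalComplex.exactAt_iff_isZero_homology _ _).mpr (h _ (by omega))
  rw [HomologicalComplex.exactAt_iff' _ (-((i + 2 : ℕ) : ℤ)) (-((i + 1 : ℕ) : ℤ)) (-(i : ℤ))
    (by simp; ring) (by simp), ShortComplex.moduleCat_exact_iff] at hex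
  obtain ⟨z, hz⟩ := hex ((T (i + 1)).symm v) ((T i).injective (by
    refine (hT i _).trans ?_
    rw [LinearEquiv.apply_symm_apply, hv]
    exact (map_zero (T i)).symm))
  exact ⟨T (i + 2) z, (hT (i + 1) z).symm.trans ((congrArg (T (i + 1)) hz).trans
    ((T (i + 1)).apply_symm_apply v))⟩

/-! ### Wedges of rows -/

theorem wedge_add_left : ∀ {n : ℕ} (w w' : Fin n → R) (i : ℕ) (v : idx n i → R),
    wedge (w + w') i v = wedge w i v + wedge w' i v
  | 0, _, _, _, _ => funext fun j => Empty.elim j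
  | n + 1, w, w', 0, v => funext fun j => by
    rcases j with a | b
    · simp only [Pi.add_apply, wedge_zero_inl, add_mul]
    · simp only [Pi.add_apply, wedge_zero_inr]
      exact congrFun (wedge_add_left (Fin.tail w) (Fin.tail w') 0 v) b
  | n + 1, w, w', i + 1, v => funext fun j => by
    rcases j with a | b
    · simp only [Pi.add_apply, wedge_succ_inl]
      rw [show Fin.tail (w + w') = Fin.tail w + Fin.tail w' from rfl,
        congrFun (wedge_add_left (Fin.tail w) (Fin.tail w') i fun k => v (Sum.inl k)) a, Pi.add_apply]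
      ring
    · simp only [Pi.add_apply, wedge_succ_inr]
      exact congrFun (wedge_add_left (Fin.tail w) (Fin.tail w') (i + 1) _) b

theorem wedge_smul_left : ∀ {n : ℕ} (c : R) (w : Fin n → R) (i : ℕ) (v : idx n i → R),
    wedge (c • w) i v = c • wedge w i v
  | 0, _, _, _, _ => funext fun j => Empty.elim j
  | n + 1, c, w, 0, v => funext fun j => by
    rcases j with a | b
    · simp only [Pi.smul_apply, smul_eq_mul, wedge_zero_inl, mul_assoc]
    · simp only [Pi.smul_apply, wedge_zero_inr]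
      exact congrFun (wedge_smul_left c (Fin.tail w) 0 v) b
  | n + 1, c, w, i + 1, v => funext fun j => by
    rcases j with a | b
    · simp only [Pi.smul_apply, smul_eq_mul, wedge_succ_inl]
      rw [show Fin.tail (c • w) = c • Fin.tail w from rfl,
        congrFun (wedge_smul_left c (Fin.tail w) i fun k => v (Sum.inl k)) a, Pi.smul_apply, smul_eq_mul]
      ring
    · simp only [Pi.smul_apply, wedge_succ_inr]
      exact congrFun (wedge_smul_left c (Fin.tail w) (i + 1) _) b

theorem wedge_anticomm {n : ℕ} (w w' : Fin n → R) (i : ℕ) (v : idx n i → R) :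
    wedge w (i + 1) (wedge w' i v) = - wedge w' (i + 1) (wedge w i v) := by
  have h := wedge_wedge (w + w') i v
  rw [wedge_add_left, wedge_add_left, wedge_add, wedge_add, wedge_wedge, wedge_wedge, zero_add,
    add_zero] at h
  exact eq_neg_of_add_eq_zero_left h

/-- `wedge` as a linear map. -/
def wedgeL {n : ℕ} (w : Fin n → R) (i : ℕ) : (idx n i → R) →ₗ[R] (idx n (i + 1) → R) where
  toFun := wedge w i
  map_add' := wedge_add w i
  map_smul' := fun c v => wedge_smul w i c v

/-- The map of Koszul complexes induced by the rows `c`. -/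
def Psi {n : ℕ} : ∀ {m : ℕ} (_c : Fin m → Fin n → R) (i : ℕ), (idx m i → R) →ₗ[R] (idx n i → R)
  | 0, _, 0 => LinearMap.pi fun _ => LinearMap.proj ()
  | 0, _, _ + 1 => 0
  | _ + 1, c, 0 => Psi (Fin.tail c) 0
  | _ + 1, c, i + 1 =>
    wedgeL (c 0) i ∘ₗ Psi (Fin.tail c) i ∘ₗ LinearMap.funLeft R R Sum.inl +
      Psi (Fin.tail c) (i + 1) ∘ₗ LinearMap.funLeft R R Sum.inr

theorem Psi_zero_apply {n : ℕ} : ∀ {m : ℕ} (c : Fin m → Fin n → R) (v : idx m 0 → R) (j : idx n 0),
    Psi c 0 v j = v (pt m)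
  | 0, _, _, _ => rfl
  | _ + 1, c, v, j => Psi_zero_apply (Fin.tail c) v j

theorem Psi_succ_apply {n m : ℕ} (c : Fin (m + 1) → Fin n → R) (i : ℕ) (v : idx (m + 1) (i + 1) → R) :
    Psi c (i + 1) v = wedge (c 0) i (Psi (Fin.tail c) i fun k => v (Sum.inl k)) +
      Psi (Fin.tail c) (i + 1) (fun k => v (Sum.inr k)) :=
  rfl

theorem d_Psi {n : ℕ} (g : Fin n → R) : ∀ {m : ℕ} (c : Fin m → Fin n → R) (f : Fin m → R),
    (∀ j, f j = ∑ k, g k * c j k) → ∀ (i : ℕ) (v : idx m (i + 1) → R),
      d g i (Psi c (i + 1) v) = Psi c i (d f i v)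
  | 0, c, f, _, i, v => by
    rw [show Psi c (i + 1) v = 0 from rfl, show d f i v = 0 from rfl, map_zero]
    exact map_zero (dL g i)
  | m + 1, c, f, hf, 0, v => by
    rw [Psi_succ_apply, d_add, d_wedge_zero, ← hf 0,
      d_Psi g (Fin.tail c) (Fin.tail f) (fun j => hf j.succ) 0]
    change _ = Psi (Fin.tail c) 0 (f 0 • (fun k => v (Sum.inl k)) + d (Fin.tail f) 0 fun k => v (Sum.inr k))
    rw [map_add, map_smul]
  | m + 1, c, f, hf, i + 1, v => by
    have IH := d_Psi g (Fin.tail c) (Fin.tail f) (fun j => hf j.succ)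
    rw [Psi_succ_apply, Psi_succ_apply, d_add, IH (i + 1),
      eq_sub_of_add_eq (d_wedge g (c 0) i _), ← hf 0, IH i]
    have e1 : (fun k => d f (i + 1) v (Sum.inl k)) = -(d (Fin.tail f) i fun k => v (Sum.inl k)) := rfl
    have e2 : (fun k => d f (i + 1) v (Sum.inr k)) =
        f 0 • (fun k => v (Sum.inl k)) + d (Fin.tail f) (i + 1) (fun k => v (Sum.inr k)) := rfl
    rw [e1, e2, map_neg, map_add, map_smul]
    change _ = wedgeL (c 0) i (- _) + _
    rw [map_neg]
    change _ = - wedge (c 0) i _ + _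
    abel

/-- The wedge of all the rows. -/
def W {n m : ℕ} (c : Fin m → Fin n → R) : idx n m → R := Psi c m fun _ => 1

theorem W_succ {n m : ℕ} (c : Fin (m + 1) → Fin n → R) : W c = wedge (c 0) m (W (Fin.tail c)) := by
  have : IsEmpty (idx m (m + 1)) := isEmpty_idx m (m + 1) m.lt_succ_self
  rw [W, Psi_succ_apply, Subsingleton.elim (fun k : idx m (m + 1) => (1 : R)) 0, map_zero, add_zero]
  rfl

theorem wedge_W_eq_zero {n : ℕ} : ∀ {m : ℕ} (c : Fin m → Fin n → R) (w : Fin n → R),
    (∃ j, c j = w) → wedge w m (W c) = 0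
  | 0, _, _, ⟨j, _⟩ => j.elim0
  | m + 1, c, w, ⟨j, hj⟩ => by
    rw [W_succ]
    induction j using Fin.cases with
    | zero => rw [← hj, wedge_wedge]
    | succ k =>
      rw [wedge_anticomm, wedge_W_eq_zero (Fin.tail c) w ⟨k, hj⟩]
      simp [show wedge (c 0) (m + 1) 0 = 0 from map_zero (wedgeL (c 0) (m + 1))]

theorem W_eq_zero {n : ℕ} : ∀ {m : ℕ} (c : Fin m → Fin n → R) (a b : Fin m),
    c a = c b → a ≠ b → W c = 0
  | 0, _, a, _, _, _ => a.elim0
  | m + 1, c, a, b, h, hab => by
    rw [W_succ]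
    induction a using Fin.cases with
    | zero =>
      obtain ⟨k, rfl⟩ := Fin.exists_succ_eq.mpr (Ne.symm hab)
      exact wedge_W_eq_zero _ _ ⟨k, h.symm⟩
    | succ a =>
      induction b using Fin.cases with
      | zero => exact wedge_W_eq_zero _ _ ⟨a, h⟩
      | succ b =>
        rw [W_eq_zero (Fin.tail c) a b h (fun e => hab (congrArg Fin.succ e))]
        exact map_zero (wedgeL (c 0) m)

theorem W_update_add {n : ℕ} : ∀ {m : ℕ} (c : Fin m → Fin n → R) (a : Fin m) (x y : Fin n → R),
    W (Function.update c a (x + y)) = W (Function.update c a x) + W (Function.update c a y)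
  | 0, _, a, _, _ => a.elim0
  | m + 1, c, a, x, y => by
    simp only [W_succ]
    induction a using Fin.cases with
    | zero => simp [Fin.tail_update_zero, wedge_add_left]
    | succ a =>
      simp [Fin.tail_update_succ, W_update_add (Fin.tail c) a x y, wedge_add,
        Function.update_of_ne (Fin.succ_ne_zero a).symm]

theorem W_update_smul {n : ℕ} : ∀ {m : ℕ} (c : Fin m → Fin n → R) (a : Fin m) (r : R) (x : Fin n → R),
    W (Function.update c a (r • x)) = r • W (Function.update c a x)
  | 0, _, a, _, _ => a.elim0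
  | m + 1, c, a, r, x => by
    simp only [W_succ]
    induction a using Fin.cases with
    | zero => simp [Fin.tail_update_zero, wedge_smul_left]
    | succ a =>
      simp [Fin.tail_update_succ, W_update_smul (Fin.tail c) a r x, wedge_smul,
        Function.update_of_ne (Fin.succ_ne_zero a).symm]

/-- The top coefficient of the wedge of `n` rows in rank `n`. -/
def topAlt (n : ℕ) : (Fin n → R) [⋀^Fin n]→ₗ[R] R where
  toFun c := W c (top n)
  map_update_add' := by
    intro inst c a x y
    rw [Subsingleton.elim inst (instDecidableEqFin n)]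
    simp [W_update_add]
  map_update_smul' := by
    intro inst c a r x
    rw [Subsingleton.elim inst (instDecidableEqFin n)]
    simp [W_update_smul]
  map_eq_zero_of_eq' c a b h hab := by simp [W_eq_zero c a b h hab]

theorem W_top_mem {n : ℕ} (c : Matrix (Fin n) (Fin n) R) : W c (top n) ∈ Ideal.span {c.det} := by
  have h := congrArg (fun (f : (Fin n → R) [⋀^Fin n]→ₗ[R] R) => f c)
    ((topAlt n).eq_smul_basis_det (Pi.basisFun R (Fin n)))
  simp only [AlternatingMap.smul_apply, Pi.basisFun_det_apply, smul_eq_mul] at h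
  rw [show W c (top n) = topAlt n c from rfl, h]
  exact Ideal.mul_mem_left _ _ (Ideal.subset_span rfl)

/-! ### Wiebe's theorem -/

theorem exists_comp_eq {ι M N : Type*} [Finite ι] [AddCommGroup M] [Module R M] [AddCommGroup N]
    [Module R N] (q : M →ₗ[R] N) (L : (ι → R) →ₗ[R] N) (h : ∀ v, ∃ w, q w = L v) :
    ∃ L' : (ι → R) →ₗ[R] M, q ∘ₗ L' = L := by
  obtain ⟨L', hL'⟩ := Module.projective_lifting_property q.rangeRestrict
    (L.codRestrict _ fun v => h v) q.surjective_rangeRestrict
  exact ⟨L', LinearMap.ext fun v => congrArg Subtype.val (LinearMap.congr_fun hL' v)⟩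

theorem apply_mem_of_forall_mem {ι : Type*} [Fintype ι] [DecidableEq ι] {I : Ideal R} {κ : Type*}
    (L : (ι → R) →ₗ[R] (κ → R)) (v : ι → R) (hv : ∀ a, v a ∈ I) (k : κ) : L v k ∈ I := by
  rw [pi_eq_sum_univ v, map_sum, Finset.sum_apply]
  refine I.sum_mem fun a _ => ?_
  rw [map_smul]
  exact I.mul_mem_right _ (hv a)

/-- **Wiebe**: if `f = c g` with `f` Koszul-regular, an element multiplying `(g)` into `(f)` lies
in `(f) + (det c)`. -/
theorem mem_of_forall_mul_mem {n : ℕ} {f g : Fin n → R} (c : Matrix (Fin n) (Fin n) R)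
    (hc : ∀ i, f i = ∑ j, c i j * g j) (hf : LCI.IsKoszulRegularSeq R (List.ofFn f)) {h : R}
    (hh : ∀ j, h * g j ∈ Ideal.span (Set.range f)) :
    h ∈ Ideal.span (Set.range f) ⊔ Ideal.span {c.det} := by
  cases n with
  | zero => simp [Matrix.det_fin_zero]
  | succ m =>
  have hfg : ∀ j, f j = ∑ k, g k * c j k := fun j => (hc j).trans (Finset.sum_congr rfl fun k _ => mul_comm _ _)
  have hF := exact_of_isKoszulRegularSeq f hf
  -- the lift of multiplication by `h`
  let P : ∀ i : ℕ, ((idx (m + 1) i → R) →ₗ[R] (idx (m + 1) i → R)) → Prop := fun i φ =>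
    ∀ v, ∃ w, d f i w = φ (d g i v)
  have hP0 : P 0 (h • LinearMap.id) := by
    intro v
    obtain ⟨w, hw⟩ := exists_d_eq f (h * d g 0 v (pt _)) (by
      have h1 := d_mem_smul_top g 0 v (pt _)
      rw [smul_eq_mul, Ideal.mul_top] at h1 ⊢
      refine Submodule.span_induction (p := fun y _ => h * y ∈ Ideal.span (Set.range f)) ?_ ?_ ?_ ?_ h1
      · rintro _ ⟨j, rfl⟩; exact hh j
      · simp
      · intro y z _ _ hy hz; rw [mul_add]; exact add_mem hy hz
      · intro r y _ hy; rw [smul_eq_mul, mul_left_comm]; exact Ideal.mul_mem_left _ _ hy)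
    exact ⟨w, funext fun j => by rw [eq_pt _ j, hw]; rfl⟩
  have hstep : ∀ i (φ : (idx (m + 1) i → R) →ₗ[R] (idx (m + 1) i → R)), P i φ →
      ∃ φ', P (i + 1) φ' ∧ ∀ v, d f i (φ' v) = φ (d g i v) := by
    intro i φ hφ
    obtain ⟨φ', hφ'⟩ := exists_comp_eq (dL f i) (φ ∘ₗ dL g i) hφ
    refine ⟨φ', fun v => hF i _ ?_, fun v => LinearMap.congr_fun hφ' v⟩
    have := LinearMap.congr_fun hφ' (d g (i + 1) v)
    change d f i (φ' (d g (i + 1) v)) = φ (d g i (d g (i + 1) v)) at this
    rw [this, Groth.FrobLCI.CE.d_d, map_zero]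
  choose! next hnext hnext' using hstep
  let φ : ∀ i : ℕ, (idx (m + 1) i → R) →ₗ[R] (idx (m + 1) i → R) := fun i =>
    Nat.rec (motive := fun i => (idx (m + 1) i → R) →ₗ[R] (idx (m + 1) i → R))
      (h • LinearMap.id) next i
  have hPφ : ∀ i, P i (φ i) := fun i => by
    induction i with
    | zero => exact hP0
    | succ i ih => exact hnext i _ ih
  have hφd : ∀ i v, d f i (φ (i + 1) v) = φ i (d g i v) := fun i => hnext' i _ (hPφ i)
  -- the difference
  let D : ∀ i : ℕ, (idx (m + 1) i → R) →ₗ[R] (idx (m + 1) i → R) := fun i =>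
    φ i ∘ₗ Psi c i - h • LinearMap.id
  have hD : ∀ i v, d f i (D (i + 1) v) = D i (d f i v) := fun i v => by
    change dL f i (φ (i + 1) (Psi c (i + 1) v) - h • v) = φ i (Psi c i (d f i v)) - h • d f i v
    rw [map_sub, map_smul]
    change d f i (φ (i + 1) _) - h • d f i v = _
    rw [hφd, d_Psi g c f hfg]
  have hD0 : ∀ v, D 0 v = 0 := fun v => funext fun j => by
    change h * Psi c 0 v j - h * v j = 0
    rw [Psi_zero_apply, ← eq_pt _ j, sub_self]
  have hs : ∀ i, ∃ s : (idx (m + 1) i → R) →ₗ[R] (idx (m + 1) (i + 1) → R),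
      ∀ v, d f i (D (i + 1) v - s (d f i v)) = 0 := by
    intro i
    induction i with
    | zero => exact ⟨0, fun v => by rw [LinearMap.zero_apply, sub_zero, hD, hD0]⟩
    | succ i ih =>
      obtain ⟨s, hs⟩ := ih
      obtain ⟨s', hs'⟩ := exists_comp_eq (dL f (i + 1)) (D (i + 1) - s ∘ₗ dL f i)
        (fun v => hF i _ (hs v))
      refine ⟨s', fun v => ?_⟩
      change dL f (i + 1) (D (i + 2) v - s' (d f (i + 1) v)) = 0
      rw [map_sub]
      have h1 : d f (i + 1) (s' (d f (i + 1) v)) = D (i + 1) (d f (i + 1) v) := by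
        have := LinearMap.congr_fun hs' (d f (i + 1) v)
        change d f (i + 1) (s' (d f (i + 1) v)) =
          D (i + 1) (d f (i + 1) v) - s (d f i (d f (i + 1) v)) at this
        rwa [Groth.FrobLCI.CE.d_d, map_zero, sub_zero] at this
      change d f (i + 1) (D (i + 2) v) - d f (i + 1) (s' _) = 0
      rw [h1, hD, sub_self]
  obtain ⟨s, hs⟩ := hs m
  obtain ⟨w, hw⟩ := hF m _ (hs fun _ => 1)
  have : IsEmpty (idx (m + 1) (m + 1 + 1)) := isEmpty_idx _ _ (Nat.lt_succ_self _)
  rw [Subsingleton.elim w 0, show d f (m + 1) 0 = 0 from map_zero (dL f (m + 1))] at hw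
  have key := congrFun hw (top (m + 1))
  change (0 : R) = φ (m + 1) (W c) (top (m + 1)) - h * 1 - s (d f m fun _ => 1) (top (m + 1)) at key
  have e1 : φ (m + 1) (W c) (top (m + 1)) ∈ Ideal.span {c.det} :=
    apply_mem_of_forall_mem _ _ (fun a => by rw [eq_top _ a]; exact W_top_mem c) _
  have e2 : s (d f m fun _ => 1) (top (m + 1)) ∈ Ideal.span (Set.range f) :=
    apply_mem_of_forall_mem _ _ (fun a => by
      have h1 := d_mem_smul_top f m (fun _ => (1 : R)) a
      rwa [smul_eq_mul, Ideal.mul_top] at h1) _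
  rw [show h = -(s (d f m fun _ => 1) (top (m + 1))) + φ (m + 1) (W c) (top (m + 1)) by
    linear_combination key]
  exact add_mem (Submodule.mem_sup_left (neg_mem e2)) (Submodule.mem_sup_right e1)

/-- `det c` multiplies `(g)` into `(f)`. -/
theorem det_mul_mem {n : ℕ} {f g : Fin n → R} (c : Matrix (Fin n) (Fin n) R)
    (hc : ∀ i, f i = ∑ j, c i j * g j) (j : Fin n) : c.det * g j ∈ Ideal.span (Set.range f) := by
  have h : c.adjugate.mulVec f = c.det • g := by
    rw [show f = c.mulVec g from funext hc, Matrix.mulVec_mulVec, Matrix.adjugate_mul,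
      Matrix.smul_mulVec, Matrix.one_mulVec]
  rw [← smul_eq_mul, ← Pi.smul_apply, ← h]
  simp only [Matrix.mulVec, dotProduct]
  exact Ideal.sum_mem _ fun k _ => Ideal.mul_mem_left _ _ (Ideal.subset_span (Set.mem_range_self k))

end Groth.Calg5.KoszulColon
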