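import Mathlib
import Groth.Prelude.Def_Disc
import Groth.Agent.Calg5.KoszulColon
import Groth.Agent.KoszulReg.Basic

/-!
The annihilator of the diagonal ideal of `B = A[x]/(f_1, …, f_n)`, flat over `A`: it is generated by
the image of `det c`, `f_i ⊗ 1 = Σ c_ij (x_j ⊗ 1 - 1 ⊗ x_j)`, whose product is the Jacobian
determinant.
-/

set_option autoImplicit false
set_option linter.style.haveILetI false

universe u

open TensorProduct

namespace Groth.Calg5.Diagonal

variable {A : Type u} [CommRing A] {n : ℕ} {B : Type u} [CommRing B] [Algebra A B]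
  (π : MvPolynomial (Fin n) A →ₐ[A] B) (f : Fin n → MvPolynomial (Fin n) A)

/-- The evaluation `A[x] ⊗ B → B`. -/
noncomputable abbrev mult : MvPolynomial (Fin n) A ⊗[A] B →ₐ[A] B :=
  Algebra.TensorProduct.productMap π (AlgHom.id A B)

/-- The map `A[x] ⊗ B → B ⊗ B`. -/
noncomputable abbrev proj : MvPolynomial (Fin n) A ⊗[A] B →ₐ[A] B ⊗[A] B :=
  Algebra.TensorProduct.map π (AlgHom.id A B)

/-- The diagonal generators `x_j ⊗ 1 - 1 ⊗ x_j`. -/
noncomputable def dgen (j : Fin n) : MvPolynomial (Fin n) A ⊗[A] B :=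
  MvPolynomial.X j ⊗ₜ[A] 1 - 1 ⊗ₜ[A] π (MvPolynomial.X j)

theorem mult_dgen (j : Fin n) : mult π (dgen π j) = 0 := by
  simp [dgen, mult]

theorem sub_mem_span (z : MvPolynomial (Fin n) A ⊗[A] B) :
    z - 1 ⊗ₜ[A] mult π z ∈ Ideal.span (Set.range (dgen π)) := by
  induction z using TensorProduct.induction_on with
  | zero => simp
  | add a b ha hb =>
    rw [map_add, TensorProduct.tmul_add, add_sub_add_comm]
    exact add_mem ha hb
  | tmul p b =>
    induction p using MvPolynomial.induction_on generalizing b with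
    | C a =>
      have : (MvPolynomial.C a : MvPolynomial (Fin n) A) ⊗ₜ[A] b - 1 ⊗ₜ[A] mult π (MvPolynomial.C a ⊗ₜ[A] b) = 0 := by
        rw [sub_eq_zero, mult, Algebra.TensorProduct.productMap_apply_tmul, AlgHom.id_apply,
          ← MvPolynomial.algebraMap_eq, Algebra.algebraMap_eq_smul_one, map_smul, map_one, smul_one_mul,
          TensorProduct.smul_tmul]
      rw [this]; exact zero_mem _
    | add p q hp hq =>
      rw [TensorProduct.add_tmul, map_add, TensorProduct.tmul_add, add_sub_add_comm]
      exact add_mem (hp b) (hq b)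
    | mul_X p j hp =>
      have e1 : (p * MvPolynomial.X j) ⊗ₜ[A] b = p ⊗ₜ[A] b * (MvPolynomial.X j ⊗ₜ[A] (1 : B)) := by
        rw [Algebra.TensorProduct.tmul_mul_tmul, mul_one]
      have e2 : (1 : MvPolynomial (Fin n) A) ⊗ₜ[A] mult π ((p * MvPolynomial.X j) ⊗ₜ[A] b) =
          ((1 : MvPolynomial (Fin n) A) ⊗ₜ[A] π (MvPolynomial.X j)) *
            ((1 : MvPolynomial (Fin n) A) ⊗ₜ[A] mult π (p ⊗ₜ[A] b)) := by
        rw [Algebra.TensorProduct.tmul_mul_tmul, one_mul]
        congr 1
        simp only [mult, Algebra.TensorProduct.productMap_apply_tmul, map_mul,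
          AlgHom.id_apply]
        ring
      have e : (p * MvPolynomial.X j) ⊗ₜ[A] b - 1 ⊗ₜ[A] mult π ((p * MvPolynomial.X j) ⊗ₜ[A] b) =
          p ⊗ₜ[A] b * dgen π j + (1 : MvPolynomial (Fin n) A) ⊗ₜ[A] (π (MvPolynomial.X j)) *
            (p ⊗ₜ[A] b - 1 ⊗ₜ[A] mult π (p ⊗ₜ[A] b)) := by
        rw [e2, e1, dgen]
        ring
      rw [e]
      exact add_mem (Ideal.mul_mem_left _ _ (Ideal.subset_span ⟨j, rfl⟩)) (Ideal.mul_mem_left _ _ (hp b))

theorem span_dgen : Ideal.span (Set.range (dgen π)) = RingHom.ker (mult π) := by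
  refine le_antisymm (Ideal.span_le.mpr ?_) fun z hz => ?_
  · rintro _ ⟨j, rfl⟩; exact mult_dgen π j
  · have := sub_mem_span π z
    rwa [RingHom.mem_ker.mp hz, TensorProduct.tmul_zero, sub_zero] at this

/-- A matrix expressing `f_i ⊗ 1` through the diagonal generators. -/
def Expresses (f : Fin n → MvPolynomial (Fin n) A) (c : Matrix (Fin n) (Fin n) (MvPolynomial (Fin n) A ⊗[A] B)) : Prop :=
  ∀ i, f i ⊗ₜ[A] (1 : B) = ∑ j, c i j * dgen π j

theorem exists_expresses (hker : RingHom.ker π = Ideal.span (Set.range f)) :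
    ∃ c, Expresses π f c := by
  have : ∀ i, ∃ c : Fin n → MvPolynomial (Fin n) A ⊗[A] B,
      ∑ j, c j * dgen π j = f i ⊗ₜ[A] (1 : B) := fun i => by
    refine (Ideal.mem_span_range_iff_exists_fun (v := dgen π) (x := f i ⊗ₜ[A] (1 : B))).mp ?_
    rw [span_dgen, RingHom.mem_ker, mult, Algebra.TensorProduct.productMap_apply_tmul, AlgHom.id_apply,
      mul_one]
    exact RingHom.mem_ker.mp (hker ▸ Ideal.subset_span ⟨i, rfl⟩)
  choose c hc using this
  exact ⟨fun i j => c i j, fun i => (hc i).symm⟩

/-- The diagonal class. -/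
noncomputable def xi (c : Matrix (Fin n) (Fin n) (MvPolynomial (Fin n) A ⊗[A] B)) : B ⊗[A] B :=
  proj π c.det

theorem annihilator_eq (hπ : Function.Surjective π) (hker : RingHom.ker π = Ideal.span (Set.range f))
    (hf : LCI.IsKoszulRegularSeq (MvPolynomial (Fin n) A) (List.ofFn f))
    [Module.Flat A B] {c : Matrix (Fin n) (Fin n) (MvPolynomial (Fin n) A ⊗[A] B)}
    (hc : Expresses π f c) :
    Submodule.annihilator (RingHom.ker (Algebra.TensorProduct.lmul' (S := B) A)) =
      Ideal.span {xi π c} := by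
  have hsurj : Function.Surjective (proj π) :=
    Algebra.TensorProduct.map_surjective _ _ hπ Function.surjective_id
  have hkerπ : RingHom.ker (proj π) =
      Ideal.span (Set.range fun i => f i ⊗ₜ[A] (1 : B)) := by
    rw [Algebra.TensorProduct.map_ker _ _ hπ Function.surjective_id]
    have h2 : RingHom.ker (AlgHom.id A B) = ⊥ :=
      (RingHom.injective_iff_ker_eq_bot _).mp Function.injective_id
    rw [hker, h2, Ideal.map_bot, sup_bot_eq, Ideal.map_span, ← Set.range_comp]
    rfl
  have hflat : (algebraMap (MvPolynomial (Fin n) A) (MvPolynomial (Fin n) A ⊗[A] B)).Flat :=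
    RingHom.flat_algebraMap_iff.mpr inferInstance
  have hf' : LCI.IsKoszulRegularSeq (MvPolynomial (Fin n) A ⊗[A] B)
      (List.ofFn fun i => f i ⊗ₜ[A] (1 : B)) := by
    have h := Groth.KoszulReg.isKoszulRegularSeq_map _ hflat _ hf
    rw [List.map_ofFn] at h
    exact h
  have hcomp : mult π = (Algebra.TensorProduct.lmul' (S := B) A).comp (proj π) := by
    ext x <;> simp [mult, proj]
  have hJ : RingHom.ker (Algebra.TensorProduct.lmul' (S := B) A) =
      Ideal.span (proj π '' Set.range (dgen π)) := by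
    rw [← Ideal.map_span (proj π) (Set.range (dgen π)), span_dgen, hcomp]
    ext z
    constructor
    · intro hz
      obtain ⟨y, rfl⟩ := hsurj z
      exact Ideal.mem_map_of_mem (proj π) (by rw [RingHom.mem_ker, AlgHom.comp_apply]; exact hz)
    · refine fun hz => Ideal.map_le_iff_le_comap.mpr (fun y hy => ?_) hz
      rw [RingHom.mem_ker, AlgHom.comp_apply] at hy
      exact hy
  refine le_antisymm (fun z hz => ?_) ?_
  · obtain ⟨x, rfl⟩ := hsurj z
    have hx : ∀ j, x * dgen π j ∈ Ideal.span (Set.range fun i => f i ⊗ₜ[A] (1 : B)) := fun j => by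
      rw [← hkerπ, RingHom.mem_ker, map_mul]
      exact Submodule.mem_annihilator.mp hz _
        (hJ ▸ Ideal.subset_span ⟨dgen π j, Set.mem_range_self j, rfl⟩)
    obtain ⟨y, hy, w, hw, rfl⟩ := Submodule.mem_sup.mp
      (Groth.Calg5.KoszulColon.mem_of_forall_mul_mem (f := fun i => f i ⊗ₜ[A] (1 : B)) (g := dgen π) c hc hf' hx)
    rw [← hkerπ, RingHom.mem_ker] at hy
    rw [map_add, hy, zero_add]
    obtain ⟨a, rfl⟩ := Ideal.mem_span_singleton'.mp hw
    exact Ideal.mem_span_singleton'.mpr ⟨proj π a, (map_mul (proj π) a c.det).symm⟩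
  · rw [Ideal.span_le, Set.singleton_subset_iff, SetLike.mem_coe, hJ]
    refine (Submodule.mem_annihilator_span _ _).mpr ?_
    rintro ⟨_, _, ⟨j, rfl⟩, rfl⟩
    rw [smul_eq_mul, xi, ← map_mul, ← RingHom.mem_ker, hkerπ]
    exact Groth.Calg5.KoszulColon.det_mul_mem (f := fun i => f i ⊗ₜ[A] (1 : B)) (g := dgen π) c hc j

/-- The derivation `∂/∂x_k` along the diagonal. -/
noncomputable def delta (k : Fin n) : MvPolynomial (Fin n) A ⊗[A] B →ₗ[A] B :=
  TensorProduct.lift (((LinearMap.mul A B).comp
    ((π.toLinearMap).comp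
      (MvPolynomial.pderiv (R := A) k).toLinearMap)))

theorem delta_tmul (k : Fin n) (p : MvPolynomial (Fin n) A) (b : B) :
    delta π k (p ⊗ₜ[A] b) = π (MvPolynomial.pderiv k p) * b := rfl

theorem delta_mul (k : Fin n) (z w : MvPolynomial (Fin n) A ⊗[A] B) :
    delta π k (z * w) = delta π k z * mult π w + mult π z * delta π k w := by
  induction z using TensorProduct.induction_on with
  | zero => simp
  | add a b ha hb =>
    rw [add_mul]
    refine (map_add (delta π k) (a * w) (b * w)).trans ?_
    rw [ha, hb, map_add (delta π k), map_add (mult π)]; ring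
  | tmul p b =>
    induction w using TensorProduct.induction_on with
    | zero => simp
    | add a c ha hc =>
      rw [mul_add]
      refine (map_add (delta π k) (p ⊗ₜ[A] b * a) (p ⊗ₜ[A] b * c)).trans ?_
      rw [ha, hc, map_add (delta π k), map_add (mult π)]; ring
    | tmul q c =>
      simp only [Algebra.TensorProduct.tmul_mul_tmul, delta_tmul, mult,
        Algebra.TensorProduct.productMap_apply_tmul, AlgHom.id_apply,
        MvPolynomial.pderiv_mul, map_add, map_mul]
      ring

theorem mult_expresses {c : Matrix (Fin n) (Fin n) (MvPolynomial (Fin n) A ⊗[A] B)}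
    (hc : Expresses π f c) (i k : Fin n) :
    mult π (c i k) = π (MvPolynomial.pderiv k (f i)) := by
  classical
  have h := congrArg (delta π k) (hc i)
  rw [map_sum, delta_tmul, mul_one] at h
  rw [h]
  simp only [delta_mul, mult_dgen, mul_zero, zero_add]
  rw [Finset.sum_eq_single k]
  · rw [dgen, map_sub, delta_tmul, delta_tmul]
    simp
  · intro j _ hj
    rw [dgen, map_sub, delta_tmul, delta_tmul]
    simp [MvPolynomial.pderiv_X, Pi.single_apply, hj.symm, hj]
  · simp

/-- The product of the diagonal class is the Jacobian determinant. -/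
theorem lmul_xi {c : Matrix (Fin n) (Fin n) (MvPolynomial (Fin n) A ⊗[A] B)} (hc : Expresses π f c) :
    Algebra.TensorProduct.lmul' (S := B) A (xi π c) = π
      (Matrix.det (Matrix.of fun i j => MvPolynomial.pderiv j (f i))) := by
  have hcomp : ∀ z, Algebra.TensorProduct.lmul' (S := B) A (proj π z) = mult π z := fun z => by
    induction z using TensorProduct.induction_on with
    | zero => simp
    | add a b ha hb => simp only [map_add, ha, hb]
    | tmul p b => simp [proj, mult]
  rw [xi, hcomp]
  refine ((mult π).toRingHom.map_det c).trans ?_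
  refine Eq.trans ?_ (π.toRingHom.map_det _).symm
  congr 1
  ext i j
  exact mult_expresses π f hc i j

/-- The Noether different is generated by the Jacobian determinant. -/
theorem noetherDifferent_eq (hπ : Function.Surjective π)
    (hker : RingHom.ker π = Ideal.span (Set.range f)) (hf : LCI.IsKoszulRegularSeq (MvPolynomial (Fin n) A) (List.ofFn f))
    [Module.Flat A B] :
    Disc.noetherDifferent A B = Ideal.span {π
      (Matrix.det (Matrix.of fun i j => MvPolynomial.pderiv j (f i)))} := by
  obtain ⟨c, hc⟩ := exists_expresses π f hker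
  unfold Disc.noetherDifferent
  rw [annihilator_eq π f hπ hker hf hc, Ideal.map_span, Set.image_singleton, lmul_xi π f hc]

end Groth.Calg5.Diagonal
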