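import Mathlib
import Groth.Agent.Syntomic.Main

/-!
A finite syntomic algebra over a local ring is cut out of a polynomial ring by as many equations as
variables.
-/

set_option autoImplicit false
set_option linter.style.haveILetI false

universe u

open MvPolynomial

namespace Groth.Calg5.SquarePres

variable {A B : Type u} [CommRing A] [CommRing B] [Algebra A B]

/-- Replace a list of length at most `n` by a tuple of length `n` with the same span. -/
theorem exists_padded {R : Type u} [CommRing R] {n : ℕ} (l : List R) (hl : l.length ≤ n) :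
    ∃ f : Fin n → R, Ideal.span (Set.range f) = Ideal.ofList l := by
  refine ⟨fun i => if h : (i : ℕ) < l.length then l[(i : ℕ)] else 0, le_antisymm ?_ ?_⟩
  · rw [Ideal.span_le]
    rintro _ ⟨i, rfl⟩
    dsimp only
    split_ifs with h
    · exact Ideal.subset_span (List.getElem_mem h)
    · exact zero_mem _
  · rw [Ideal.span_le]
    intro x hx
    obtain ⟨k, hk, rfl⟩ := List.mem_iff_getElem.mp hx
    refine Ideal.subset_span ⟨⟨k, by omega⟩, ?_⟩
    simp [hk]

/-- Maximal ideals of a finite algebra over a local ring are finite in number. -/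
theorem finite_setOf_isMaximal [IsLocalRing A] [Module.Finite A B] :
    {P : Ideal B | P.IsMaximal}.Finite := by
  refine (Algebra.QuasiFinite.finite_primesOver (S := B) (IsLocalRing.maximalIdeal A)).subset ?_
  intro P hP
  haveI : P.IsMaximal := hP
  exact ⟨hP.isPrime, ⟨(IsLocalRing.eq_maximalIdeal
    (Ideal.isMaximal_comap_of_isIntegral_of_isMaximal (R := A) P)).symm⟩⟩

theorem exists_equations_sub_one [IsLocalRing A] [Module.Finite A B] (hS : Synt.IsSyntomic A B)
    {n : ℕ} (φ : MvPolynomial (Fin n) A →ₐ[A] B) (hφ : Function.Surjective φ) :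
    ∃ (f : Fin n → MvPolynomial (Fin n) A) (i : MvPolynomial (Fin n) A),
      (∀ j, f j ∈ RingHom.ker φ.toRingHom) ∧ i ∈ RingHom.ker φ.toRingHom ∧
        ∀ x ∈ RingHom.ker φ.toRingHom, (1 - i) * x ∈ Ideal.span (Set.range f) := by
  classical
  obtain ⟨hflat, hfp, hfib⟩ := hS
  set I := RingHom.ker φ.toRingHom with hI
  have hIfg : I.FG := Algebra.FinitePresentation.ker_fG_of_surjective φ hφ
  have hfin : Set.Finite {P : Ideal B | P.IsMaximal} := finite_setOf_isMaximal (A := A)
  haveI : Fintype {P : Ideal B // P.IsMaximal} := hfin.fintype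
  let q : {P : Ideal B // P.IsMaximal} → Ideal (MvPolynomial (Fin n) A) :=
    fun P => P.1.comap φ.toRingHom
  have hqm : ∀ P, (q P).IsMaximal := fun P => by
    haveI := P.2
    exact Ideal.comap_isMaximal_of_surjective φ.toRingHom hφ
  have hqI : ∀ P, I ≤ q P := fun P x hx => by
    change φ x ∈ P.1
    rw [show φ x = 0 from hx]
    exact zero_mem _
  have hqc : ∀ P, (q P).comap C = IsLocalRing.maximalIdeal A := fun P => by
    haveI := P.2
    have h1 : (P.1.comap (algebraMap A B)).IsMaximal :=
      Ideal.isMaximal_comap_of_isIntegral_of_isMaximal P.1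
    rw [← IsLocalRing.eq_maximalIdeal h1, Ideal.comap_comap]
    congr 1
    exact RingHom.ext fun a => φ.commutes a
  have hloc : ∀ P, ∃ (fP : Fin n → MvPolynomial (Fin n) A) (h : MvPolynomial (Fin n) A),
      h ∉ q P ∧ (∀ j, fP j ∈ I) ∧ ∀ x ∈ I, h * x ∈ Ideal.span (Set.range fP) := by
    intro P
    haveI := (hqm P).isPrime
    haveI : (IsLocalRing.maximalIdeal A).IsPrime := (IsLocalRing.maximalIdeal.isMaximal A).isPrime
    obtain ⟨G, hG, l, hlI, ⟨h, hhG, hh⟩, hln, -⟩ := Groth.Syntomic.exists_equations φ hφ hIfg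
      (IsLocalRing.maximalIdeal A) (hfib ⟨IsLocalRing.maximalIdeal A, this⟩) (q P) (hqc P) (hqI P)
    obtain ⟨fP, hfP⟩ := exists_padded l hln
    refine ⟨fP, h, fun hq => hG (Ideal.mem_of_dvd _ hhG hq), fun j => hlI (hfP ▸
      Ideal.subset_span (Set.mem_range_self j)), fun x hx => ?_⟩
    rw [hfP]
    exact hh x hx
  choose fP hP hPq hfPI hhP using hloc
  have hcop : Pairwise (Function.onFun IsCoprime q) := fun P P' hne => by
    refine Ideal.isCoprime_iff_sup_eq.mpr ((hqm P).coprime_of_ne (hqm P') fun he => hne ?_)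
    exact Subtype.ext (Ideal.comap_injective_of_surjective φ.toRingHom hφ he)
  have hε : ∀ P, ∃ e : MvPolynomial (Fin n) A, e - 1 ∈ q P ∧ ∀ P', P' ≠ P → e ∈ q P' := by
    intro P
    obtain ⟨e, he⟩ := Ideal.exists_forall_sub_mem_ideal hcop (fun P' => if P' = P then 1 else 0)
    refine ⟨e, by simpa using he P, fun P' hne => ?_⟩
    simpa [hne] using he P'
  choose ε hε1 hε0 using hε
  let f : Fin n → MvPolynomial (Fin n) A := fun j => ∑ P, ε P * fP P j
  have hfI : ∀ j, f j ∈ I := fun j => Submodule.sum_mem _ fun P _ => I.mul_mem_left _ (hfPI P j)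
  have hdiff : ∀ P j, fP P j ∈ Ideal.span (Set.range f) ⊔ q P * I := by
    intro P j
    rw [show fP P j = f j + -((ε P - 1) * fP P j + ∑ P' ∈ Finset.univ.erase P, ε P' * fP P' j) by
      rw [show f j = ε P * fP P j + ∑ P' ∈ Finset.univ.erase P, ε P' * fP P' j from
        (Finset.add_sum_erase _ _ (Finset.mem_univ P)).symm]
      ring]
    refine Submodule.add_mem_sup (Ideal.subset_span (Set.mem_range_self j)) (neg_mem (add_mem
      (Ideal.mul_mem_mul (hε1 P) (hfPI P j)) (Submodule.sum_mem _ fun P' hP' => ?_)))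
    exact Ideal.mul_mem_mul (hε0 P' P (Finset.ne_of_mem_erase hP').symm) (hfPI P' j)
  have hnak : ∀ P, ∃ r ∉ q P, ∀ x ∈ I, r * x ∈ Ideal.span (Set.range f) := by
    intro P
    have hle : I ≤ Ideal.span (Set.range f) ⊔ q P • I := by
      intro x hx
      obtain ⟨a, m, hm, hone⟩ := (hqm P).exists_inv (hPq P)
      rw [show x = a * (hP P * x) + m * x by linear_combination x * hone.symm]
      refine add_mem (Ideal.mul_mem_left _ _ ?_) (Submodule.mem_sup_right (Ideal.mul_mem_mul hm hx))
      refine (Ideal.span_le.mpr ?_ : Ideal.span (Set.range (fP P)) ≤ _) (hhP P x hx)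
      rintro _ ⟨j, rfl⟩
      exact hdiff P j
    obtain ⟨r, hr, hrI⟩ := Submodule.exists_sub_one_mem_and_smul_le_of_fg_of_le_sup hIfg le_rfl hle
    refine ⟨r, fun h => (hqm P).ne_top ((Ideal.eq_top_iff_one _).mpr ?_), fun x hx =>
      hrI (Submodule.smul_mem_pointwise_smul x r _ hx)⟩
    simpa using sub_mem h hr
  have htop : I ⊔ (Ideal.span (Set.range f)).colon I = ⊤ := by
    by_contra hne
    obtain ⟨m, hm, hle⟩ := Ideal.exists_le_maximal _ hne
    have hIm : I ≤ m := le_sup_left.trans hle
    have hmap : (m.map φ.toRingHom).IsMaximal := by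
      refine (Ideal.map_eq_top_or_isMaximal_of_surjective φ.toRingHom hφ hm).resolve_left fun h => ?_
      have h2 := Ideal.comap_map_of_surjective φ.toRingHom hφ m
      rw [h, Ideal.comap_top, ← RingHom.ker_eq_comap_bot, sup_eq_left.mpr hIm] at h2
      exact hm.ne_top h2.symm
    obtain ⟨r, hr, hrI⟩ := hnak ⟨m.map φ.toRingHom, hmap⟩
    refine hr ?_
    change φ r ∈ m.map φ.toRingHom
    exact Ideal.mem_map_of_mem _ (hle (Submodule.mem_sup_right
      (Submodule.mem_colon.mpr fun x hx => hrI x hx)))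
  obtain ⟨i, hi, c, hc, hic⟩ := Submodule.mem_sup.mp ((Ideal.eq_top_iff_one _).mp htop)
  refine ⟨f, i, hfI, hi, fun x hx => ?_⟩
  rw [show (1 : MvPolynomial (Fin n) A) - i = c by linear_combination -hic]
  exact Submodule.mem_colon.mp hc x hx

/-- A finite syntomic algebra over a local ring has a square presentation. -/
theorem exists_square_presentation [IsLocalRing A] [Module.Finite A B] (hS : Synt.IsSyntomic A B) :
    ∃ (n : ℕ) (F : Fin n → MvPolynomial (Fin n) A) (π : MvPolynomial (Fin n) A →ₐ[A] B),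
      Function.Surjective π ∧ RingHom.ker π = Ideal.span (Set.range F) := by
  obtain ⟨n, φ, hφ⟩ := Algebra.FiniteType.iff_quotient_mvPolynomial''.mp
    (inferInstance : Algebra.FiniteType A B)
  obtain ⟨f, i, hfI, hi, hfi⟩ := exists_equations_sub_one hS φ hφ
  let ι : MvPolynomial (Fin n) A →ₐ[A] MvPolynomial (Fin (n + 1)) A := rename Fin.succ
  let r : MvPolynomial (Fin (n + 1)) A →ₐ[A] MvPolynomial (Fin n) A := aeval (Fin.cons 1 X)
  have hrι : ∀ p, r (ι p) = p := fun p => by
    rw [show r (ι p) = (r.comp ι) p from rfl,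
      show r.comp ι = AlgHom.id A _ from algHom_ext fun j => by simp [r, ι]]
    rfl
  let w : MvPolynomial (Fin (n + 1)) A := (1 - ι i) * X 0 - 1
  let J : Ideal (MvPolynomial (Fin (n + 1)) A) := Ideal.span (Set.range (Fin.cons w (ι ∘ f)))
  refine ⟨n + 1, Fin.cons w (ι ∘ f), φ.comp r, hφ.comp (fun p => ⟨ι p, hrι p⟩), le_antisymm ?_ ?_⟩
  · intro g hg
    have hw : w ∈ J := Ideal.subset_span ⟨0, by simp⟩
    have hf : ∀ x ∈ Ideal.span (Set.range f), ι x ∈ J := by
      intro x hx
      have h := Ideal.mem_map_of_mem ι.toRingHom hx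
      rw [Ideal.map_span, ← Set.range_comp] at h
      refine (Ideal.span_mono ?_ : _ ≤ J) h
      rintro _ ⟨j, rfl⟩
      exact ⟨j.succ, by simp⟩
    have hker : ∀ x ∈ RingHom.ker φ.toRingHom, ι x ∈ J := by
      intro x hx
      rw [show ι x = X 0 * ι ((1 - i) * x) - w * ι x by
        simp only [w, map_mul, map_sub, map_one]; ring]
      exact sub_mem (J.mul_mem_left _ (hf _ (hfi x hx))) (J.mul_mem_right _ hw)
    have hy : X 0 - 1 ∈ J := by
      rw [show X 0 - 1 = w + ι i * X 0 by simp only [w]; ring]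
      exact add_mem hw (J.mul_mem_right _ (hker i hi))
    have hd : g - ι (r g) ∈ J := by
      rw [← Ideal.Quotient.eq_zero_iff_mem, map_sub, sub_eq_zero]
      refine AlgHom.congr_fun (show Ideal.Quotient.mkₐ A J =
        (Ideal.Quotient.mkₐ A J).comp (ι.comp r) from algHom_ext fun j => ?_) g
      induction j using Fin.cases with
      | zero =>
        simp only [r, AlgHom.comp_apply, aeval_X, Fin.cons_zero, map_one, Ideal.Quotient.mkₐ_eq_mk]
        rw [← map_one (Ideal.Quotient.mk J), Ideal.Quotient.eq]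
        exact hy
      | succ j => simp [r, ι]
    have := add_mem hd (hker _ (show r g ∈ RingHom.ker φ.toRingHom from hg))
    rwa [sub_add_cancel] at this
  · rw [Ideal.span_le]
    rintro _ ⟨j, rfl⟩
    rw [SetLike.mem_coe, RingHom.mem_ker, AlgHom.comp_apply]
    induction j using Fin.cases with
    | zero =>
      have : φ i = 0 := hi
      rw [Fin.cons_zero]
      simp only [w, map_sub, map_mul, map_one, hrι, this]
      simp [r]
    | succ j =>
      rw [Fin.cons_succ, Function.comp_apply, hrι]
      exact hfI j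

end Groth.Calg5.SquarePres
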