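import Mathlib
import Groth.Prelude.Def_RegImm
import Groth.Agent.Calg5.RelGCI
import Groth.Agent.Calg5.KoszulColon
import Groth.Agent.KoszulReg.Weakly
import Groth.Agent.KoszulLCI.Seq

/-!
Relative global complete intersections: regular, Koszul regular, flat, syntomic.
-/

set_option autoImplicit false
set_option linter.style.haveILetI false

universe u

open RingTheory.Sequence TensorProduct Groth.FrobLCI.CE

namespace Groth.Calg5.RelGCI

variable {R : Type u} [CommRing R] {n c : ℕ} {F : Fin c → MvPolynomial (Fin n) R}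

theorem nontrivial_fibre {q' : Ideal (MvPolynomial (Fin n) R)} [q'.IsPrime]
    (hq' : Ideal.span (Set.range F) ≤ q') (p : Ideal R) [p.IsPrime]
    (hp : q'.comap (MvPolynomial.C (R := R)) = p) :
    Nontrivial (p.Fiber (MvPolynomial (Fin n) R ⧸ Ideal.span (Set.range F))) := by
  obtain ⟨q, hq, hqc⟩ := exists_prime_comap p q' hp
  have : Nontrivial (MvPolynomial (Fin n) p.ResidueField ⧸
      Ideal.span (Set.range fun i => MvPolynomial.map (algebraMap R p.ResidueField) (F i))) := by
    refine Ideal.Quotient.nontrivial_iff.mpr fun h => hq.ne_top (top_le_iff.mp (h ▸ ?_))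
    rw [Ideal.span_le]
    rintro _ ⟨i, rfl⟩
    exact (hqc ▸ hq' (Ideal.subset_span ⟨i, rfl⟩) :
      F i ∈ q.comap (MvPolynomial.map (algebraMap R p.ResidueField)))
  exact (tensorQuotientEquiv p.ResidueField F).toEquiv.nontrivial

/-- A relative global complete intersection is weakly regular with flat quotients at every point. -/
theorem regular_flat_of_isRelGCI (h : Synt.IsRelGCI R n c F)
    (q' : Ideal (MvPolynomial (Fin n) R)) [q'.IsPrime] (hq' : Ideal.span (Set.range F) ≤ q') :
    IsWeaklyRegular (Localization.AtPrime q')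
        ((List.ofFn F).map (algebraMap (MvPolynomial (Fin n) R) (Localization.AtPrime q'))) ∧
      ∀ i, Module.Flat R (Localization.AtPrime q' ⧸ Ideal.ofList
        (((List.ofFn F).take i).map (algebraMap (MvPolynomial (Fin n) R) (Localization.AtPrime q')))) := by
  have hn := nontrivial_fibre hq' (q'.comap (MvPolynomial.C (R := R))) rfl
  obtain ⟨hc, hdim⟩ := h ⟨q'.comap (MvPolynomial.C (R := R)), inferInstance⟩ hn
  exact regular_flat F q' hq' hc _ rfl hdim.le

theorem ofList_ofFn {A : Type*} [CommRing A] {m : ℕ} (f : Fin m → A) :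
    Ideal.ofList (List.ofFn f) = Ideal.span (Set.range f) := by
  unfold Ideal.ofList
  congr 1
  ext x
  simp [List.mem_ofFn]

/-- A relative global complete intersection is Koszul regular. -/
theorem isKoszulRegularSeq_of_isRelGCI (h : Synt.IsRelGCI R n c F) :
    LCI.IsKoszulRegularSeq (MvPolynomial (Fin n) R) (List.ofFn F) :=
  Groth.KoszulLCI.isKoszulRegularSeq_of_localization _ fun m _ hm =>
    Groth.KoszulReg.isKoszulRegularSeq_of_isWeaklyRegular
      (regular_flat_of_isRelGCI h m (ofList_ofFn F ▸ hm)).1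

/-- A relative global complete intersection is flat. -/
theorem flat_of_isRelGCI (h : Synt.IsRelGCI R n c F) :
    Module.Flat R (MvPolynomial (Fin n) R ⧸ Ideal.span (Set.range F)) := by
  set I := Ideal.span (Set.range F) with hI
  refine Module.flat_of_isLocalized_maximal (MvPolynomial (Fin n) R) (MvPolynomial (Fin n) R ⧸ I)
    (fun m _ => Localization.AtPrime m ⊗[MvPolynomial (Fin n) R] (MvPolynomial (Fin n) R ⧸ I))
    (fun m _ => TensorProduct.mk (MvPolynomial (Fin n) R) (Localization.AtPrime m)
      (MvPolynomial (Fin n) R ⧸ I) 1) fun m _ => ?_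
  let e : (Localization.AtPrime m ⧸ I.map (algebraMap _ _)) ≃ₗ[R]
      Localization.AtPrime m ⊗[MvPolynomial (Fin n) R] (MvPolynomial (Fin n) R ⧸ I) :=
    (Algebra.TensorProduct.quotIdealMapEquivTensorQuot (Localization.AtPrime m) I).toLinearEquiv.restrictScalars R
  suffices Module.Flat R (Localization.AtPrime m ⧸ I.map (algebraMap _ (Localization.AtPrime m))) from
    Module.Flat.of_linearEquiv e.symm
  by_cases hm : I ≤ m
  · have h2 := (regular_flat_of_isRelGCI h m hm).2 c
    have e1 : Ideal.ofList (((List.ofFn F).take c).map (algebraMap _ (Localization.AtPrime m))) =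
        I.map (algebraMap _ (Localization.AtPrime m)) := by
      rw [List.take_of_length_le (by simp), ← Ideal.map_ofList, ofList_ofFn, hI]
    exact Module.Flat.of_linearEquiv ((Submodule.quotEquivOfEq _ _ e1.symm).restrictScalars R)
  · obtain ⟨x, hx, hxm⟩ := SetLike.not_le_iff_exists.mp hm
    have htop : I.map (algebraMap _ (Localization.AtPrime m)) = ⊤ :=
      Ideal.eq_top_of_isUnit_mem _ (Ideal.mem_map_of_mem _ hx)
        (IsLocalization.map_units (M := m.primeCompl) _ ⟨x, hxm⟩)
    haveI : Subsingleton (Localization.AtPrime m ⧸ I.map (algebraMap _ (Localization.AtPrime m))) :=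
      Ideal.Quotient.subsingleton_iff.mpr htop
    infer_instance

theorem isGlobalCI_of_algEquiv {k S S' : Type u} [Field k] [CommRing S] [Algebra k S] [CommRing S']
    [Algebra k S'] (e : S ≃ₐ[k] S') (h : Synt.IsGlobalCI k S) : Synt.IsGlobalCI k S' := by
  rcases h with h | ⟨n, c, hc, φ, r, hφ, hker, hdim⟩
  · exact Or.inl e.symm.toEquiv.subsingleton
  · refine Or.inr ⟨n, c, hc, e.toAlgHom.comp φ, r, e.surjective.comp hφ, ?_, ?_⟩
    · rw [← hker]
      ext x
      exact map_eq_zero_iff e e.injective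
    · rw [← hdim]; exact (ringKrullDim_eq_of_ringEquiv e.toRingEquiv).symm

/-- A relative global complete intersection is syntomic. -/
theorem isSyntomic_of_isRelGCI (h : Synt.IsRelGCI R n c F) :
    Synt.IsSyntomic R (Synt.RelGCIRing R n c F) := by
  refine ⟨flat_of_isRelGCI h, Algebra.FinitePresentation.quotient (Submodule.fg_span (Set.finite_range F)),
    fun p => ⟨inferInstance, fun P => ⟨1, fun h1 => P.isPrime.ne_top ((Ideal.eq_top_iff_one _).mpr h1), ?_⟩⟩⟩
  refine isGlobalCI_of_algEquiv (S := p.asIdeal.Fiber (Synt.RelGCIRing R n c F))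
    ((IsLocalization.atOne (p.asIdeal.Fiber (Synt.RelGCIRing R n c F))
      (Localization.Away (1 : p.asIdeal.Fiber (Synt.RelGCIRing R n c F)))).restrictScalars
      p.asIdeal.ResidueField) ?_
  have hn : Nontrivial (p.asIdeal.Fiber (Synt.RelGCIRing R n c F)) := ⟨⟨0, 1, fun e => P.isPrime.ne_top
    ((Ideal.eq_top_iff_one _).mpr (e ▸ zero_mem _))⟩⟩
  obtain ⟨hc, hdim⟩ := h p hn
  refine isGlobalCI_of_algEquiv (tensorQuotientEquiv p.asIdeal.ResidueField F).symm
    (Or.inr ⟨n, c, hc, Ideal.Quotient.mkₐ p.asIdeal.ResidueField _,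
      fun i => MvPolynomial.map (algebraMap R p.asIdeal.ResidueField) (F i),
      Ideal.Quotient.mkₐ_surjective p.asIdeal.ResidueField _,
      Ideal.Quotient.mkₐ_ker p.asIdeal.ResidueField _, ?_⟩)
  rw [← hdim]
  exact (ringKrullDim_eq_of_ringEquiv (tensorQuotientEquiv p.asIdeal.ResidueField F).toRingEquiv).symm

/-- A vector as an element of degree one of the Koszul model. -/
def vec {A : Type u} : ∀ {m : ℕ}, (Fin m → A) → idx m 1 → A
  | 0, _ => fun j => Empty.elim j
  | _ + 1, a => fun j => Sum.elim (fun _ => a 0) (vec (Fin.tail a)) j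

theorem d_vec {A : Type u} [CommRing A] : ∀ {m : ℕ} (x a : Fin m → A),
    d x 0 (vec a) (pt m) = ∑ i, x i * a i
  | 0, _, _ => by simp; rfl
  | m + 1, x, a => by
    rw [d_zero_apply, Fin.sum_univ_succ]
    exact congrArg₂ (· + ·) rfl (d_vec (Fin.tail x) (Fin.tail a))

theorem mem_of_vec_mem {A : Type u} [CommRing A] (I : Ideal A) : ∀ {m : ℕ} (a : Fin m → A),
    (∀ j, vec a j ∈ I) → ∀ i, a i ∈ I
  | 0, _, _, i => i.elim0
  | m + 1, a, h, i => by
    induction i using Fin.cases with
    | zero => exact h (Sum.inl (pt m))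
    | succ i => exact mem_of_vec_mem I (Fin.tail a) (fun j => h (Sum.inr j)) i

/-- The classes of a Koszul-regular sequence are independent in the conormal module. -/
theorem linearIndependent_toCotangent {A : Type u} [CommRing A] {m : ℕ} (f : Fin m → A)
    (hf : LCI.IsKoszulRegularSeq A (List.ofFn f)) :
    LinearIndependent (A ⧸ Ideal.span (Set.range f)) (fun i : Fin m =>
      (Ideal.span (Set.range f)).toCotangent ⟨f i, Ideal.subset_span (Set.mem_range_self i)⟩) := by
  set I := Ideal.span (Set.range f) with hI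
  rw [Fintype.linearIndependent_iff]
  intro g hg i
  choose a ha using fun j => Ideal.Quotient.mk_surjective (g j)
  rw [← ha i, Ideal.Quotient.eq_zero_iff_mem]
  have h2 : ∑ j, a j * f j ∈ I ^ 2 := by
    have h1 : I.toCotangent (∑ j, a j • (⟨f j, Ideal.subset_span (Set.mem_range_self j)⟩ : I)) = 0 := by
      rw [map_sum, ← hg]
      exact Finset.sum_congr rfl fun j _ => by
        rw [map_smul, ← ha j, ← Ideal.Quotient.algebraMap_eq, algebraMap_smul]
    simpa using (I.toCotangent_eq_zero _).mp h1
  obtain ⟨b, hb, hbs⟩ : ∃ b : Fin m → A, (∀ j, b j ∈ I) ∧ ∑ j, b j * f j = ∑ j, a j * f j := by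
    rw [sq] at h2
    refine Submodule.mul_induction_on h2 ?_ ?_
    · intro x hx y hy
      obtain ⟨c, hc⟩ := Ideal.mem_span_range_iff_exists_fun.mp hy
      refine ⟨fun j => x * c j, fun j => I.mul_mem_right _ hx, ?_⟩
      rw [← hc, Finset.mul_sum]
      exact Finset.sum_congr rfl fun j _ => mul_assoc _ _ _
    · rintro x y ⟨b, hb, rfl⟩ ⟨b', hb', rfl⟩
      exact ⟨b + b', fun j => add_mem (hb j) (hb' j), by simp [add_mul, Finset.sum_add_distrib]⟩
  have h3 : d f 0 (vec fun j => a j - b j) = 0 := funext fun k => by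
    rw [eq_pt _ k, d_vec, Pi.zero_apply]
    rw [show ∑ j, f j * (a j - b j) = ∑ j, a j * f j - ∑ j, b j * f j by
      rw [← Finset.sum_sub_distrib]; exact Finset.sum_congr rfl fun j _ => by ring, hbs, sub_self]
  obtain ⟨w, hw⟩ := Groth.Calg5.KoszulColon.exact_of_isKoszulRegularSeq f hf 0 _ h3
  have h4 : a i - b i ∈ I := mem_of_vec_mem I (fun j => a j - b j) (fun j => by
    rw [← hw]
    have h5 := d_mem_smul_top f 1 w j
    rwa [smul_eq_mul, Ideal.mul_top] at h5) i
  simpa using I.add_mem h4 (hb i)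

/-- The classes of generators span the conormal module. -/
theorem span_toCotangent {A : Type u} [CommRing A] {m : ℕ} (f : Fin m → A) :
    Submodule.span (A ⧸ Ideal.span (Set.range f)) (Set.range fun i : Fin m =>
      (Ideal.span (Set.range f)).toCotangent ⟨f i, Ideal.subset_span (Set.mem_range_self i)⟩) = ⊤ := by
  refine eq_top_iff.mpr fun z _ => ?_
  obtain ⟨⟨x, hx⟩, rfl⟩ := Ideal.toCotangent_surjective _ z
  obtain ⟨a, ha⟩ := Ideal.mem_span_range_iff_exists_fun.mp hx
  rw [show (⟨x, hx⟩ : Ideal.span (Set.range f)) =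
    ∑ j, a j • (⟨f j, Ideal.subset_span (Set.mem_range_self j)⟩ : Ideal.span (Set.range f)) from
      Subtype.ext (by simp [← ha]), map_sum]
  refine Submodule.sum_mem _ fun j _ => ?_
  rw [map_smul, ← algebraMap_smul (A ⧸ Ideal.span (Set.range f)) (a j)]
  exact Submodule.smul_mem _ _ (Submodule.subset_span ⟨j, rfl⟩)

end Groth.Calg5.RelGCI
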