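import Mathlib
import Groth.Agent.Misc1.NoetherDiff
import Groth.Agent.Calg5.DiagonalAnn
import Groth.Agent.Calg5.ArtinCI
import Groth.Agent.Calg5.RelGCIFlat

/-!
Tate's trace isomorphism: for `B = A[x]/(f_1, …, f_n)` finite free over `A`, the diagonal class gives
`Hom_A(B, A) ≅ B`, the trace going to the Jacobian determinant.
-/

set_option autoImplicit false
set_option linter.style.haveILetI false

universe u

open TensorProduct Groth.Calg5.Diagonal Groth.Misc1

namespace Groth.Calg5.Trace

theorem dim_eq_zero_of_finite (k R : Type u) [Field k] [CommRing R] [Algebra k R] [Module.Finite k R]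
    [Nontrivial R] : ringKrullDim R = 0 := by
  haveI : IsArtinianRing R := IsArtinianRing.of_finite k R
  exact ringKrullDimZero_iff_ringKrullDim_eq_zero.mp inferInstance

/-- A presentation by `n` equations in `n` variables with finite fibres is a relative global complete
intersection. -/
theorem isRelGCI_of_finite {A : Type u} [CommRing A] {n : ℕ} (f : Fin n → MvPolynomial (Fin n) A)
    [Module.Finite A (MvPolynomial (Fin n) A ⧸ Ideal.span (Set.range f))] : Synt.IsRelGCI A n n f := by
  intro p hp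
  haveI := hp
  refine ⟨le_rfl, ?_⟩
  rw [Nat.sub_self, Nat.cast_zero]
  exact dim_eq_zero_of_finite p.asIdeal.ResidueField (p.asIdeal.Fiber (Synt.RelGCIRing A n n f))

theorem isKoszulRegularSeq_of_finite {A : Type u} [CommRing A] {n : ℕ}
    (f : Fin n → MvPolynomial (Fin n) A) {B : Type u} [CommRing B] [Algebra A B] [Module.Finite A B]
    (π : MvPolynomial (Fin n) A →ₐ[A] B) (hπ : Function.Surjective π)
    (hker : RingHom.ker π = Ideal.span (Set.range f)) :
    LCI.IsKoszulRegularSeq (MvPolynomial (Fin n) A) (List.ofFn f) := by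
  haveI : Module.Finite A (MvPolynomial (Fin n) A ⧸ Ideal.span (Set.range f)) :=
    Module.Finite.equiv ((Ideal.quotientEquivAlgOfEq A hker.symm).trans
      (Ideal.quotientKerAlgEquivOfSurjective hπ)).symm.toLinearEquiv
  exact Groth.Calg5.RelGCI.isKoszulRegularSeq_of_isRelGCI (isRelGCI_of_finite f)

theorem ev_mul_of_mem_ann {A B : Type u} [CommRing A] [CommRing B] [Algebra A B] (l : Disc.Omega A B)
    (z ξ : B ⊗[A] B)
    (hξ : ξ ∈ Submodule.annihilator (RingHom.ker (Algebra.TensorProduct.lmul' (S := B) A))) :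
    ND.ev l (z * ξ) = Algebra.TensorProduct.lmul' (S := B) A z * ND.ev l ξ := by
  rw [← ND.ev_mul_right]
  congr 1
  have hz : z - (1 : B) ⊗ₜ[A] Algebra.TensorProduct.lmul' (S := B) A z ∈
      RingHom.ker (Algebra.TensorProduct.lmul' (S := B) A) := by
    rw [RingHom.mem_ker, map_sub, Algebra.TensorProduct.lmul'_apply_tmul, one_mul, sub_self]
  have h := Submodule.mem_annihilator.mp hξ _ hz
  rwa [smul_eq_mul, mul_sub, sub_eq_zero, mul_comm ξ z, mul_comm ξ] at h

variable {A : Type u} [CommRing A] {n : ℕ} {B : Type u} [CommRing B] [Algebra A B]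
  [Module.Finite A B] [Module.Free A B] {π : MvPolynomial (Fin n) A →ₐ[A] B}
  {f : Fin n → MvPolynomial (Fin n) A}

theorem xi_mem (hπ : Function.Surjective π) (hker : RingHom.ker π = Ideal.span (Set.range f))
    {c : Matrix (Fin n) (Fin n) (MvPolynomial (Fin n) A ⊗[A] B)} (hc : Expresses π f c) :
    xi π c ∈ Submodule.annihilator (RingHom.ker (Algebra.TensorProduct.lmul' (S := B) A)) := by
  rw [annihilator_eq π f hπ hker (isKoszulRegularSeq_of_finite f π hπ hker) hc]
  exact Ideal.mem_span_singleton_self _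

/-- Over a field, the diagonal class induces a surjection `Hom_k(B, k) → B`. -/
theorem exists_ev_eq_one {k : Type u} [Field k] {n : ℕ} (f : Fin n → MvPolynomial (Fin n) k)
    [Module.Finite k (MvPolynomial (Fin n) k ⧸ Ideal.span (Set.range f))]
    {c : Matrix (Fin n) (Fin n)
      (MvPolynomial (Fin n) k ⊗[k] (MvPolynomial (Fin n) k ⧸ Ideal.span (Set.range f)))}
    (hc : Expresses (Ideal.Quotient.mkₐ k (Ideal.span (Set.range f))) f c) :
    ∃ (l : Disc.Omega k (MvPolynomial (Fin n) k ⧸ Ideal.span (Set.range f))) (u : _),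
      u * ND.ev l (xi (Ideal.Quotient.mkₐ k (Ideal.span (Set.range f))) c) = 1 := by
  obtain ⟨e⟩ := Groth.Calg5.ArtinCI.exists_omega_equiv f
  have hf := isKoszulRegularSeq_of_finite f _ (Ideal.Quotient.mkₐ_surjective k _)
    (Ideal.Quotient.mkₐ_ker k _)
  have hann := annihilator_eq (Ideal.Quotient.mkₐ k (Ideal.span (Set.range f))) f
    (Ideal.Quotient.mkₐ_surjective k _) (Ideal.Quotient.mkₐ_ker k _) hf hc
  let b := Module.Free.chooseBasis k (MvPolynomial (Fin n) k ⧸ Ideal.span (Set.range f))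
  have h1 := ND.ofHom_mem b e.symm.toLinearMap
  rw [hann, Ideal.mem_span_singleton'] at h1
  obtain ⟨z, hz⟩ := h1
  refine ⟨e 1, Algebra.TensorProduct.lmul' (S := _) k z, ?_⟩
  rw [← ev_mul_of_mem_ann _ z _ (xi_mem (Ideal.Quotient.mkₐ_surjective k _)
    (Ideal.Quotient.mkₐ_ker k _) hc), hz, ND.ev_ofHom]
  exact e.symm_apply_apply 1

/-- The diagonal class pushes forward along a surjection of base rings. -/
theorem exists_pushforward {A k : Type u} [CommRing A] [CommRing k] [Algebra A k] {n : ℕ}
    {B C : Type u} [CommRing B] [Algebra A B] [CommRing C] [Algebra k C] [Algebra A C]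
    [IsScalarTower A k C] (π : MvPolynomial (Fin n) A →ₐ[A] B) (f : Fin n → MvPolynomial (Fin n) A)
    (πb : MvPolynomial (Fin n) k →ₐ[k] C) (ρ : B →ₐ[A] C)
    (hρ : ∀ p, ρ (π p) = πb (MvPolynomial.map (algebraMap A k) p))
    {c : Matrix (Fin n) (Fin n) (MvPolynomial (Fin n) A ⊗[A] B)} (hc : Expresses π f c) :
    ∃ cb, Expresses πb (fun i => MvPolynomial.map (algebraMap A k) (f i)) cb ∧
      ∀ (lb : Disc.Omega k C) (l : Disc.Omega A B),
        (∀ x, algebraMap A k (l.toLinearMap x) = lb.toLinearMap (ρ x)) →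
          ND.ev lb (xi πb cb) = ρ (ND.ev l (xi π c)) := by
  let mapP : MvPolynomial (Fin n) A →ₐ[A] MvPolynomial (Fin n) k :=
    MvPolynomial.mapAlgHom (Algebra.ofId A k)
  let ρ2 : MvPolynomial (Fin n) A ⊗[A] B →ₐ[A] MvPolynomial (Fin n) k ⊗[k] C :=
    Algebra.TensorProduct.productMap
      (((Algebra.TensorProduct.includeLeft (R := k) (S := k)).restrictScalars A).comp mapP)
      (((Algebra.TensorProduct.includeRight (R := k)).restrictScalars A).comp ρ)
  have hρ2 : ∀ p b, ρ2 (p ⊗ₜ b) = mapP p ⊗ₜ[k] ρ b := fun p b => by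
    simp [ρ2]
  have hg : ∀ j, ρ2 (dgen π j) = dgen πb j := fun j => by
    rw [dgen, map_sub, hρ2, hρ2, dgen, map_one, map_one, hρ]
    simp [mapP]
  refine ⟨c.map ρ2, fun i => ?_, fun lb l hl => ?_⟩
  · have := congrArg ρ2 (hc i)
    rw [hρ2, map_one, map_sum] at this
    change mapP (f i) ⊗ₜ[k] (1 : C) = _
    rw [this]
    exact Finset.sum_congr rfl fun j _ => by rw [map_mul, hg]; rfl
  · have key : ∀ z, ND.ev lb (proj πb (ρ2 z)) = ρ (ND.ev l (proj π z)) := by
      intro z
      induction z using TensorProduct.induction_on with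
      | zero => simp
      | add a b ha hb => simp only [map_add, ha, hb]
      | tmul p b =>
        rw [hρ2, proj, Algebra.TensorProduct.map_tmul, proj, Algebra.TensorProduct.map_tmul,
          ND.ev_tmul, ND.ev_tmul, map_smul, AlgHom.id_apply, AlgHom.id_apply]
        have h6 : lb.toLinearMap (πb (mapP p)) = algebraMap A k (l.toLinearMap (π p)) := by
          rw [hl, hρ]; rfl
        rw [h6, algebraMap_smul]
    have hdet : (c.map ρ2).det = ρ2 c.det := (ρ2.toRingHom.map_det c).symm
    rw [xi, hdet, key]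
    rfl

/-- The values of the diagonal class are not contained in a maximal ideal. -/
theorem exists_ev_notMem (hπ : Function.Surjective π) (hker : RingHom.ker π = Ideal.span (Set.range f))
    {c : Matrix (Fin n) (Fin n) (MvPolynomial (Fin n) A ⊗[A] B)} (hc : Expresses π f c)
    (M : Ideal B) [M.IsMaximal] : ∃ l : Disc.Omega A B, ND.ev l (xi π c) ∉ M := by
  classical
  by_contra hcon
  push Not at hcon
  haveI : Algebra.IsIntegral A B := Algebra.IsIntegral.of_finite A B
  set m := M.comap (algebraMap A B) with hm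
  haveI : m.IsMaximal := Ideal.isMaximal_comap_of_isIntegral_of_isMaximal M
  letI : Field (A ⧸ m) := Ideal.Quotient.field m
  set fb : Fin n → MvPolynomial (Fin n) (A ⧸ m) := fun i => MvPolynomial.map (algebraMap A (A ⧸ m)) (f i)
    with hfb
  let mapP : MvPolynomial (Fin n) A →ₐ[A] MvPolynomial (Fin n) (A ⧸ m) :=
    MvPolynomial.mapAlgHom (Algebra.ofId A (A ⧸ m))
  have hmapP : Function.Surjective mapP :=
    MvPolynomial.map_surjective _ Ideal.Quotient.mk_surjective
  let q : MvPolynomial (Fin n) A →ₐ[A] MvPolynomial (Fin n) (A ⧸ m) ⧸ Ideal.span (Set.range fb) :=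
    ((Ideal.Quotient.mkₐ (A ⧸ m) (Ideal.span (Set.range fb))).restrictScalars A).comp mapP
  have hfq : ∀ i, q (f i) = 0 := fun i =>
    Ideal.Quotient.eq_zero_iff_mem.mpr (Ideal.subset_span ⟨i, rfl⟩)
  let ρ : B →ₐ[A] MvPolynomial (Fin n) (A ⧸ m) ⧸ Ideal.span (Set.range fb) :=
    (Ideal.Quotient.liftₐ (RingHom.ker π) q (fun a ha => by
      have : RingHom.ker π ≤ RingHom.ker q := by
        rw [hker, Ideal.span_le]; rintro _ ⟨i, rfl⟩; exact hfq i
      exact this ha)).comp (Ideal.quotientKerAlgEquivOfSurjective hπ).symm.toAlgHom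
  have hρ : ∀ a, ρ (π a) = q a := by
    intro a
    have : (Ideal.quotientKerAlgEquivOfSurjective hπ).symm (π a) = Ideal.Quotient.mk _ a :=
      (AlgEquiv.symm_apply_eq _).mpr rfl
    simp only [ρ, AlgHom.comp_apply, AlgEquiv.toAlgHom_apply, this]
    rfl
  have hρs : Function.Surjective ρ := by
    intro y
    obtain ⟨y, rfl⟩ := Ideal.Quotient.mk_surjective y
    obtain ⟨a, rfl⟩ := hmapP y
    exact ⟨π a, hρ a⟩
  haveI : Module.Finite (A ⧸ m) (MvPolynomial (Fin n) (A ⧸ m) ⧸ Ideal.span (Set.range fb)) := by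
    haveI : Module.Finite A (MvPolynomial (Fin n) (A ⧸ m) ⧸ Ideal.span (Set.range fb)) :=
      Module.Finite.of_surjective ρ.toLinearMap hρs
    exact Module.Finite.of_restrictScalars_finite A (A ⧸ m) _
  have hM : M.map ρ ≠ ⊤ := by
    intro htop
    have h1 : (1 : MvPolynomial (Fin n) (A ⧸ m) ⧸ Ideal.span (Set.range fb)) ∈ M.map ρ := htop ▸ trivial
    obtain ⟨x, hx, hx1⟩ := (Ideal.mem_map_iff_of_surjective ρ hρs).mp h1
    obtain ⟨a, rfl⟩ := hπ x
    rw [hρ] at hx1
    have h2 : mapP (a - 1) ∈ (Ideal.span (Set.range f)).map mapP := by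
      have h3 : mapP (a - 1) ∈ Ideal.span (Set.range fb) := by
        rw [map_sub, map_one]
        exact Ideal.Quotient.eq.mp hx1
      rw [Ideal.map_span, ← Set.range_comp]
      exact h3
    obtain ⟨b, hb, hab⟩ := (Ideal.mem_map_iff_of_surjective mapP hmapP).mp h2
    have h4 : a - 1 - b ∈ m.map (MvPolynomial.C (R := A) (σ := Fin n)) := by
      rw [MvPolynomial.mem_map_C_iff]
      intro d
      have := congrArg (MvPolynomial.coeff d) hab
      simp only [mapP, MvPolynomial.mapAlgHom_apply, MvPolynomial.coeff_map] at this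
      rw [← Ideal.Quotient.eq_zero_iff_mem, MvPolynomial.coeff_sub, map_sub, sub_eq_zero]
      exact this.symm
    have h5 : π (a - 1 - b) ∈ M := by
      refine (Ideal.map_le_iff_le_comap.mpr (fun r hr => ?_) : m.map (MvPolynomial.C (R := A) (σ := Fin n)) ≤ M.comap π) h4
      change π (MvPolynomial.C r) ∈ M
      rw [← MvPolynomial.algebraMap_eq, AlgHom.commutes]
      exact hr
    have hb0 : π b = 0 := RingHom.mem_ker.mp (hker ▸ hb)
    rw [map_sub, map_sub, map_one, hb0, sub_zero] at h5
    exact ‹M.IsMaximal›.ne_top ((Ideal.eq_top_iff_one _).mpr (by simpa using M.sub_mem hx h5))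
  obtain ⟨cb, hcb, hev⟩ := exists_pushforward (k := A ⧸ m)
    (C := MvPolynomial (Fin n) (A ⧸ m) ⧸ Ideal.span (Set.range fb)) π f
    (Ideal.Quotient.mkₐ (A ⧸ m) (Ideal.span (Set.range fb))) ρ (fun p => hρ p) hc
  obtain ⟨lb, u, hu⟩ := exists_ev_eq_one fb hcb
  -- lift the functional
  obtain ⟨l, hl⟩ : ∃ l : B →ₗ[A] A, ∀ x, Ideal.Quotient.mk m (l x) = lb.toLinearMap (ρ x) := by
    obtain ⟨l, hl⟩ := Module.projective_lifting_property (Algebra.linearMap A (A ⧸ m))
      ((lb.toLinearMap.restrictScalars A).comp ρ.toLinearMap) Ideal.Quotient.mk_surjective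
    exact ⟨l, fun x => LinearMap.congr_fun hl x⟩
  refine hM ((Ideal.eq_top_iff_one _).mpr ?_)
  rw [← hu, hev lb ⟨l⟩ hl]
  exact Ideal.mul_mem_left _ _ (Ideal.mem_map_of_mem ρ (hcon _))

/-- The `B`-linear map `Hom_A(B, A) → B` of the diagonal class. -/
noncomputable def traceMap (hπ : Function.Surjective π) (hker : RingHom.ker π = Ideal.span (Set.range f))
    {c : Matrix (Fin n) (Fin n) (MvPolynomial (Fin n) A ⊗[A] B)} (hc : Expresses π f c) :
    Disc.Omega A B →ₗ[B] B :=
  ND.toHom (xi π c) (xi_mem hπ hker hc)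

theorem traceMap_surjective (hπ : Function.Surjective π)
    (hker : RingHom.ker π = Ideal.span (Set.range f))
    {c : Matrix (Fin n) (Fin n) (MvPolynomial (Fin n) A ⊗[A] B)} (hc : Expresses π f c) :
    Function.Surjective (traceMap hπ hker hc) := by
  rw [← LinearMap.range_eq_top]
  by_contra h
  obtain ⟨M, hM, hle⟩ := Ideal.exists_le_maximal _ h
  obtain ⟨l, hl⟩ := exists_ev_notMem hπ hker hc M
  exact hl (hle (LinearMap.mem_range_self _ l))

/-- A surjective `B`-linear map `Hom_A(B, A) → B` is injective. -/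
theorem omega_injective_of_surjective {A B : Type u} [CommRing A] [CommRing B] [Algebra A B]
    [Module.Finite A B] [Module.Free A B] (Φ : Disc.Omega A B →ₗ[B] B) (hs : Function.Surjective Φ) :
    Function.Injective Φ := by
  classical
  obtain ⟨θ⟩ : Nonempty (B ≃ₗ[A] (B →ₗ[A] A)) := ⟨(Module.Free.chooseBasis A B).toDualEquiv⟩
  let W : (B →ₗ[A] A) → Disc.Omega A B := fun g => ⟨g⟩
  have hadd : ∀ g g', W (g + g') = W g + W g' := fun g g' => rfl
  have hsmul : ∀ (a : A) g, W (a • g) = algebraMap A B a • W g := fun a g => by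
    refine Disc.Omega.ext (LinearMap.ext fun x => ?_)
    change a • g x = g (algebraMap A B a * x)
    rw [← Algebra.smul_def, map_smul]
  let E : B →ₗ[A] B :=
    { toFun := fun v => Φ (W (θ v))
      map_add' := fun v w => by rw [map_add θ, hadd, map_add Φ]
      map_smul' := fun a v => by
        rw [map_smul θ, hsmul, map_smul Φ, smul_eq_mul, RingHom.id_apply, Algebra.smul_def a] }
  have hE : ∀ l : Disc.Omega A B, E (θ.symm l.toLinearMap) = Φ l := fun l => by
    change Φ (W (θ (θ.symm l.toLinearMap))) = Φ l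
    rw [LinearEquiv.apply_symm_apply]
  have hEs : Function.Surjective E := fun y => by
    obtain ⟨l, rfl⟩ := hs y
    exact ⟨_, hE l⟩
  have hEi : Function.Injective E := OrzechProperty.injective_of_surjective_endomorphism E hEs
  intro l l' h
  rw [← hE, ← hE] at h
  exact Disc.Omega.ext (θ.symm.injective (hEi h))

theorem traceMap_bijective (hπ : Function.Surjective π)
    (hker : RingHom.ker π = Ideal.span (Set.range f))
    {c : Matrix (Fin n) (Fin n) (MvPolynomial (Fin n) A ⊗[A] B)} (hc : Expresses π f c) :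
    Function.Bijective (traceMap hπ hker hc) :=
  ⟨omega_injective_of_surjective _ (traceMap_surjective hπ hker hc), traceMap_surjective hπ hker hc⟩

/-- **Tate's trace isomorphism.** -/
noncomputable def traceEquiv (hπ : Function.Surjective π)
    (hker : RingHom.ker π = Ideal.span (Set.range f))
    {c : Matrix (Fin n) (Fin n) (MvPolynomial (Fin n) A ⊗[A] B)} (hc : Expresses π f c) :
    Disc.Omega A B ≃ₗ[B] B :=
  LinearEquiv.ofBijective (traceMap hπ hker hc) (traceMap_bijective hπ hker hc)

theorem traceEquiv_trace (hπ : Function.Surjective π)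
    (hker : RingHom.ker π = Ideal.span (Set.range f))
    {c : Matrix (Fin n) (Fin n) (MvPolynomial (Fin n) A ⊗[A] B)} (hc : Expresses π f c) :
    traceEquiv hπ hker hc (Disc.Omega.trace A B) =
      π (Matrix.det (Matrix.of fun i j => MvPolynomial.pderiv j (f i))) :=
  (ND.ev_trace (xi_mem hπ hker hc)).trans (lmul_xi π f hc)

end Groth.Calg5.Trace
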