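import Mathlib
import Groth.Agent.Calg5.SquarePres
import Groth.Agent.Calg5.TraceIso
import Groth.Agent.Misc1.FittPres
import Groth.Agent.Misc3Fitt.Props
import Groth.Agent.KoszulLCI.BaseChange

/-!
The different of a finite free syntomic algebra is the Kähler different.
-/

set_option autoImplicit false
set_option linter.style.haveILetI false

universe u

open TensorProduct Groth.Misc1

namespace Groth.Calg5.DifferentLocal

variable {A B : Type u} [CommRing A] [CommRing B] [Algebra A B]

/-- The different as an ideal. -/
def differentIdeal' (A B : Type u) [CommRing A] [CommRing B] [Algebra A B] : Ideal B where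
  carrier := Disc.differentSet A B
  add_mem' {x y} hx hy φ := by
    obtain ⟨c, hc⟩ := hx φ
    obtain ⟨d, hd⟩ := hy φ
    exact ⟨c + d, fun z => by rw [add_mul, map_add, hc, hd, add_mul, map_add]⟩
  zero_mem' φ := ⟨0, fun z => by simp⟩
  smul_mem' b x hx φ := by
    obtain ⟨c, hc⟩ := hx (φ.comp (LinearMap.mulLeft A b))
    exact ⟨c, fun z => by rw [← hc, LinearMap.comp_apply, LinearMap.mulLeft_apply, smul_eq_mul, mul_assoc]⟩

/-- For a square presentation, the different is generated by the Jacobian determinant. -/
theorem different_eq_fitt_of_presentation [Module.Finite A B] [Module.Free A B] {n : ℕ}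
    (f : Fin n → MvPolynomial (Fin n) A) (π : MvPolynomial (Fin n) A →ₐ[A] B)
    (hπ : Function.Surjective π) (hker : RingHom.ker π = Ideal.span (Set.range f)) :
    differentIdeal' A B = Fitt.ideal B (KaehlerDifferential A B) 0 := by
  rw [FittPres.kaehler_aux f π hπ hker]
  obtain ⟨c, hc⟩ := Diagonal.exists_expresses π f hker
  let e := Trace.traceEquiv hπ hker hc
  have he : e (Disc.Omega.trace A B) = π (Matrix.det (Matrix.of fun i j => MvPolynomial.pderiv j (f i))) :=
    Trace.traceEquiv_trace hπ hker hc
  ext x
  change x ∈ Disc.differentSet A B ↔ _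
  rw [ND.mem_differentSet_iff, Ideal.mem_span_singleton', ← he]
  constructor
  · intro h
    obtain ⟨d, hd⟩ := h (e.symm 1)
    refine ⟨d, ?_⟩
    have := congrArg e hd
    rw [map_smul, map_smul, LinearEquiv.apply_symm_apply, smul_eq_mul, smul_eq_mul, mul_one] at this
    exact this.symm
  · rintro ⟨d, rfl⟩ l
    refine ⟨d * e l, e.injective ?_⟩
    rw [map_smul, map_smul, smul_eq_mul, smul_eq_mul]
    ring

section Localization

variable (M : Submonoid A) {A' B' : Type u} [CommRing A'] [CommRing B'] [Algebra A A'] [Algebra B B']
  [Algebra A B'] [Algebra A' B'] [IsScalarTower A A' B'] [IsScalarTower A B B'] [IsLocalization M A']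
  [IsLocalization (Algebra.algebraMapSubmonoid B M) B'] [Module.Finite A B] [Module.Free A B]

include M in
theorem algebraMap_mem_different {x : B} (hx : x ∈ Disc.differentSet A B) :
    algebraMap B B' x ∈ Disc.differentSet A' B' := by
  classical
  let b := Module.Free.chooseBasis A B
  let b' := b.localizationLocalization A' M B'
  choose c hc using fun i => hx (b.coord i)
  intro φ
  refine ⟨∑ i, φ (b' i) • algebraMap B B' (c i), fun y => ?_⟩
  suffices φ.comp (LinearMap.mulLeft A' (algebraMap B B' x)) =
      (Algebra.trace A' B').comp (LinearMap.mulLeft A' (∑ i, φ (b' i) • algebraMap B B' (c i))) from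
    LinearMap.congr_fun this y
  refine b'.ext fun j => ?_
  rw [LinearMap.comp_apply, LinearMap.comp_apply, LinearMap.mulLeft_apply, LinearMap.mulLeft_apply,
    Finset.sum_mul, map_sum, show b' j = algebraMap B B' (b j) from
      Module.Basis.localizationLocalization_apply A' M B' b j, ← map_mul]
  conv_lhs => rw [← b'.sum_repr (algebraMap B B' (x * b j)), map_sum]
  refine Finset.sum_congr rfl fun i _ => ?_
  rw [map_smul, smul_mul_assoc, map_smul, ← map_mul, Algebra.trace_localization A M,
    Module.Basis.localizationLocalization_repr_algebraMap, ← hc i (b j), smul_eq_mul, smul_eq_mul,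
    Module.Basis.coord_apply, mul_comm]

include M in
theorem exists_smul_mem_different {x : B} (hx : algebraMap B B' x ∈ Disc.differentSet A' B') :
    ∃ s ∈ M, s • x ∈ Disc.differentSet A B := by
  classical
  let b := Module.Free.chooseBasis A B
  let b' := b.localizationLocalization A' M B'
  have hi : ∀ i, ∃ s : A, s ∈ M ∧ ∃ d : B, ∀ j, s * b.coord i (x * b j) = Algebra.trace A B (d * b j) := by
    intro i
    obtain ⟨c', hc'⟩ := hx (b'.coord i)
    obtain ⟨⟨c, ⟨_, s, hs, rfl⟩⟩, hcs⟩ := IsLocalization.surj (Algebra.algebraMapSubmonoid B M) c'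
    have hj : ∀ j, ∃ t : M, (t : A) * (s * b.coord i (x * b j)) = t * Algebra.trace A B (c * b j) := by
      intro j
      apply IsLocalization.exists_of_eq (S := A')
      have h1 := hc' (algebraMap B B' (b j))
      rw [← map_mul, Module.Basis.coord_apply, Module.Basis.localizationLocalization_repr_algebraMap] at h1
      have h2 : algebraMap B B' (c * b j) = algebraMap A A' s • (c' * algebraMap B B' (b j)) := by
        dsimp only at hcs
        rw [map_mul, ← hcs, Algebra.smul_def, ← IsScalarTower.algebraMap_apply A A' B',
          IsScalarTower.algebraMap_apply A B B']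
        ring
      rw [map_mul, Module.Basis.coord_apply, h1, ← Algebra.trace_localization A M (Sₘ := B'), h2,
        map_smul, smul_eq_mul]
    choose t ht using hj
    refine ⟨(∏ j, (t j : A)) * s, mul_mem (prod_mem fun j _ => (t j).2) hs,
      (∏ j, (t j : A)) • c, fun j => ?_⟩
    rw [smul_mul_assoc, map_smul, smul_eq_mul, ← Finset.mul_prod_erase _ _ (Finset.mem_univ j)]
    linear_combination (∏ k ∈ Finset.univ.erase j, (t k : A)) * ht j
  choose s hs d hd using hi
  refine ⟨∏ i, s i, prod_mem fun i _ => hs i, fun φ => ?_⟩
  refine ⟨∑ i, (φ (b i) * ∏ k ∈ Finset.univ.erase i, s k) • d i, fun y => ?_⟩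
  suffices φ.comp (LinearMap.mulLeft A ((∏ i, s i) • x)) = (Algebra.trace A B).comp
      (LinearMap.mulLeft A (∑ i, (φ (b i) * ∏ k ∈ Finset.univ.erase i, s k) • d i)) from
    LinearMap.congr_fun this y
  refine b.ext fun j => ?_
  rw [LinearMap.comp_apply, LinearMap.comp_apply, LinearMap.mulLeft_apply, LinearMap.mulLeft_apply,
    Finset.sum_mul, map_sum, smul_mul_assoc]
  conv_lhs => rw [map_smul, ← b.sum_repr (x * b j), map_sum, Finset.smul_sum]
  refine Finset.sum_congr rfl fun i _ => ?_
  rw [map_smul, smul_mul_assoc, map_smul, ← Finset.mul_prod_erase _ _ (Finset.mem_univ i),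
    smul_eq_mul, smul_eq_mul, smul_eq_mul, ← hd i j, Module.Basis.coord_apply]
  ring

omit [Module.Free A B] in
include M in
theorem fitt_map_eq : Fitt.ideal B' (KaehlerDifferential A' B') 0 =
    (Fitt.ideal B (KaehlerDifferential A B) 0).map (algebraMap B B') := by
  haveI : Algebra.IsPushout A B A' B' := Algebra.isPushout_of_isLocalization M A' B B'
  haveI : Algebra.IsPushout A A' B B' := Algebra.IsPushout.symm inferInstance
  rw [← Groth.Misc3Fitt.ideal_baseChange,
    Groth.Misc3Fitt.ideal_congr (KaehlerDifferential.tensorKaehlerEquiv A A' B B')]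

end Localization

theorem different_eq_fitt_at_prime [Module.Finite A B] [Module.Free A B] (h : Synt.IsSyntomic A B)
    (p : Ideal A) [p.IsPrime] :
    differentIdeal' (Localization.AtPrime p) (Localization (Algebra.algebraMapSubmonoid B p.primeCompl)) =
      Fitt.ideal (Localization (Algebra.algebraMapSubmonoid B p.primeCompl))
        (KaehlerDifferential (Localization.AtPrime p)
          (Localization (Algebra.algebraMapSubmonoid B p.primeCompl))) 0 := by
  haveI : Algebra.IsPushout A B (Localization.AtPrime p)
      (Localization (Algebra.algebraMapSubmonoid B p.primeCompl)) :=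
    Algebra.isPushout_of_isLocalization p.primeCompl (Localization.AtPrime p) B _
  haveI : Algebra.IsPushout A (Localization.AtPrime p) B
      (Localization (Algebra.algebraMapSubmonoid B p.primeCompl)) := Algebra.IsPushout.symm inferInstance
  haveI hb : Algebra.IsPushout A (Localization.AtPrime p) B
      (Localization (Algebra.algebraMapSubmonoid B p.primeCompl)) := inferInstance
  let b' := (Module.Free.chooseBasis A B).localizationLocalization (Localization.AtPrime p) p.primeCompl
    (Localization (Algebra.algebraMapSubmonoid B p.primeCompl))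
  haveI := Module.Finite.of_basis b'
  haveI := Module.Free.of_basis b'
  haveI := h.1
  have hS : Synt.IsSyntomic (Localization.AtPrime p)
      (Localization (Algebra.algebraMapSubmonoid B p.primeCompl)) :=
    Groth.Syntomic.isSyntomic_iff.mpr
      ⟨inferInstance, Groth.KoszulLCI.isLCI_baseChange (A := A) (B := B) (Groth.Syntomic.isSyntomic_iff.mp h).2⟩
  obtain ⟨n, F, π, hπ, hker⟩ := SquarePres.exists_square_presentation hS
  exact different_eq_fitt_of_presentation F π hπ hker

/-- The different of a finite free syntomic algebra is the Kähler different. -/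
theorem different_eq_fitt [Module.Finite A B] [Module.Free A B] (h : Synt.IsSyntomic A B) :
    differentIdeal' A B = Fitt.ideal B (KaehlerDifferential A B) 0 := by
  refine Submodule.restrictScalars_injective A B B ?_
  have key : ∀ (D E : Ideal B), (∀ (p : Ideal A) [p.IsMaximal], ∀ x ∈ D, ∃ s ∉ p, s • x ∈ E) → D ≤ E := by
    intro D E hp x hx
    let J : Ideal A := ((E.restrictScalars A).comap (LinearMap.toSpanSingleton A B x))
    suffices J = ⊤ by
      have h1 : (1 : A) ∈ J := this ▸ trivial
      simpa [J] using h1
    by_contra hne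
    obtain ⟨p, hpm, hle⟩ := J.exists_le_maximal hne
    obtain ⟨s, hs, hsx⟩ := hp p x hx
    exact hs (hle (by simpa [J] using hsx))
  rw [Submodule.restrictScalars_inj]
  refine le_antisymm (key _ _ fun p _ x hx => ?_) (key _ _ fun p _ x hx => ?_)
  · have h1 := algebraMap_mem_different p.primeCompl (A' := Localization.AtPrime p)
      (B' := Localization (Algebra.algebraMapSubmonoid B p.primeCompl)) hx
    change algebraMap B _ x ∈ differentIdeal' _ _ at h1
    rw [different_eq_fitt_at_prime h p, fitt_map_eq (B := B) p.primeCompl,
      IsLocalization.algebraMap_mem_map_algebraMap_iff (Algebra.algebraMapSubmonoid B p.primeCompl)] at h1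
    obtain ⟨_, ⟨s, hs, rfl⟩, hsx⟩ := h1
    exact ⟨s, hs, by rw [Algebra.smul_def]; exact hsx⟩
  · have h1 := Ideal.mem_map_of_mem
      (algebraMap B (Localization (Algebra.algebraMapSubmonoid B p.primeCompl))) hx
    rw [← fitt_map_eq p.primeCompl (A' := Localization.AtPrime p), ← different_eq_fitt_at_prime h p] at h1
    obtain ⟨s, hs, hsx⟩ := exists_smul_mem_different p.primeCompl h1
    exact ⟨s, hs, hsx⟩

end Groth.Calg5.DifferentLocal
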