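import Mathlib

/-!
Étale localisation splitting off all finite parts of a finite type algebra.
-/

set_option autoImplicit false
universe u

namespace Groth.Calg5.EtaleSplit

open TensorProduct

attribute [local instance] Localization.AtPrime.algebraOfLiesOver

variable {R : Type u} [CommRing R]

/-- The isolated points of the fibre. -/
def isolated (S : Type u) [CommRing S] [Algebra R S] (p : Ideal R) [p.IsPrime] :
    Set (PrimeSpectrum (p.Fiber S)) :=
  {x | IsOpen {x}}

theorem finite_isolated (S : Type u) [CommRing S] [Algebra R S] [Algebra.FiniteType R S]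
    (p : Ideal R) [p.IsPrime] : (isolated S p).Finite := by
  haveI : IsNoetherianRing (p.Fiber S) := Algebra.FiniteType.isNoetherianRing p.ResidueField _
  refine Set.Finite.subset ((minimalPrimes.finite_of_isNoetherianRing (p.Fiber S)).preimage
    (f := PrimeSpectrum.asIdeal) fun a _ b _ h => PrimeSpectrum.ext h) ?_
  intro x hx
  refine ⟨⟨x.isPrime, bot_le⟩, fun Q hQ hle => ?_⟩
  have h1 : (⟨Q, hQ.1⟩ : PrimeSpectrum (p.Fiber S)) ∈ ({x} : Set (PrimeSpectrum (p.Fiber S))) :=
    (show IsOpen {x} from hx).stableUnderGeneralization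
      ((PrimeSpectrum.le_iff_specializes (⟨Q, hQ.1⟩ : PrimeSpectrum (p.Fiber S)) x).1 hle) rfl
  exact (congrArg PrimeSpectrum.asIdeal (Set.mem_singleton_iff.1 h1)).ge

theorem main : ∀ (n : ℕ) (R : Type u) [CommRing R] (S : Type u) [CommRing S] [Algebra R S]
    [Algebra.FiniteType R S] (p : Ideal R) [p.IsPrime], (isolated S p).ncard ≤ n →
    ∃ (R' : Type u) (_ : CommRing R') (_ : Algebra R R') (_ : Algebra.Etale R R') (P : Ideal R')
      (_ : P.IsPrime) (_ : P.LiesOver p) (k : Type) (_ : Fintype k) (A : k → CommAlgCat.{u} R')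
      (B : CommAlgCat.{u} R'),
      Function.Bijective (Ideal.ResidueField.mapₐ p P (Algebra.ofId _ _) (P.over_def p)) ∧
      Nonempty ((R' ⊗[R] S) ≃ₐ[R'] ((∀ i, A i) × B)) ∧
        (∀ i, Module.Finite R' (A i) ∧
          ∃! r : Ideal (A i), r.IsPrime ∧ r.comap (algebraMap R' (A i)) = P) ∧
        ∀ (q : Ideal B) [q.IsPrime], q.comap (algebraMap R' B) = P →
          ¬ Algebra.QuasiFiniteAt R' q := by
  intro n
  induction n using Nat.strong_induction_on with
  | _ n IH =>
  intro R _ S _ _ _ p _ hn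
  rcases (isolated S p).eq_empty_or_nonempty with he | ⟨x, hx⟩
  · refine ⟨R, inferInstance, inferInstance, inferInstance, p, inferInstance, ⟨rfl⟩, PEmpty,
      inferInstance, PEmpty.elim, CommAlgCat.of R S, ?_, ⟨?_⟩, fun i => i.elim, ?_⟩
    · rw! [Algebra.ofId_self, Ideal.ResidueField.mapₐ_id]; exact Function.bijective_id
    · exact (Algebra.TensorProduct.lid R S).trans (AlgEquiv.ofBijective
        (AlgHom.prod (Pi.algHom _ _ fun i => i.elim) (AlgHom.id R S))
        ⟨fun a b h => congrArg Prod.snd h, fun y => ⟨y.2, Prod.ext (funext fun i => i.elim) rfl⟩⟩)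
    · intro q _ hq hqf
      change Ideal S at q
      haveI : q.LiesOver p := ⟨hq.symm⟩
      let x := PrimeSpectrum.primesOverOrderIsoFiber R S p ⟨q, ‹_›, ‹_›⟩
      have hx : q = x.asIdeal.comap Algebra.TensorProduct.includeRight.toRingHom :=
        congr($((PrimeSpectrum.primesOverOrderIsoFiber R S p).symm_apply_apply ⟨q, ‹_›, ‹_›⟩).1).symm
      haveI : Algebra.QuasiFiniteAt R q := hqf
      haveI : Algebra.QuasiFiniteAt p.ResidueField x.asIdeal := .baseChange q _ hx
      exact (Set.eq_empty_iff_forall_notMem.1 he x)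
        (Algebra.QuasiFiniteAt.isClopen_singleton (R := p.ResidueField) x).isOpen
  haveI : Algebra.QuasiFiniteAt p.ResidueField x.asIdeal :=
    Algebra.QuasiFiniteAt.of_isOpen_singleton x hx
  let q : Ideal S := x.asIdeal.comap Algebra.TensorProduct.includeRight.toRingHom
  haveI : q.LiesOver p := ((PrimeSpectrum.primesOverOrderIsoFiber R S p).symm x).2.2
  haveI : Algebra.QuasiFiniteAt R q := .of_quasiFiniteAt_residueField p q x.asIdeal rfl
  obtain ⟨R₁, _, _, _, P, _, _, e, he, P', _, _, hP'q, heP', hbij, hfin, huniq⟩ :=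
    Algebra.exists_etale_isIdempotentElem_forall_liesOver_eq p q
  let T := R₁ ⊗[R] S
  obtain ⟨C, _, _, qC, hqC, hkerC⟩ : ∃ (C : Type u) (_ : CommRing C) (_ : Algebra R₁ C) (qC : T →ₐ[R₁] C),
      Function.Surjective qC ∧ RingHom.ker qC = Ideal.span {e} :=
    ⟨T ⧸ Ideal.span {e}, inferInstance, inferInstance, Ideal.Quotient.mkₐ R₁ _,
      Ideal.Quotient.mkₐ_surjective R₁ _, Ideal.mk_ker⟩
  haveI : Algebra.FiniteType R₁ C := Algebra.FiniteType.of_surjective qC hqC
  let A₀ := T ⧸ Ideal.span {1 - e}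
  -- the fibres
  let φ : P.Fiber T ≃ₐ[p.ResidueField] p.Fiber S :=
    ((Algebra.TensorProduct.cancelBaseChange _ _ P.ResidueField _ _).restrictScalars _).trans
      (Algebra.TensorProduct.congr (.symm <| .ofBijective (Algebra.ofId _ _) hbij) .refl)
  let hom := PrimeSpectrum.homeomorphOfRingEquiv φ.toRingEquiv
  let g : P.Fiber T →ₐ[P.ResidueField] P.Fiber C :=
    Algebra.TensorProduct.map (AlgHom.id _ _) qC
  have hg : Function.Surjective g :=
    LinearMap.lTensor_surjective _ (g := qC.toLinearMap) hqC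
  let gr : P.Fiber T →+* P.Fiber C := g.toRingHom
  let e' : P.Fiber T := 1 ⊗ₜ e
  have he' : IsIdempotentElem e' := he.map Algebra.TensorProduct.includeRight
  have hker : RingHom.ker gr = Ideal.span {e'} := by
    have h := Algebra.TensorProduct.lTensor_ker (A := P.ResidueField) qC hqC
    refine h.trans ?_
    rw [hkerC, Ideal.map_span, Set.image_singleton]
    rfl
  have hrange : Set.range (PrimeSpectrum.comap gr) = PrimeSpectrum.zeroLocus {e'} := by
    rw [range_comap_of_surjective _ _ hg, hker, PrimeSpectrum.zeroLocus_span]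
  have hemb : Topology.IsOpenEmbedding (PrimeSpectrum.comap gr) := by
    refine ⟨(PrimeSpectrum.isClosedEmbedding_comap_of_surjective _ _ hg).isEmbedding, ?_⟩
    rw [hrange, PrimeSpectrum.zeroLocus_eq_basicOpen_of_isIdempotentElem _ he']
    exact (PrimeSpectrum.basicOpen _).isOpen
  have hlt : (isolated C P).ncard < (isolated S p).ncard := by
    let F := fun y => hom (PrimeSpectrum.comap gr y)
    have hF : Function.Injective F := hom.injective.comp hemb.injective
    rw [← Set.ncard_image_of_injective _ hF]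
    refine Set.ncard_lt_ncard ⟨?_, fun hsub => ?_⟩ (finite_isolated S p)
    · rintro _ ⟨y, hy, rfl⟩
      show IsOpen {F y}
      rw [← Set.image_singleton]
      exact hom.isOpenMap.comp hemb.isOpenMap _ hy
    · obtain ⟨y, -, hy⟩ := hsub hx
      let Q₀ : PrimeSpectrum (P.Fiber T) := PrimeSpectrum.comap gr y
      have h1 : e' ∈ Q₀.asIdeal := by
        have : Q₀ ∈ Set.range (PrimeSpectrum.comap gr) := ⟨y, rfl⟩
        rw [hrange] at this
        exact this rfl
      have hx' : x.asIdeal = Q₀.asIdeal.comap φ.symm.toRingHom := congrArg PrimeSpectrum.asIdeal hy.symm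
      let qT : Ideal T := Q₀.asIdeal.comap Algebra.TensorProduct.includeRight.toRingHom
      haveI : qT.LiesOver P := ((PrimeSpectrum.primesOverOrderIsoFiber R₁ T P).symm Q₀).2.2
      have heq : qT = P' := by
        refine Ideal.eq_of_comap_eq_comap_of_bijective_residueFieldMap hbij qT P' ?_
        rw [hP'q]
        show qT.comap _ = x.asIdeal.comap _
        rw [hx', Ideal.comap_comap, Ideal.comap_comap]
        congr 1
        refine RingHom.ext fun s => ?_
        show (1 : P.ResidueField) ⊗ₜ[R₁] ((1 : R₁) ⊗ₜ[R] s) = φ.symm (1 ⊗ₜ[R] s)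
        apply φ.injective
        rw [AlgEquiv.apply_symm_apply]
        show Algebra.TensorProduct.congr _ _ (Algebra.TensorProduct.cancelBaseChange R R₁ P.ResidueField P.ResidueField S
          ((1 : P.ResidueField) ⊗ₜ[R₁] ((1 : R₁) ⊗ₜ[R] s))) = _
        erw [Algebra.TensorProduct.cancelBaseChange_tmul, Algebra.TensorProduct.congr_apply, Algebra.TensorProduct.map_tmul]
        simp
      exact heP' (heq ▸ h1)
  obtain ⟨R₂, _, _, _, Q, _, _, k, _, A, B, hbij', ⟨e₂⟩, hA, hB⟩ :=
    IH _ (lt_of_lt_of_le hlt hn) R₁ C P le_rfl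
  letI : Algebra R R₂ := ((algebraMap R₁ R₂).comp (algebraMap R R₁)).toAlgebra
  haveI : IsScalarTower R R₁ R₂ := IsScalarTower.of_algebraMap_eq' rfl
  haveI : Algebra.Etale R R₂ := Algebra.Etale.comp R R₁ R₂
  haveI : Q.LiesOver p := .trans _ P _
  have hbij'' : Function.Bijective (Ideal.ResidueField.mapₐ p Q (Algebra.ofId _ _) (Q.over_def p)) := by
    convert hbij'.comp hbij
    rw [← @AlgHom.coe_restrictScalars' R R₁, ← AlgHom.coe_comp]; congr 1; ext
  haveI hA₀ : Module.Finite R₁ A₀ := by
    haveI := IsLocalization.away_of_isIdempotentElem (e := e) he (Ideal.mk_ker (I := Ideal.span {1 - e}))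
      Ideal.Quotient.mk_surjective
    exact Module.Finite.equiv ((IsLocalization.algEquiv (Submonoid.powers e) (Localization.Away e) A₀).restrictScalars R₁).toLinearEquiv
  let A' : Option k → CommAlgCat.{u} R₂ := fun o => o.elim (CommAlgCat.of R₂ (R₂ ⊗[R₁] A₀)) A
  refine ⟨R₂, inferInstance, inferInstance, inferInstance, Q, inferInstance, inferInstance, Option k,
    inferInstance, A', B, hbij'', ⟨?_⟩, ?_, hB⟩
  · let split : T ≃ₐ[R₁] (A₀ × C) :=
      (AlgEquiv.prodQuotientOfIsIdempotentElem R₁ he.one_sub he (by simp) (by simp [sub_mul, he.eq])).trans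
        (AlgEquiv.prodCongr .refl ((Ideal.quotientEquivAlgOfEq R₁ hkerC.symm).trans
          (Ideal.quotientKerAlgEquivOfSurjective hqC)))
    let assoc : ((R₂ ⊗[R₁] A₀) × ((∀ i, A i) × B)) ≃ₐ[R₂] ((∀ o, A' o) × B) :=
      { toFun := fun z => (fun o => match o with | none => z.1 | some i => z.2.1 i, z.2.2)
        invFun := fun z => (z.1 none, (fun i => z.1 (some i), z.2))
        left_inv := fun z => rfl
        right_inv := fun z => Prod.ext (funext fun o => by cases o <;> rfl) rfl
        map_mul' := fun z w => Prod.ext (funext fun o => by cases o <;> rfl) rfl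
        map_add' := fun z w => Prod.ext (funext fun o => by cases o <;> rfl) rfl
        commutes' := fun r => Prod.ext (funext fun o => by cases o <;> rfl) rfl }
    exact (Algebra.TensorProduct.cancelBaseChange R R₁ R₂ R₂ S).symm.trans
      ((Algebra.TensorProduct.congr .refl split).trans
        ((Algebra.TensorProduct.prodRight R₁ R₂ R₂ A₀ C).trans
          ((AlgEquiv.prodCongr .refl e₂).trans assoc)))
  · rintro (_ | i)
    · refine ⟨(inferInstance : Module.Finite R₂ (R₂ ⊗[R₁] A₀)), ?_⟩
      have h1 : ∀ r : Ideal A₀, r.IsPrime → r.LiesOver P → r.comap (Ideal.Quotient.mk _) = P' := by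
        intro r hr hrP
        refine huniq _ inferInstance ⟨?_⟩ fun h => ?_
        · rw [Ideal.under, Ideal.comap_comap]
          exact hrP.over
        · refine hr.ne_top ((Ideal.eq_top_iff_one r).2 ?_)
          have h2 : Ideal.Quotient.mk (Ideal.span {1 - e}) (1 - e) = 0 :=
            Ideal.Quotient.eq_zero_iff_mem.2 (Ideal.mem_span_singleton_self _)
          rw [map_sub, map_one, sub_eq_zero] at h2
          exact h2 ▸ (Ideal.mem_comap.1 h)
      have hsub : Ideal.span {1 - e} ≤ P' := (Ideal.span_singleton_le_iff_mem _).2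
        (((inferInstance : P'.IsPrime).mem_or_mem (x := e) (y := 1 - e) (by rw [mul_sub, mul_one, he.eq, sub_self]; exact zero_mem _)).resolve_left heP')
      let r₀ : Ideal A₀ := P'.map (Ideal.Quotient.mk _)
      have hr₀ : r₀.comap (Ideal.Quotient.mk _) = P' :=
        Ideal.comap_map_mk hsub
      haveI : r₀.IsPrime := Ideal.map_isPrime_of_surjective Ideal.Quotient.mk_surjective (by rwa [Ideal.mk_ker])
      haveI : r₀.LiesOver P := ⟨by
        rw [P'.over_def P]
        show Ideal.comap _ P' = Ideal.comap _ r₀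
        rw [← hr₀, Ideal.comap_comap]; rfl⟩
      let F := Ideal.fiberIsoOfBijectiveResidueField (S := A₀) hbij'
      refine ⟨(F.symm ⟨r₀, ‹_›, ‹_›⟩).1, ⟨(F.symm ⟨r₀, ‹_›, ‹_›⟩).2.1, (F.symm ⟨r₀, ‹_›, ‹_›⟩).2.2.over.symm⟩, ?_⟩
      rintro r ⟨hr, hrQ⟩
      have h2 : F ⟨r, hr, ⟨hrQ.symm⟩⟩ = ⟨r₀, ‹_›, ‹_›⟩ := Subtype.ext (by
        apply Ideal.comap_injective_of_surjective _ Ideal.Quotient.mk_surjective
        rw [h1 _ (F ⟨r, hr, ⟨hrQ.symm⟩⟩).2.1 (F ⟨r, hr, ⟨hrQ.symm⟩⟩).2.2, hr₀])
      rw [← h2, OrderIso.symm_apply_apply]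
    · exact hA i

end Groth.Calg5.EtaleSplit
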