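import Mathlib
import Groth.Agent.Calg5.InvertibleCrit
import Groth.Agent.FlatMorOne.FlatnessCriteria

/-!
A flat module is invertible if it is invertible on every fibre.
-/

set_option autoImplicit false
set_option linter.style.haveILetI false

universe u

open TensorProduct IsLocalRing

namespace Groth.Calg5.FibrewiseInvertible

theorem flat_tensor_left {A B C M : Type u} [CommRing A] [CommRing B] [CommRing C] [Algebra A B] [Algebra B C]
    [Algebra A C] [IsScalarTower A B C] [AddCommGroup M] [Module A M] [Module B M] [IsScalarTower A B M]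
    [Module.Flat A M] [Module.Flat B C] : Module.Flat A (C ⊗[B] M) := by
  rw [Module.Flat.iff_lTensor_preserves_injective_linearMap]
  intro X Y _ _ _ _ f hf
  let F : M ⊗[A] X →ₗ[B] M ⊗[A] Y := TensorProduct.AlgebraTensorModule.lTensor B M f
  have hF : Function.Injective F := Module.Flat.lTensor_preserves_injective_linearMap (M := M) f hf
  have hF' : Function.Injective (F.lTensor C) := Module.Flat.lTensor_preserves_injective_linearMap F hF
  let eX := TensorProduct.AlgebraTensorModule.assoc A B C C M X
  let eY := TensorProduct.AlgebraTensorModule.assoc A B C C M Y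
  have hcomm : ∀ w, eY (f.lTensor (C ⊗[B] M) w) = F.lTensor C (eX w) := by
    intro w
    induction w with
    | zero => simp
    | add a b ha hb => simp only [map_add, ha, hb]
    | tmul cm x =>
      induction cm with
      | zero => simp
      | add a b ha hb => simp only [TensorProduct.add_tmul, map_add, ha, hb]
      | tmul c m => simp [eX, eY, F]
  intro x y hxy
  exact eX.injective (hF' (by rw [← hcomm, ← hcomm, hxy]))

/-- Local criterion, abstract form. -/
theorem exists_equiv_of_local (R : Type u) {S N : Type u} [CommRing R] [IsLocalRing R] [CommRing S] [IsLocalRing S]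
    [IsNoetherianRing S] [Algebra R S] [IsLocalHom (algebraMap R S)] [AddCommGroup N] [Module R N] [Module S N]
    [IsScalarTower R S N] [Module.Finite S N] [Module.Flat R N]
    [Module.Invertible (S ⧸ (maximalIdeal R).map (algebraMap R S))
      ((S ⧸ (maximalIdeal R).map (algebraMap R S)) ⊗[S] N)] :
    Nonempty (N ≃ₗ[S] S) := by
  let J := (maximalIdeal R).map (algebraMap R S)
  let T := S ⧸ J
  have hJ : J ≤ maximalIdeal S := Ideal.map_le_iff_le_comap.mpr fun a ha hu =>
    (mem_maximalIdeal a).mp ha (isUnit_of_map_unit _ a hu)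
  haveI : Nontrivial T := Ideal.Quotient.nontrivial_iff.mpr
    (ne_top_of_le_ne_top (maximalIdeal.isMaximal S).ne_top hJ)
  haveI : IsLocalRing T := IsLocalRing.of_surjective' _ Ideal.Quotient.mk_surjective
  haveI : Finite (MaximalSpectrum T) := inferInstance
  obtain ⟨e⟩ := Groth.Calg5.InvertibleCrit.exists_linearEquiv_of_invertible (B := T) (M := T ⊗[S] N)
  obtain ⟨m, hm⟩ := TensorProduct.mk_surjective S N T Ideal.Quotient.mk_surjective (e.symm 1)
  change (1 : T) ⊗ₜ[S] m = e.symm 1 at hm
  haveI : Module.Finite S N := inferInstance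
  have hgen : Submodule.span S {m} = ⊤ := by
    refine Submodule.eq_top_iff'.mpr fun n => ?_
    have htop : ∀ n : N, n ∈ Submodule.span S {m} ⊔ J • (⊤ : Submodule S N) := by
      intro n
      obtain ⟨c, hc⟩ := Ideal.Quotient.mk_surjective (e ((1 : T) ⊗ₜ[S] n))
      have h1 : (1 : T) ⊗ₜ[S] (n - c • m) = 0 := by
        apply e.injective
        rw [TensorProduct.tmul_sub, map_sub, TensorProduct.tmul_smul, ← algebraMap_smul T c, map_smul, hm,
          e.apply_symm_apply, ← hc, smul_eq_mul, mul_one, map_zero]
        exact sub_self _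
      have h2 := congrArg (TensorProduct.quotTensorEquivQuotSMul N J) h1
      rw [map_zero, show (1 : T) = Ideal.Quotient.mk J 1 from rfl,
        TensorProduct.quotTensorEquivQuotSMul_mk_tmul, one_smul, Submodule.Quotient.mk_eq_zero] at h2
      exact Submodule.mem_sup.mpr ⟨c • m, Submodule.smul_mem _ _ (Submodule.mem_span_singleton_self m),
        n - c • m, h2, by abel⟩
    exact Submodule.le_of_le_smul_of_le_jacobson_bot (I := J) Module.Finite.fg_top
      (hJ.trans_eq (IsLocalRing.jacobson_eq_maximalIdeal _ bot_ne_top).symm) (fun n _ => htop n) Submodule.mem_top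
  let u : S →ₗ[R] N := (LinearMap.toSpanSingleton S N m).restrictScalars R
  have hu : Function.Injective (u.lTensor (ResidueField R)) := by
    rw [injective_iff_map_eq_zero]
    intro z hz
    obtain ⟨s, rfl⟩ := TensorProduct.mk_surjective R S (ResidueField R) Ideal.Quotient.mk_surjective z
    change (1 : ResidueField R) ⊗ₜ[R] (s • m) = 0 at hz
    change (1 : R ⧸ maximalIdeal R) ⊗ₜ[R] s = 0
    have hz' : (1 : R ⧸ maximalIdeal R) ⊗ₜ[R] (s • m) = 0 := hz
    have h2 := congrArg (TensorProduct.quotTensorEquivQuotSMul N (maximalIdeal R)) hz'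
    rw [LinearEquiv.map_zero, show (1 : R ⧸ maximalIdeal R) = Ideal.Quotient.mk (maximalIdeal R) 1 from rfl,
      TensorProduct.quotTensorEquivQuotSMul_mk_tmul] at h2
    rw [one_smul, Submodule.Quotient.mk_eq_zero] at h2
    have h3 : (1 : T) ⊗ₜ[S] (s • m) = 0 := by
      apply (TensorProduct.quotTensorEquivQuotSMul N J).injective
      rw [map_zero, show (1 : T) = Ideal.Quotient.mk J 1 from rfl,
        TensorProduct.quotTensorEquivQuotSMul_mk_tmul, one_smul, Submodule.Quotient.mk_eq_zero]
      have hle : maximalIdeal R • (⊤ : Submodule R N) ≤ (J • (⊤ : Submodule S N)).restrictScalars R := by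
        refine Submodule.smul_le.mpr ?_
        intro a ha x _
        rw [Submodule.restrictScalars_mem, ← algebraMap_smul S a x]
        exact Submodule.smul_mem_smul (I := J) (N := (⊤ : Submodule S N))
          (Ideal.mem_map_of_mem (algebraMap R S) ha) (Submodule.mem_top (R := S) (x := x))
      exact hle h2
    have h4 : s ∈ J := by
      have := congrArg e h3
      rw [TensorProduct.tmul_smul, ← algebraMap_smul T s, map_smul, hm, e.apply_symm_apply, map_zero,
        smul_eq_mul, mul_one] at this
      exact Ideal.Quotient.eq_zero_iff_mem.mp this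
    refine (LinearEquiv.map_eq_zero_iff (TensorProduct.quotTensorEquivQuotSMul S (maximalIdeal R))).mp ?_
    rw [show (1 : R ⧸ maximalIdeal R) = Ideal.Quotient.mk (maximalIdeal R) 1 from rfl]
    refine (TensorProduct.quotTensorEquivQuotSMul_mk_tmul (maximalIdeal R) (1 : R) s).trans ?_
    rw [one_smul, Submodule.Quotient.mk_eq_zero, Ideal.smul_top_eq_map]
    exact h4
  have hinj := (Groth.FlatMorOne.injective_and_flat_coker S u hu).1
  exact ⟨(LinearEquiv.ofBijective (LinearMap.toSpanSingleton S N m) ⟨hinj, fun n =>
    Submodule.mem_span_singleton.mp (hgen ▸ Submodule.mem_top (x := n))⟩).symm⟩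


/-- Local criterion. -/
theorem exists_equiv_atPrime {A B M : Type u} [CommRing A] [CommRing B] [Algebra A B] [IsNoetherianRing B]
    [Module.Flat A B] [AddCommGroup M] [Module A M] [Module B M] [IsScalarTower A B M] [Module.Flat A M]
    [Module.Finite B M] (q : Ideal B) [q.IsPrime]
    (h : Module.Invertible (B ⊗[A] (q.comap (algebraMap A B)).ResidueField)
      ((B ⊗[A] (q.comap (algebraMap A B)).ResidueField) ⊗[B] M)) :
    Nonempty (Localization.AtPrime q ⊗[B] M ≃ₗ[Localization.AtPrime q] Localization.AtPrime q) := by
  let p := q.comap (algebraMap A B)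
  let R := Localization.AtPrime p
  let S := Localization.AtPrime q
  let N := S ⊗[B] M
  letI : Algebra R S := (Localization.localRingHom p q (algebraMap A B) rfl).toAlgebra
  haveI : IsScalarTower A R S := IsScalarTower.of_algebraMap_eq fun a => by
    rw [RingHom.algebraMap_toAlgebra, Localization.localRingHom_to_map,
      ← IsScalarTower.algebraMap_apply A B S]
  haveI : IsLocalHom (algebraMap R S) := Localization.isLocalHom_localRingHom p q (algebraMap A B) rfl
  haveI : Module.Flat A S := Module.Flat.trans A B S
  haveI : Module.Flat A N := flat_tensor_left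
  haveI : IsScalarTower A R N := TensorProduct.isScalarTower_left
  haveI : Module.Flat R N := (Module.flat_iff_of_isLocalization R p.primeCompl N).mpr inferInstance
  let J := (maximalIdeal R).map (algebraMap R S)
  let T := S ⧸ J
  have hJ : J ≤ maximalIdeal S := Ideal.map_le_iff_le_comap.mpr fun a ha hu =>
    (mem_maximalIdeal a).mp ha (isUnit_of_map_unit _ a hu)
  let g : B →ₐ[A] T := (Ideal.Quotient.mkₐ A J).comp (IsScalarTower.toAlgHom A B S)
  let f : p.ResidueField →ₐ[A] T :=
    { toRingHom := (Ideal.Quotient.lift (maximalIdeal R) ((Ideal.Quotient.mk J).comp (algebraMap R S))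
        fun a ha => Ideal.Quotient.eq_zero_iff_mem.mpr (Ideal.mem_map_of_mem _ ha) : R ⧸ maximalIdeal R →+* T)
      commutes' := fun c => by
        rw [IsScalarTower.algebraMap_apply A R p.ResidueField]
        exact congrArg (Ideal.Quotient.mk J) (IsScalarTower.algebraMap_apply A R S c).symm }
  let h' : B ⊗[A] p.ResidueField →ₐ[A] T :=
    Algebra.TensorProduct.lift g f fun _ _ => Commute.all _ _
  letI : Algebra (B ⊗[A] p.ResidueField) T := h'.toRingHom.toAlgebra
  haveI : IsScalarTower B (B ⊗[A] p.ResidueField) T := IsScalarTower.of_algebraMap_eq fun b => by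
    change _ = h' (b ⊗ₜ 1)
    rw [Algebra.TensorProduct.lift_tmul, map_one, mul_one]
    rfl
  haveI : Module.Invertible T (T ⊗[S] N) := Module.Invertible.congr
    ((TensorProduct.AlgebraTensorModule.cancelBaseChange B (B ⊗[A] p.ResidueField) T T M).trans
      (TensorProduct.AlgebraTensorModule.cancelBaseChange B S T T M).symm)
  exact exists_equiv_of_local R

/-- A flat finite module which is invertible on every fibre is invertible. -/
theorem invertible_of_fibres {A B M : Type u} [CommRing A] [CommRing B] [Algebra A B] [IsNoetherianRing B]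
    [Module.Flat A B] [AddCommGroup M] [Module A M] [Module B M] [IsScalarTower A B M] [Module.Flat A M]
    [Module.Finite B M]
    (h : ∀ (p : Ideal A) [p.IsPrime],
      Module.Invertible (B ⊗[A] p.ResidueField) ((B ⊗[A] p.ResidueField) ⊗[B] M)) :
    Module.Invertible B M :=
  haveI : Module.FinitePresentation B M := Module.finitePresentation_of_finite B M
  Groth.Calg5.InvertibleCrit.invertible_of_atPrime fun q _ =>
    exists_equiv_atPrime q (h (q.comap (algebraMap A B)))

end Groth.Calg5.FibrewiseInvertible
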