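import Mathlib
import Groth.Agent.Calg5.ArtinCI
import Groth.Agent.Gorenstein.Basic
import Groth.Agent.Calg5.InvertibleCrit

/-!
Finite algebras over a field: Gorenstein iff the dual is invertible.
-/

set_option autoImplicit false
set_option linter.style.haveILetI false

universe u

open IsLocalRing

namespace Groth.Calg5.GorensteinFinite

variable {k B : Type u} [Field k] [CommRing B] [Algebra k B] [Module.Finite k B]

omit [Module.Finite k B] in
/-- The dual of an algebra over a field is an injective module. -/
theorem injective_omega : Module.Injective B (Disc.Omega k B) := by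
  refine Module.Baer.injective fun I g => ?_
  let h : I.restrictScalars k →ₗ[k] k :=
    { toFun := fun x => (g ⟨x, x.2⟩).toLinearMap 1
      map_add' := fun x y => by
        change (g (⟨x, x.2⟩ + ⟨y, y.2⟩)).toLinearMap 1 = _
        rw [map_add]; rfl
      map_smul' := fun c x => by
        change (g ⟨c • (x : B), (c • x).2⟩).toLinearMap 1 = c • (g ⟨x, x.2⟩).toLinearMap 1
        rw [show (⟨c • (x : B), (c • x).2⟩ : I) = algebraMap k B c • (⟨x, x.2⟩ : I) from
          Subtype.ext (Algebra.smul_def c (x : B)), map_smul, Disc.Omega.smul_toLinearMap_apply, mul_one,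
          ← map_smul, Algebra.smul_def, mul_one] }
  obtain ⟨φ, hφ⟩ := LinearMap.exists_extend h
  refine ⟨LinearMap.toSpanSingleton B (Disc.Omega k B) ⟨φ⟩,
    fun x hx => Disc.Omega.ext (LinearMap.ext fun z => ?_)⟩
  have h1 : φ (z * x) = (g ⟨z * x, I.mul_mem_left z hx⟩).toLinearMap 1 :=
    LinearMap.congr_fun hφ ⟨z * x, I.mul_mem_left z hx⟩
  rw [LinearMap.toSpanSingleton_apply, Disc.Omega.smul_toLinearMap_apply, mul_comm, h1,
    show (⟨z * x, I.mul_mem_left z hx⟩ : I) = z • (⟨x, hx⟩ : I) from rfl, map_smul,
    Disc.Omega.smul_toLinearMap_apply, mul_one]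

/-- Gorenstein finite algebras over a field have free dual. -/
theorem exists_omega_equiv_of_isGorensteinRing [LocCoh.IsGorensteinRing B] :
    Nonempty (B ≃ₗ[B] Disc.Omega k B) := by
  haveI : IsArtinianRing B := IsArtinianRing.of_finite k B
  refine Groth.Calg5.ArtinCI.exists_omega_equiv_of_socle B fun M _ _ _ ht htm hsm => ?_
  obtain ⟨m, hm⟩ := (GrothGoren.isGorenstein_iff _).mp
    (LocCoh.IsGorensteinRing.isGorensteinLocalRing_localization M)
  exact Groth.Calg5.ArtinCI.dvd_of_injective_localization M (GrothGoren.injective_self_of_injLT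
    (Groth.Calg5.ArtinCI.not_isSMulRegular_of_isArtinian) m
    (GrothGoren.injLT_mono (Nat.le_succ m) hm)) ht htm hsm

/-- A finite algebra over a field with invertible dual is Gorenstein. -/
theorem isGorensteinRing_of_invertible [Module.Invertible B (Disc.Omega k B)] :
    LocCoh.IsGorensteinRing B := by
  classical
  haveI : IsArtinianRing B := IsArtinianRing.of_finite k B
  obtain ⟨E⟩ := InvertibleCrit.exists_linearEquiv_of_invertible (B := B) (M := Disc.Omega k B)
  haveI hB : Module.Injective B B := by
    refine Module.Baer.injective fun I g => ?_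
    obtain ⟨h, hh⟩ := (Module.Baer.of_injective (injective_omega (k := k))) I (E.symm.toLinearMap.comp g)
    exact ⟨E.toLinearMap.comp h, fun x hx => by simp [hh x hx]⟩
  haveI : IsNoetherianRing B := inferInstance
  refine { isGorensteinLocalRing_localization := fun p _ => ?_ }
  haveI : IsNoetherianRing (Localization.AtPrime p) := IsLocalization.isNoetherianRing p.primeCompl _ ‹_›
  refine (GrothGoren.isGorenstein_iff _).mpr ⟨1, GrothGoren.injLT_one_iff.mpr
    (Module.Baer.injective fun J g => ?_)⟩
  set π := algebraMap B (Localization.AtPrime p)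
  have hs : Function.Surjective π := IsArtinianRing.localization_surjective p.primeCompl _
  obtain ⟨u, hu, huk⟩ : ∃ u ∉ p, ∀ y ∈ RingHom.ker π, u * y = 0 := by
    obtain ⟨s, hgen⟩ := (RingHom.ker π).fg_of_isNoetherianRing
    choose w hw using fun y : (s : Set B) => (IsLocalization.map_eq_zero_iff p.primeCompl
      (Localization.AtPrime p) (y : B)).mp (hgen ▸ Ideal.subset_span y.2 : (y : B) ∈ RingHom.ker π)
    refine ⟨(∏ y, w y : p.primeCompl), (∏ y, w y : p.primeCompl).2, fun y hy => ?_⟩
    rw [← hgen] at hy
    induction hy using Submodule.span_induction with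
    | mem x hx =>
      obtain ⟨c, hc⟩ := Finset.dvd_prod_of_mem w (Finset.mem_univ (⟨x, hx⟩ : (s : Set B)))
      rw [hc, Submonoid.coe_mul, mul_comm (w ⟨x, hx⟩ : B), mul_assoc, hw, mul_zero]
    | zero => rw [mul_zero]
    | add x y _ _ hx hy => rw [mul_add, hx, hy, add_zero]
    | smul a x _ hx => rw [smul_eq_mul, mul_left_comm, hx, mul_zero]
  have key : ∀ {x y}, π x = π y → u * x = u * y := fun {x y} h =>
    sub_eq_zero.mp (by rw [← mul_sub, huk _ (by rw [RingHom.mem_ker, map_sub, h, sub_self])])
  have hpre : ∀ c, π (Function.surjInv hs c) = c := Function.surjInv_eq hs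
  let g' : J.comap π →ₗ[B] B :=
    { toFun := fun x => u * Function.surjInv hs (g ⟨π x, x.2⟩)
      map_add' := fun x y => by
        rw [← mul_add]
        refine key ?_
        rw [map_add, hpre, hpre, hpre, ← map_add]
        congr 1
        exact Subtype.ext (map_add π _ _)
      map_smul' := fun a x => by
        rw [RingHom.id_apply, smul_eq_mul a (u * _), mul_left_comm]
        refine key ?_
        rw [map_mul, hpre, hpre, ← smul_eq_mul, ← map_smul]
        congr 1
        exact Subtype.ext (map_mul π a x) }
  obtain ⟨h, hh⟩ := (Module.Baer.of_injective hB) (J.comap π) g'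
  have huu : IsUnit (π u) := IsLocalization.map_units (M := p.primeCompl) _ ⟨u, hu⟩
  refine ⟨LinearMap.toSpanSingleton _ _ (π (h 1) * ↑huu.unit⁻¹), fun x hx => ?_⟩
  obtain ⟨b, rfl⟩ := hs x
  have h1 : h b = u * Function.surjInv hs (g ⟨π b, hx⟩) := hh b hx
  have h2 := congrArg π h1
  rw [show h b = b * h 1 by rw [← smul_eq_mul, ← map_smul, smul_eq_mul, mul_one], map_mul, map_mul,
    hpre] at h2
  rw [LinearMap.toSpanSingleton_apply, smul_eq_mul, ← mul_assoc, h2, mul_comm (π u), mul_assoc,
    IsUnit.mul_val_inv, mul_one]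

end Groth.Calg5.GorensteinFinite
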