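import Mathlib

/-!
Homogeneous components in ℕ-graded modules; positive-degree homogeneous avoidance tools.
-/

namespace Groth.Calg5.Graded

open DirectSum

section Module

variable {R S M : Type*} [CommRing R] [CommRing S] [Algebra R S] (𝒜 : ℕ → Submodule R S) [GradedAlgebra 𝒜]
  [AddCommGroup M] [Module R M] [Module S M] [IsScalarTower R S M] (ℳ : ℕ → Submodule R M) [Decomposition ℳ]
  [SetLike.GradedSMul 𝒜 ℳ]

/-- The homogeneous component of degree `n`. -/
def comp (n : ℕ) : M →ₗ[R] M :=
  (ℳ n).subtype.comp ((DirectSum.component R ℕ (fun i => ℳ i) n).comp (decomposeLinearEquiv ℳ).toLinearMap)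

theorem comp_apply (n : ℕ) (m : M) : comp ℳ n m = (decompose ℳ m n : M) := rfl

theorem comp_mem (n : ℕ) (m : M) : comp ℳ n m ∈ ℳ n := (decompose ℳ m n).2

theorem comp_of_mem {n : ℕ} {m : M} (h : m ∈ ℳ n) : comp ℳ n m = m := decompose_of_mem_same ℳ h

theorem comp_of_mem_ne {i n : ℕ} {m : M} (h : m ∈ ℳ i) (hne : i ≠ n) : comp ℳ n m = 0 :=
  decompose_of_mem_ne ℳ h hne

include 𝒜 in
theorem comp_smul_of_mem (n : ℕ) {a : ℕ} {s : S} (hs : s ∈ 𝒜 a) (m : M) :
    comp ℳ n (s • m) = if a ≤ n then s • comp ℳ (n - a) m else 0 := by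
  induction m using DirectSum.Decomposition.inductionOn ℳ with
  | zero => simp
  | @homogeneous j m =>
    have hm : s • (m : M) ∈ ℳ (a + j) := SetLike.GradedSMul.smul_mem hs m.2
    by_cases h : a + j = n
    · rw [← h, comp_of_mem ℳ hm, if_pos (by omega), show a + j - a = j by omega, comp_of_mem ℳ m.2]
    · rw [comp_of_mem_ne ℳ hm h]
      split_ifs with h2
      · rw [comp_of_mem_ne ℳ m.2 (by omega), smul_zero]
      · rfl
  | add x y hx hy =>
    rw [smul_add, map_add, hx, hy]
    split_ifs with h2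
    · rw [map_add, smul_add]
    · rw [add_zero]

/-- If all components lie in a submodule, so does the element. -/
theorem mem_of_comp {N : Submodule S M} {m : M} (h : ∀ n, comp ℳ n m ∈ N) : m ∈ N := by
  classical
  rw [← sum_support_decompose ℳ m]
  exact Submodule.sum_mem _ fun n _ => h n

include 𝒜 in
theorem comp_smul_expand (n : ℕ) (s : S) (m : M) :
    comp ℳ n (s • m) =
      ∑ a ∈ Finset.range (n + 1), (decompose 𝒜 s a : S) • comp ℳ (n - a) m := by
  induction s using DirectSum.Decomposition.inductionOn 𝒜 with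
  | zero => simp
  | @homogeneous b s =>
    rw [comp_smul_of_mem 𝒜 ℳ n s.2]
    split_ifs with hb
    · rw [Finset.sum_eq_single b]
      · rw [decompose_of_mem_same 𝒜 s.2]
      · intro c _ hc
        rw [decompose_of_mem_ne 𝒜 s.2 (Ne.symm hc), zero_smul]
      · intro h
        exact absurd (Finset.mem_range.mpr (by omega)) h
    · refine (Finset.sum_eq_zero fun c hc => ?_).symm
      rw [decompose_of_mem_ne 𝒜 s.2 (by have := Finset.mem_range.mp hc; omega), zero_smul]
  | add x y hx hy =>
    rw [add_smul, map_add, hx, hy, ← Finset.sum_add_distrib]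
    refine Finset.sum_congr rfl fun a _ => ?_
    rw [decompose_add, DirectSum.add_apply, Submodule.coe_add, add_smul]

include 𝒜 in
theorem decompose_zero_of_mem_irrelevant {s : S} (hs : s ∈ (HomogeneousIdeal.irrelevant 𝒜).toIdeal) :
    (decompose 𝒜 s 0 : S) = 0 := by
  have := (HomogeneousIdeal.mem_irrelevant_iff 𝒜 s).mp hs
  simpa [GradedRing.proj_apply] using this

end Module

section Ring

variable {R S : Type*} [CommRing R] [CommRing S] [Algebra R S] {𝒜 : ℕ → Submodule R S} [GradedAlgebra 𝒜]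

theorem exists_homogeneous_notMem (J : HomogeneousIdeal 𝒜) {P : Ideal S} (h : ¬ J.toIdeal ≤ P) :
    ∃ (d : ℕ) (y : S), y ∈ 𝒜 d ∧ y ∈ J.toIdeal ∧ y ∉ P := by
  by_contra hne
  push Not at hne
  refine h fun x hx => ?_
  classical
  rw [← sum_support_decompose 𝒜 x]
  exact Ideal.sum_mem _ fun i _ => hne i _ (decompose 𝒜 x i).2 (J.isHomogeneous i hx)

end Ring

end Groth.Calg5.Graded
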