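import Groth.Agent.FlatMorOne.LocalCriterion
import Mathlib.RingTheory.AdicCompletion.Basic
import Mathlib.RingTheory.Localization.BaseChange
import Mathlib.RingTheory.Ideal.AssociatedPrime.Basic

/-!
Flatness of ideally separated modules from a filtration of the ring whose graded pieces are
detected at finitely many primes.
-/

set_option autoImplicit false
universe u

open TensorProduct

namespace Groth.Calg5.IdealSepFlat

variable {A : Type u} [CommRing A] {M : Type u} [AddCommGroup M] [Module A M]

/-- Tensoring an injection of modules killed by `J` with `M`, when `M/JM` is flat over `A/J`. -/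
theorem lTensor_injective_of_killed (J : Ideal A) [Module.Flat (A ⧸ J) ((A ⧸ J) ⊗[A] M)]
    {P Q : Type u} [AddCommGroup P] [Module A P] [AddCommGroup Q] [Module A Q]
    (hP : ∀ a ∈ J, ∀ x : P, a • x = 0) (hQ : ∀ a ∈ J, ∀ x : Q, a • x = 0)
    (f : P →ₗ[A] Q) (hf : Function.Injective f) : Function.Injective (f.lTensor M) := by
  let : Module (A ⧸ J) P := Module.IsTorsionBySet.module (I := J) fun x a => hP a a.2 x
  let : Module (A ⧸ J) Q := Module.IsTorsionBySet.module (I := J) fun x a => hQ a a.2 x
  have : IsScalarTower A (A ⧸ J) P := ⟨fun r c x => by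
    obtain ⟨c, rfl⟩ := Ideal.Quotient.mk_surjective c
    change Ideal.Quotient.mk J (r * c) • x = _
    exact (mul_smul r c x)⟩
  have : IsScalarTower A (A ⧸ J) Q := ⟨fun r c x => by
    obtain ⟨c, rfl⟩ := Ideal.Quotient.mk_surjective c
    change Ideal.Quotient.mk J (r * c) • x = _
    exact (mul_smul r c x)⟩
  let f' : P →ₗ[A ⧸ J] Q :=
    { toFun := f
      map_add' := map_add f
      map_smul' := fun c x => by
        obtain ⟨c, rfl⟩ := Ideal.Quotient.mk_surjective c
        exact map_smul f c x }
  rw [LinearMap.lTensor_inj_iff_rTensor_inj]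
  exact (Groth.FlatMorOne.rTensor_baseChange_injective_iff (R := A) (M := M) f').1
    (Module.Flat.rTensor_preserves_injective_linearMap f' hf)

/-- The graded pieces stay submodules after `⊗ M`. -/
theorem lTensor_injective_graded (J : Ideal A) [Module.Flat (A ⧸ J) ((A ⧸ J) ⊗[A] M)]
    {ι : Type} [Finite ι] (p : ι → Ideal A) [∀ i, (p i).IsPrime]
    [∀ i, Module.Flat A (LocalizedModule (p i).primeCompl M)]
    {G Q : Type u} [AddCommGroup G] [Module A G] [AddCommGroup Q] [Module A Q]
    (hG : ∀ a ∈ J, ∀ x : G, a • x = 0)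
    (hdet : ∀ x : G, (∀ i, ∃ s ∉ p i, s • x = 0) → x = 0)
    (f : G →ₗ[A] Q) (hf : Function.Injective f) : Function.Injective (f.lTensor M) := by
  classical
  cases nonempty_fintype ι
  let φ : G →ₗ[A] ∀ i, LocalizedModule (p i).primeCompl G :=
    LinearMap.pi fun i => LocalizedModule.mkLinearMap (p i).primeCompl G
  have hφ : Function.Injective φ := (injective_iff_map_eq_zero _).2 fun x hx => hdet x fun i => by
    obtain ⟨s, hs⟩ := (IsLocalizedModule.eq_zero_iff (p i).primeCompl
      (LocalizedModule.mkLinearMap (p i).primeCompl G)).1 (congrFun hx i)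
    exact ⟨s, s.2, hs⟩
  have hkill : ∀ a ∈ J, ∀ x : ∀ i, LocalizedModule (p i).primeCompl G, a • x = 0 := by
    intro a ha x
    funext i
    obtain ⟨⟨y, s⟩, hy⟩ := IsLocalizedModule.mk'_surjective (p i).primeCompl
      (LocalizedModule.mkLinearMap (p i).primeCompl G) (x i)
    rw [Pi.smul_apply, ← hy]
    change a • IsLocalizedModule.mk' _ y s = 0
    rw [← IsLocalizedModule.mk'_smul, hG a ha y, IsLocalizedModule.mk'_zero]
  rw [injective_iff_map_eq_zero]
  intro z hz
  apply lTensor_injective_of_killed J hG hkill φ hφ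
  rw [map_zero]
  apply (TensorProduct.piRight A A M fun i => LocalizedModule (p i).primeCompl G).injective
  rw [map_zero]
  funext i
  let g := LocalizedModule.mkLinearMap (p i).primeCompl M
  let gG := AlgebraTensorModule.rTensor A G g
  have h1 : gG z = 0 := by
    apply Module.Flat.lTensor_preserves_injective_linearMap
      (M := LocalizedModule (p i).primeCompl M) f hf
    rw [map_zero]
    have : ∀ w : M ⊗[A] G, f.lTensor _ (gG w) =
        AlgebraTensorModule.rTensor A Q g (f.lTensor M w) := by
      intro w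
      induction w using TensorProduct.induction_on with
      | zero => simp
      | tmul m x => simp [gG]
      | add a b ha hb => simp only [map_add, ha, hb]
    rw [this, hz, map_zero]
  obtain ⟨s, hs⟩ := (IsLocalizedModule.eq_zero_iff (p i).primeCompl gG).1 h1
  let mG := LocalizedModule.mkLinearMap (p i).primeCompl G
  have h2 : ∀ w : M ⊗[A] G,
      TensorProduct.piRight A A M (fun i => LocalizedModule (p i).primeCompl G)
        (φ.lTensor M w) i = mG.lTensor M w := by
    intro w
    induction w using TensorProduct.induction_on with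
    | zero => simp
    | tmul m x => simp [φ, mG]
    | add a b ha hb => rw [map_add, map_add, Pi.add_apply, ha, hb, map_add]
  rw [h2]
  have h3 : (s : A) • mG.lTensor M z = 0 := by
    rw [← map_smul]
    exact (congrArg _ hs).trans (map_zero _)
  have hu : IsUnit (algebraMap A (Module.End A (LocalizedModule (p i).primeCompl G)) s) :=
    IsLocalizedModule.map_units mG s
  obtain ⟨e, he⟩ := hu
  have h4 : ∀ w : M ⊗[A] LocalizedModule (p i).primeCompl G,
      (↑e⁻¹ : Module.End A (LocalizedModule (p i).primeCompl G)).lTensor M ((s : A) • w) = w := by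
    intro w
    induction w using TensorProduct.induction_on with
    | zero => simp
    | tmul m x =>
      rw [← tmul_smul, LinearMap.lTensor_tmul]
      congr 1
      have : (↑e : Module.End A (LocalizedModule (p i).primeCompl G)) x = (s : A) • x := by
        rw [he]; rfl
      rw [← this]
      exact LinearMap.congr_fun e.inv_mul x
    | add a b ha hb => rw [smul_add, map_add, ha, hb]
  exact (h4 _).symm.trans ((congrArg _ h3).trans (map_zero _))

theorem mem_range_ker (J : Ideal A) [Module.Flat (A ⧸ J) ((A ⧸ J) ⊗[A] M)]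
    {P G : Type u} [AddCommGroup P] [Module A P] [AddCommGroup G] [Module A G]
    (hG : ∀ a ∈ J, ∀ x : G, a • x = 0) (φ : P →ₗ[A] G) (w : M ⊗[A] P) (h : φ.lTensor M w = 0) :
    ∃ v, (LinearMap.ker φ).subtype.lTensor M v = w := by
  have hR : ∀ a ∈ J, ∀ x : LinearMap.range φ, a • x = 0 := fun a ha x => Subtype.ext (hG a ha x.1)
  have hinj := lTensor_injective_of_killed (M := M) J hR hG (LinearMap.range φ).subtype
    Subtype.val_injective
  have hex : Function.Exact (LinearMap.ker φ).subtype φ.rangeRestrict := by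
    intro x
    constructor
    · intro hx
      exact ⟨⟨x, congrArg Subtype.val hx⟩, rfl⟩
    · rintro ⟨y, rfl⟩
      exact Subtype.ext y.2
  refine (lTensor_exact M hex φ.surjective_rangeRestrict w).1 (hinj ?_)
  rw [map_zero, ← LinearMap.lTensor_comp_apply]
  exact h

/-- Flatness criterion: a filtration cofinal with the `J`-adic one whose graded pieces are detected
at finitely many primes where `M` is flat. -/
theorem flat_of_filtration [IsNoetherianRing A] (J : Ideal A)
    (hsep : ∀ a : Ideal A, IsHausdorff J (↥a ⊗[A] M))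
    [Module.Flat (A ⧸ J) ((A ⧸ J) ⊗[A] M)]
    {ι : Type} [Finite ι] (p : ι → Ideal A) [∀ i, (p i).IsPrime]
    [∀ i, Module.Flat A (LocalizedModule (p i).primeCompl M)]
    (I : ℕ → Ideal A) (hI0 : I 0 = ⊤) (hanti : ∀ k, I (k + 1) ≤ I k)
    (hJ : ∀ k, J * I k ≤ I (k + 1)) (hcof : ∀ n, ∃ k, I k ≤ J ^ n)
    (hdet : ∀ k, ∀ x ∈ I k, (∀ i, ∃ s ∉ p i, s * x ∈ I (k + 1)) → x ∈ I (k + 1)) :
    Module.Flat A M := by
  rw [Module.Flat.iff_lTensor_injective]
  intro X _
  rw [injective_iff_map_eq_zero]
  intro z hz
  have hanti' : ∀ {m n : ℕ}, m ≤ n → I n ≤ I m := fun h => antitone_nat_of_succ_le hanti h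
  have key : ∀ k, ∃ w : M ⊗[A] ↥(X ⊓ I k),
      (Submodule.inclusion (inf_le_left : X ⊓ I k ≤ X)).lTensor M w = z := by
    intro k
    induction k with
    | zero =>
      have hle : X ≤ X ⊓ I 0 := by simp [hI0]
      refine ⟨(Submodule.inclusion hle).lTensor M z, ?_⟩
      rw [← LinearMap.lTensor_comp_apply]
      exact LinearMap.congr_fun (LinearMap.lTensor_id M _) z
    | succ k ih =>
      obtain ⟨w, hw⟩ := ih
      let G : Submodule A (A ⧸ I (k + 1)) := Submodule.map (I (k + 1)).mkQ (I k)
      let φ : ↥(X ⊓ I k) →ₗ[A] G := ((I (k + 1)).mkQ.comp (X ⊓ I k).subtype).codRestrict _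
        fun x => ⟨x, x.2.2, by rfl⟩
      have hGkill : ∀ a ∈ J, ∀ x : G, a • x = 0 := by
        rintro a ha ⟨_, y, hy, rfl⟩
        refine Subtype.ext ?_
        show a • (I (k + 1)).mkQ y = 0
        rw [← map_smul, Submodule.mkQ_apply, Submodule.Quotient.mk_eq_zero]
        exact hJ k (Ideal.mul_mem_mul ha hy)
      have hGdet : ∀ x : G, (∀ i, ∃ s ∉ p i, s • x = 0) → x = 0 := by
        rintro ⟨_, y, hy, rfl⟩ h
        refine Subtype.ext ((Submodule.Quotient.mk_eq_zero _).2 (hdet k y hy fun i => ?_))
        obtain ⟨s, hs, hsx⟩ := h i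
        exact ⟨s, hs, (Submodule.Quotient.mk_eq_zero (I (k + 1))).1 (congrArg Subtype.val hsx)⟩
      have hinj := lTensor_injective_graded (M := M) J p hGkill hGdet G.subtype Subtype.val_injective
      have h0 : φ.lTensor M w = 0 := by
        apply hinj
        rw [map_zero, ← LinearMap.lTensor_comp_apply]
        have e : G.subtype ∘ₗ φ =
            ((I (k + 1)).mkQ ∘ₗ X.subtype) ∘ₗ Submodule.inclusion inf_le_left := rfl
        rw [e, LinearMap.lTensor_comp_apply, hw, LinearMap.lTensor_comp_apply, hz, map_zero]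
      obtain ⟨v, hv⟩ := mem_range_ker J hGkill φ w h0
      have hle : ∀ x : LinearMap.ker φ, ((x : ↥(X ⊓ I k)) : A) ∈ X ⊓ I (k + 1) := fun x =>
        ⟨x.1.2.1, (Submodule.Quotient.mk_eq_zero (I (k + 1))).1
          (congrArg (fun t : G => (t : A ⧸ I (k + 1))) (LinearMap.mem_ker.1 x.2))⟩
      let θ : LinearMap.ker φ →ₗ[A] ↥(X ⊓ I (k + 1)) :=
        ((X ⊓ I k).subtype.comp (LinearMap.ker φ).subtype).codRestrict _ hle
      refine ⟨θ.lTensor M v, ?_⟩
      rw [← hw, ← hv, ← LinearMap.lTensor_comp_apply, ← LinearMap.lTensor_comp_apply]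
      rfl
  have hmem : ∀ n, z ∈ J ^ n • (⊤ : Submodule A (M ⊗[A] X)) := by
    intro n
    obtain ⟨k₀, hk₀⟩ := Ideal.exists_pow_inf_eq_pow_smul (M := A) J X
    obtain ⟨k, hk⟩ := hcof (n + k₀)
    obtain ⟨w, hw⟩ := key k
    rw [← hw]
    clear hw
    have hsub : ∀ x : ↥(X ⊓ I k), Submodule.inclusion (inf_le_left : X ⊓ I k ≤ X) x ∈
        J ^ n • (⊤ : Submodule A X) := by
      intro x
      refine (Submodule.mem_smul_top_iff (J ^ n) X _).2 ?_
      have h1 : (x : A) ∈ J ^ (n + k₀) • (⊤ : Submodule A A) ⊓ X := by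
        rw [smul_eq_mul, Ideal.mul_top]; exact ⟨hk x.2.2, x.2.1⟩
      rw [hk₀ (n + k₀) (by omega), Nat.add_sub_cancel] at h1
      exact Submodule.smul_mono le_rfl inf_le_right h1
    induction w using TensorProduct.induction_on with
    | zero => simp
    | tmul m x =>
      rw [LinearMap.lTensor_tmul]
      refine Submodule.smul_induction_on (p := fun y => m ⊗ₜ[A] y ∈ _) (hsub x)
        (fun a ha y _ => ?_) (fun y y' hy hy' => ?_)
      · rw [tmul_smul]; exact Submodule.smul_mem_smul ha trivial
      · rw [tmul_add]; exact add_mem hy hy'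
    | add a b ha hb => rw [map_add]; exact add_mem ha hb
  apply (TensorProduct.comm A M X).injective
  rw [map_zero]
  refine (hsep X).haus _ fun n => ?_
  rw [SModEq.zero]
  have := Submodule.mem_map_of_mem (f := (TensorProduct.comm A M X).toLinearMap) (hmem n)
  rwa [Submodule.map_smul'', Submodule.map_top, LinearEquiv.range] at this

end Groth.Calg5.IdealSepFlat
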