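import Mathlib
import Groth.Agent.Matlis.Prime

/-!
Injective modules over Noetherian rings as filtered colimits of finite modules over Artinian algebras.
-/

set_option autoImplicit false
universe u

namespace Groth.Calg5.InjColimit

open CategoryTheory CategoryTheory.Limits

variable {A : Type u} [CommRing A]

theorem eq_of_injective_maps {p q : Ideal A} [p.IsPrime] [q.IsPrime] {E : Type u} [AddCommGroup E]
    [Module A E] {f : (A ⧸ p) →ₗ[A] E} (hf : InjHull.IsInjectiveHull f) {g : (A ⧸ q) →ₗ[A] E}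
    (hg : Function.Injective g) : q = p := by
  have hne : LinearMap.range g ≠ ⊥ := by
    intro h
    rw [LinearMap.range_eq_bot] at h
    exact one_ne_zero (hg (a₁ := 1) (a₂ := 0) (by simp [h]))
  obtain ⟨z, hz, hz0⟩ := Submodule.exists_mem_ne_zero_of_ne_bot (hf.toIsEssentialInj.essential _ hne)
  obtain ⟨⟨a, rfl⟩, ⟨b, hb⟩⟩ : z ∈ LinearMap.range g ∧ z ∈ LinearMap.range f :=
    Submodule.mem_inf.1 hz
  have key : ∀ {I : Ideal A} [I.IsPrime] (h : (A ⧸ I) →ₗ[A] E), Function.Injective h → ∀ c, h c ≠ 0 →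
      ∀ r : A, r • h c = 0 ↔ r ∈ I := by
    intro I _ h hh c hc r
    rw [← map_smul, map_eq_zero_iff h hh, Algebra.smul_def, mul_eq_zero]
    refine ⟨fun h' => ?_, fun h' => Or.inl (Ideal.Quotient.eq_zero_iff_mem.2 h')⟩
    rcases h' with h' | rfl
    · exact Ideal.Quotient.eq_zero_iff_mem.1 h'
    · exact absurd (map_zero h) hc
  ext r
  rw [← key g hg a hz0 r, ← hb, key f hf.toIsEssentialInj.injective b (hb ▸ hz0) r]

theorem exists_pow_smul_eq_zero [IsNoetherianRing A] {p : Ideal A} [p.IsPrime] {E : Type u} [AddCommGroup E]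
    [Module A E] {f : (A ⧸ p) →ₗ[A] E} (hf : InjHull.IsInjectiveHull f) (x : E) :
    ∃ n : ℕ, ∀ a ∈ p ^ n, a • x = 0 := by
  let N := Submodule.span A {x}
  have h1 : p ≤ (Module.annihilator A N).radical := by
    rw [← Ideal.sInf_minimalPrimes]
    refine le_sInf fun q hq => ?_
    haveI := hq.isPrime
    obtain ⟨-, g, hg⟩ := (isAssociatedPrime_iff_exists_injective_linearMap q E).1
      (IsAssociatedPrime.map_of_injective N.subtype
        (Module.associatedPrimes.minimalPrimes_annihilator_subset_associatedPrimes A _ hq) N.subtype_injective)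
    exact (eq_of_injective_maps hf hg).ge
  obtain ⟨n, hn⟩ := Ideal.exists_pow_le_of_le_radical_of_fg h1 (IsNoetherian.noetherian p)
  exact ⟨n, fun a ha => congrArg Subtype.val
    (Module.mem_annihilator.1 (hn ha) ⟨x, Submodule.mem_span_singleton_self x⟩)⟩

theorem isColimit_exists {J : Type u} [AddCommGroup J] [Module A J] {ι : Type u} [Preorder ι]
    [IsDirectedOrder ι] [Nonempty ι] (N : ι → Submodule A J) (hN : Monotone N)
    (hcov : ∀ x, ∃ i, x ∈ N i) :
    ∃ (D : ι ⥤ ModuleCat.{u} A) (c : Cocone D) (_ : IsColimit c),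
      Nonempty (c.pt ≅ ModuleCat.of A J) ∧ ∀ i, Nonempty (D.obj i ≃ₗ[A] N i) := by
  classical
  let G : ι → Type u := fun i => N i
  let f : ∀ i j, i ≤ j → G i →ₗ[A] G j := fun i j h => Submodule.inclusion (hN h)
  haveI : DirectedSystem G fun i j h => f i j h :=
    { map_self := fun i x => rfl
      map_map := fun k j i _ _ x => rfl }
  let φ : Module.DirectLimit G f →ₗ[A] J :=
    Module.DirectLimit.lift A ι G f (fun i => (N i).subtype) fun i j h x => rfl
  have hφ : Function.Bijective φ := by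
    refine ⟨(injective_iff_map_eq_zero φ).2 fun z hz => ?_, fun x => ?_⟩
    · obtain ⟨i, y, rfl⟩ := Module.DirectLimit.exists_of z
      rw [Module.DirectLimit.lift_of] at hz
      rw [show y = 0 from Subtype.ext hz, map_zero]
    · obtain ⟨i, hi⟩ := hcov x
      exact ⟨Module.DirectLimit.of A ι G f i ⟨x, hi⟩, Module.DirectLimit.lift_of _ _ _⟩
  exact ⟨ModuleCat.directLimitDiagram G f, ModuleCat.directLimitCocone G f,
    ModuleCat.directLimitIsColimit G f, ⟨(LinearEquiv.ofBijective φ hφ).toModuleIso⟩,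
    fun i => ⟨LinearEquiv.refl A (N i)⟩⟩

theorem isArtinianRing_quotient_pow (R : Type u) [CommRing R] [IsNoetherianRing R] [IsLocalRing R] (n : ℕ) :
    IsArtinianRing (R ⧸ IsLocalRing.maximalIdeal R ^ n) := by
  rw [isArtinianRing_iff_krullDimLE_zero, Ring.krullDimLE_zero_iff]
  intro Q hQ
  have h1 : IsLocalRing.maximalIdeal R ^ n ≤ Q.comap (Ideal.Quotient.mk _) :=
    le_of_eq_of_le Ideal.mk_ker.symm (Ideal.comap_mono bot_le)
  have h2 : Q.comap (Ideal.Quotient.mk (IsLocalRing.maximalIdeal R ^ n)) = IsLocalRing.maximalIdeal R :=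
    le_antisymm (IsLocalRing.le_maximalIdeal (Ideal.IsPrime.ne_top inferInstance)) ((hQ.comap _).le_of_pow_le h1)
  haveI : (Q.comap (Ideal.Quotient.mk (IsLocalRing.maximalIdeal R ^ n))).IsMaximal := by
    rw [h2]; infer_instance
  rw [← Ideal.map_comap_of_surjective _ Ideal.Quotient.mk_surjective Q]
  exact (Ideal.map_eq_top_or_isMaximal_of_surjective _ Ideal.Quotient.mk_surjective inferInstance).resolve_left
    (by rw [Ideal.map_comap_of_surjective _ Ideal.Quotient.mk_surjective Q]; exact hQ.ne_top)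

theorem aux (A : Type u) [CommRing A] [IsNoetherianRing A]
    (J : Type u) [AddCommGroup J] [Module A J] (κ : Type u) [DecidableEq κ] (F : κ → Type u)
    [∀ i, AddCommGroup (F i)] [∀ i, Module A (F i)] (e₀ : DirectSum κ F ≃ₗ[A] J)
    (p : κ → PrimeSpectrum A) (f : ∀ i, (A ⧸ (p i).asIdeal) →ₗ[A] F i)
    (hf : ∀ i, InjHull.IsInjectiveHull (f i)) :
    ∃ (ι : Type u) (_ : SmallCategory ι) (_ : IsFiltered ι) (D : ι ⥤ ModuleCat.{u} A)
      (c : Cocone D) (_ : IsColimit c), Nonempty (c.pt ≅ ModuleCat.of A J) ∧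
      ∀ i : ι, ∃ (B : Type u) (_ : CommRing B) (_ : Algebra A B) (_ : IsArtinianRing B)
        (_ : Module B (D.obj i)) (_ : IsScalarTower A B (D.obj i)), Module.Finite B (D.obj i) := by
  classical
  let mkL : ∀ i, F i →ₗ[A] LocalizedModule (p i).asIdeal.primeCompl (F i) := fun i => LocalizedModule.mkLinearMap _ _
  have hbij : ∀ i, Function.Bijective (mkL i) := by
    intro i
    refine ⟨fun x y h => ?_, fun z => ?_⟩
    · obtain ⟨u, hu⟩ := LocalizedModule.mk_eq.1 h
      have hu' : (u : A) • x = (u : A) • y := by simpa [Submonoid.smul_def] using hu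
      exact (GrothMatlis.smul_bijective_hull _ (hf i) u.2).1 hu'
    · induction z using LocalizedModule.induction_on with
      | h m s =>
        obtain ⟨y, hy⟩ := (GrothMatlis.smul_bijective_hull _ (hf i) s.2).2 m
        refine ⟨y, LocalizedModule.mk_eq.2 ⟨1, ?_⟩⟩
        simpa [Submonoid.smul_def] using hy
  let L := DirectSum κ (fun i => LocalizedModule (p i).asIdeal.primeCompl (F i))
  let e : L ≃ₗ[A] J :=
    (DFinsupp.mapRange.linearEquiv fun i => (LinearEquiv.ofBijective (mkL i) (hbij i)).symm).trans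
      e₀
  let G : Finset L → ∀ i, Submodule (Localization.AtPrime (p i).asIdeal) (LocalizedModule (p i).asIdeal.primeCompl (F i)) := fun s i =>
    Submodule.span _ ((fun y : L => y i) '' (s : Set L))
  let N0 : Finset L → Submodule A L := fun s =>
    ⨅ i, ((G s i).restrictScalars A).comap (DirectSum.component A κ (fun i => LocalizedModule (p i).asIdeal.primeCompl (F i)) i)
  have hN0 : ∀ {s : Finset L} {x : L}, x ∈ N0 s ↔ ∀ i, x i ∈ G s i := fun {s x} => by
    simp only [N0, Submodule.mem_iInf, Submodule.mem_comap, Submodule.restrictScalars_mem]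
    rfl
  let N : Finset L → Submodule A J := fun s => (N0 s).map e.toLinearMap
  have hmono : Monotone N := fun s t hst => Submodule.map_mono fun x hx => hN0.2 fun i =>
    Submodule.span_mono (Set.image_mono (Finset.coe_subset.2 hst)) (hN0.1 hx i)
  have hcov : ∀ x, ∃ s, x ∈ N s := fun x => ⟨{e.symm x}, e.symm x,
    hN0.2 fun i => Submodule.subset_span ⟨e.symm x, by simp, rfl⟩, e.apply_symm_apply x⟩
  obtain ⟨D, c, hc, hpt, hD⟩ := isColimit_exists N hmono hcov
  refine ⟨Finset L, inferInstance, inferInstance, D, c, hc, hpt, fun s => ?_⟩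
  obtain ⟨eD⟩ := hD s
  let T : Finset κ := s.biUnion fun y => DFinsupp.support y
  have hT : ∀ i, i ∉ T → ∀ g ∈ G s i, g = 0 := by
    intro i hi g hg
    refine Submodule.span_induction ?_ rfl (fun a b _ _ ha hb => by rw [ha, hb, add_zero])
      (fun r a _ ha => by rw [ha, smul_zero]) hg
    rintro _ ⟨y, hy, rfl⟩
    by_contra h
    exact hi (Finset.mem_biUnion.2 ⟨y, hy, DFinsupp.mem_support_iff.2 h⟩)
  have hkill : ∀ (i : κ) (x : LocalizedModule (p i).asIdeal.primeCompl (F i)), ∃ n : ℕ, ∀ a ∈ (p i).asIdeal ^ n, a • x = 0 := by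
    intro i x
    obtain ⟨y, rfl⟩ := (hbij i).2 x
    obtain ⟨n, hn⟩ := exists_pow_smul_eq_zero (hf i) y
    exact ⟨n, fun a ha => by rw [← map_smul, hn a ha, map_zero]⟩
  choose n hn using hkill
  let m : T → ℕ := fun i => s.sup fun y => n i (y i)
  have hm : ∀ (i : T), ∀ a ∈ IsLocalRing.maximalIdeal (Localization.AtPrime (p i).asIdeal) ^ (m i),
      ∀ x : G s i, a • x = 0 := by
    intro i a ha x
    rw [← Localization.AtPrime.map_eq_maximalIdeal, ← Ideal.map_pow] at ha
    refine Submodule.span_induction (p := fun a _ => a • x = 0) ?_ (zero_smul _ _)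
      (fun a b _ _ h1 h2 => by rw [add_smul, h1, h2, add_zero])
      (fun r a _ h => by rw [smul_eq_mul, mul_smul, h, smul_zero]) ha
    rintro _ ⟨b, hb, rfl⟩
    rw [algebraMap_smul]
    apply Subtype.ext
    obtain ⟨x, hx⟩ := x
    show b • x = 0
    refine Submodule.span_induction ?_ (smul_zero _) (fun u v _ _ h1 h2 => by rw [smul_add, h1, h2, add_zero])
      (fun r u _ h => by rw [smul_comm, h, smul_zero]) hx
    rintro _ ⟨y, hy, rfl⟩
    exact hn _ _ b (Ideal.pow_le_pow_right (Finset.le_sup (f := fun y => n i (y i)) hy) hb)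
  let Bi : T → Type u := fun i => Localization.AtPrime (p i).asIdeal ⧸
    IsLocalRing.maximalIdeal (Localization.AtPrime (p i).asIdeal) ^ (m i)
  haveI : ∀ i : T, IsNoetherianRing (Localization.AtPrime (p i).asIdeal) := fun i =>
    IsLocalization.isNoetherianRing (p i).asIdeal.primeCompl _ inferInstance
  haveI : ∀ i, IsArtinianRing (Bi i) := fun i => isArtinianRing_quotient_pow _ _
  haveI ht : ∀ i : T, Module.IsTorsionBySet (Localization.AtPrime (p i).asIdeal) (G s i)
      ((IsLocalRing.maximalIdeal (Localization.AtPrime (p i).asIdeal) ^ (m i) : Ideal _) : Set _) :=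
    fun i x a => hm i a a.2 x
  letI : ∀ i : T, Module (Bi i) (G s i) := fun i => by exact (ht i).module
  let π : N0 s →ₗ[A] ∀ i : T, G s i :=
    LinearMap.pi fun i =>
      LinearMap.codRestrict ((G s i).restrictScalars A) ((DirectSum.component A κ (fun i => LocalizedModule (p i).asIdeal.primeCompl (F i)) i).comp (N0 s).subtype)
        fun x => hN0.1 x.2 i
  have hπ : Function.Bijective π := by
    refine ⟨fun x x' hx => ?_, fun g => ?_⟩
    · refine Subtype.ext (DFinsupp.ext fun i => ?_)
      by_cases hi : i ∈ T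
      · exact congrArg (fun v => (v ⟨i, hi⟩ : G s i).1) hx
      · exact (hT i hi _ (hN0.1 x.2 i)).trans (hT i hi _ (hN0.1 x'.2 i)).symm
    · let x : L := DFinsupp.mk T fun i => (g ⟨i.1, i.2⟩).1
      refine ⟨⟨x, hN0.2 fun i => ?_⟩, funext fun i => Subtype.ext ?_⟩
      · show DFinsupp.mk (β := fun i => LocalizedModule (p i).asIdeal.primeCompl (F i)) T _ i ∈ _
        rw [DFinsupp.mk_apply]
        split_ifs with hi
        exacts [(g ⟨i, hi⟩).2, zero_mem _]
      · show DFinsupp.mk (β := fun i => LocalizedModule (p i).asIdeal.primeCompl (F i)) T (fun i => (g ⟨i.1, i.2⟩).1) i.1 = _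
        rw [DFinsupp.mk_apply, dif_pos i.2]
  haveI : ∀ i : T, IsScalarTower A (Bi i) (G s i) := fun i => ⟨fun a b x => by
    obtain ⟨b, rfl⟩ := Ideal.Quotient.mk_surjective b
    show (a • b) • x = a • (b • x)
    exact smul_assoc a b x⟩
  let E : D.obj s ≃ₗ[A] ∀ i : T, G s i :=
    eD.trans ((e.submoduleMap (N0 s)).symm.trans (LinearEquiv.ofBijective π hπ))
  letI : Module (∀ i, Bi i) (D.obj s) := E.toAddEquiv.module (∀ i, Bi i)
  haveI : IsScalarTower A (∀ i, Bi i) (D.obj s) := ⟨fun a b x => E.injective (by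
    show E (E.symm ((a • b) • E x)) = E (a • E.symm (b • E x))
    rw [E.apply_symm_apply, map_smul, E.apply_symm_apply]
    funext i
    exact smul_assoc a (b i) (E x i))⟩
  refine ⟨∀ i, Bi i, inferInstance, inferInstance, inferInstance, inferInstance, inferInstance, ?_⟩
  haveI : Module.Finite (∀ i, Bi i) (∀ i : T, G s i) := by
    let v : s → ∀ i : T, G s i := fun y i => ⟨(y : L) i, Submodule.subset_span ⟨y, y.2, rfl⟩⟩
    refine ⟨⟨Finset.univ.image v, eq_top_iff.2 fun g _ => ?_⟩⟩
    have hg : ∀ i : T, ∃ c : L → Localization.AtPrime (p i).asIdeal, ∑ y : s, c y • (v y i) = g i := by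
      intro i
      have h1 : (g i : LocalizedModule (p i).asIdeal.primeCompl (F i)) ∈ Submodule.span (Localization.AtPrime (p i).asIdeal)
          (Set.range fun y : s => (y : L) i) := by
        have h := (g i).2
        rwa [show (Set.range fun y : s => (y : L) i) = (fun y : L => y i) '' (s : Set L) from by
          ext z; simp]
      obtain ⟨c, hc⟩ := Submodule.mem_span_range_iff_exists_fun _ |>.1 h1
      refine ⟨fun y => if h : y ∈ s then c ⟨y, h⟩ else 0, Subtype.ext ?_⟩
      rw [AddSubmonoidClass.coe_finsetSum, ← hc]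
      refine Finset.sum_congr rfl fun y _ => ?_
      dsimp only
      rw [dif_pos y.2]
      rfl
    choose c hc using hg
    rw [Finset.coe_image, Finset.coe_univ, Set.image_univ, Submodule.mem_span_range_iff_exists_fun]
    refine ⟨fun y i => Ideal.Quotient.mk _ (c i y), funext fun i => ?_⟩
    rw [Finset.sum_apply, ← hc i]
    rfl
  exact Module.Finite.equiv (M := ∀ i : T, G s i)
    ({ E.symm.toAddEquiv with
        map_smul' := fun b x => by
          show E.symm (b • x) = E.symm (b • E (E.symm x))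
          rw [E.apply_symm_apply] } : (∀ i : T, G s i) ≃ₗ[∀ i, Bi i] D.obj s)


theorem main (A : Type u) [CommRing A] [IsNoetherianRing A]
    (J : Type u) [AddCommGroup J] [Module A J] [Module.Injective A J] :
    ∃ (ι : Type u) (_ : SmallCategory ι) (_ : IsFiltered ι) (D : ι ⥤ ModuleCat.{u} A)
      (c : Cocone D) (_ : IsColimit c), Nonempty (c.pt ≅ ModuleCat.of A J) ∧
      ∀ i : ι, ∃ (B : Type u) (_ : CommRing B) (_ : Algebra A B) (_ : IsArtinianRing B)
        (_ : Module B (D.obj i)) (_ : IsScalarTower A B (D.obj i)), Module.Finite B (D.obj i) := by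
  classical
  obtain ⟨κ, F, hF, hFi⟩ := GrothMatlis.exists_decomposition (R := A) (E := J) inferInstance
  have hp : ∀ i, ∃ (p : PrimeSpectrum A) (f : (A ⧸ p.asIdeal) →ₗ[A] F i), InjHull.IsInjectiveHull f :=
    fun i => by
      obtain ⟨p, hp, f, hf⟩ := GrothMatlis.exists_prime_hull (hFi i).1 (hFi i).2
      exact ⟨⟨p, hp⟩, f, hf⟩
  choose p f hf using hp
  exact aux A J κ (fun i => F i) (LinearEquiv.ofBijective (DirectSum.coeLinearMap F) hF) p f hf

end Groth.Calg5.InjColimit
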