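import Mathlib

/-!
Kähler differentials of a separably generated field extension.
-/

namespace Groth.Calg5

open KaehlerDifferential TensorProduct

universe u v w

variable {k : Type u} [Field k] {F : Type v} [Field F] [Algebra k F] {ι : Type w} {x : ι → F}

theorem exists_kaehler_basis (hx : AlgebraicIndependent k x)
    [Algebra.IsSeparable (IntermediateField.adjoin k (Set.range x)) F] :
    ∃ b : Module.Basis ι F Ω[F⁄k], ∀ i, b i = D k F (x i) := by
  let E := IntermediateField.adjoin k (Set.range x)
  let P := MvPolynomial ι k
  let Q := FractionRing P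
  let e : Q ≃ₐ[k] E := hx.aevalEquivField
  let _ : Algebra P F := (MvPolynomial.aeval x).toRingHom.toAlgebra
  have : IsScalarTower k P F := .of_algebraMap_eq fun c => ((MvPolynomial.aeval x).commutes c).symm
  let _ : Algebra Q E := e.toAlgHom.toRingHom.toAlgebra
  let _ : Algebra Q F := ((algebraMap E F).comp (algebraMap Q E)).toAlgebra
  have : IsScalarTower Q E F := .of_algebraMap_eq fun _ => rfl
  have : IsScalarTower P Q F := .of_algebraMap_eq fun p =>
    (hx.aevalEquivField_algebraMap_apply_coe p).symm
  have : Algebra.FormallyEtale Q E :=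
    Algebra.FormallyEtale.of_equiv (AlgEquiv.ofBijective (Algebra.ofId Q E) e.bijective)
  have : Algebra.FormallyEtale E F := Algebra.FormallyEtale.of_isSeparable E F
  have : Algebra.FormallyEtale Q F := Algebra.FormallyEtale.comp Q E F
  have : Algebra.FormallyEtale P Q := Algebra.FormallyEtale.of_isLocalization (nonZeroDivisors P)
  have : Algebra.FormallyEtale P F := Algebra.FormallyEtale.comp P Q F
  have h := KaehlerDifferential.isBaseChange_of_formallyEtale k P F
  refine ⟨h.basis (KaehlerDifferential.mvPolynomialBasis k ι), fun i => ?_⟩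
  rw [IsBaseChange.basis_apply]
  have e1 : KaehlerDifferential.mvPolynomialBasis k ι i = D k P (MvPolynomial.X i) := by
    rw [← (KaehlerDifferential.mvPolynomialBasis k ι).repr.injective.eq_iff, Module.Basis.repr_self,
      KaehlerDifferential.mvPolynomialBasis_repr_D_X]
  rw [e1, KaehlerDifferential.map_D]
  show D k F (MvPolynomial.aeval x (MvPolynomial.X i)) = _
  rw [MvPolynomial.aeval_X]

theorem isSeparable_of_span_top (E : IntermediateField k F) [Algebra.EssFiniteType k F] (y : ι → F)
    (hy : ∀ i, y i ∈ E) (h : Submodule.span F (Set.range fun i => D k F (y i)) = ⊤) :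
    Algebra.IsSeparable E F := by
  have : Algebra.EssFiniteType E F := Algebra.EssFiniteType.of_comp k E F
  have : Subsingleton Ω[F⁄E] := by
    refine subsingleton_of_forall_eq 0 fun ω => ?_
    obtain ⟨ω, rfl⟩ := KaehlerDifferential.map_surjective k E F ω
    have hω : ω ∈ Submodule.span F (Set.range fun i => D k F (y i)) := h ▸ Submodule.mem_top
    induction hω using Submodule.span_induction with
    | mem z hz =>
      obtain ⟨i, rfl⟩ := hz
      rw [KaehlerDifferential.map_D]
      exact (D E F).map_algebraMap (⟨y i, hy i⟩ : E)
    | zero => simp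
    | add a b _ _ ha hb => rw [map_add, ha, hb, add_zero]
    | smul c a _ ha => rw [map_smul, ha, smul_zero]
  have : Algebra.FormallyUnramified E F := ⟨this⟩
  exact Algebra.FormallyUnramified.isSeparable E F

theorem exists_basis_of_perfectField [PerfectField k] [Algebra.EssFiniteType k F] :
    ∃ (s : Finset F) (b : Module.Basis s F Ω[F⁄k]), IsTranscendenceBasis k ((↑) : s → F) ∧
      ∀ i, b i = D k F i := by
  obtain ⟨s, hs, hsep⟩ := exists_isTranscendenceBasis_and_isSeparable_of_perfectField k F
  have e : Set.range ((↑) : s → F) = (s : Set F) := by ext; simp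
  have : Algebra.IsSeparable (IntermediateField.adjoin k (Set.range ((↑) : s → F))) F := by
    rw [e]; exact hsep
  obtain ⟨b, hb⟩ := exists_kaehler_basis (F := F) hs.1
  exact ⟨s, b, hs, hb⟩

end Groth.Calg5
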