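import Mathlib

/-!
An affine open immersion is locally a localization map.
-/

set_option autoImplicit false
set_option linter.style.haveILetI false

universe u

open AlgebraicGeometry CategoryTheory

namespace Groth.Calg5.OpenImmAway

theorem exists_awayMap_bijective {R S : Type u} [CommRing R] [CommRing S] (φ : R →+* S)
    (h : IsOpenImmersion (Spec.map (CommRingCat.ofHom φ))) (q : Ideal S) [q.IsPrime] :
    ∃ g : R, φ g ∉ q ∧ Function.Bijective (Localization.awayMap φ g) := by
  have hopen : IsOpen (Set.range (Spec.map (CommRingCat.ofHom φ))) := h.base_open.isOpen_range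
  let x : PrimeSpectrum S := ⟨q, inferInstance⟩
  obtain ⟨_, ⟨g, rfl⟩, hxg, hsub⟩ :=
    PrimeSpectrum.isTopologicalBasis_basic_opens.exists_subset_of_mem_open
      (show PrimeSpectrum.comap φ x ∈ Set.range (Spec.map (CommRingCat.ofHom φ)) from ⟨x, rfl⟩) hopen
  refine ⟨g, hxg, ?_⟩
  let ψ := Localization.awayMap φ g
  let i := Spec.map (CommRingCat.ofHom (algebraMap R (Localization.Away g)))
  let j := Spec.map (CommRingCat.ofHom (algebraMap S (Localization.Away (φ g))))
  let f := Spec.map (CommRingCat.ofHom φ)
  haveI : IsOpenImmersion f := h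
  haveI : IsOpenImmersion i := IsOpenImmersion.of_isLocalization g
  haveI : IsOpenImmersion j := IsOpenImmersion.of_isLocalization (φ g)
  have hcomm : Spec.map (CommRingCat.ofHom ψ) ≫ i = j ≫ f := by
    rw [← Spec.map_comp, ← Spec.map_comp]
    congr 1
    ext a
    change ψ (algebraMap R (Localization.Away g) a) = algebraMap S (Localization.Away (φ g)) (φ a)
    exact IsLocalization.map_eq _ a
  have hi : Set.range i = (PrimeSpectrum.basicOpen g : Set (PrimeSpectrum R)) :=
    PrimeSpectrum.localization_away_comap_range (Localization.Away g) g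
  have hj : Set.range j = (PrimeSpectrum.basicOpen (φ g) : Set (PrimeSpectrum S)) :=
    PrimeSpectrum.localization_away_comap_range (Localization.Away (φ g)) (φ g)
  have hr : Set.range (j ≫ f) = Set.range i := by
    rw [hi]
    ext y
    constructor
    · rintro ⟨z, rfl⟩
      have hz : j z ∈ (PrimeSpectrum.basicOpen (φ g) : Set (PrimeSpectrum S)) := hj ▸ Set.mem_range_self z
      exact hz
    · intro hy
      obtain ⟨w, rfl⟩ := hsub hy
      obtain ⟨z, rfl⟩ : w ∈ Set.range j := hj ▸ (show w ∈ PrimeSpectrum.basicOpen (φ g) from hy)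
      exact ⟨z, rfl⟩
  let e := IsOpenImmersion.isoOfRangeEq (j ≫ f) i hr
  have he : Spec.map (CommRingCat.ofHom ψ) = e.hom := by
    rw [← cancel_mono i, hcomm, IsOpenImmersion.isoOfRangeEq_hom_fac]
  haveI : IsIso (Spec.map (CommRingCat.ofHom ψ)) := he ▸ inferInstance
  haveI : IsIso (Scheme.Spec.map (CommRingCat.ofHom ψ).op) := this
  haveI : IsIso (CommRingCat.ofHom ψ).op := isIso_of_reflects_iso _ Scheme.Spec
  haveI : IsIso (CommRingCat.ofHom ψ) := isIso_of_op _
  exact ConcreteCategory.bijective_of_isIso (CommRingCat.ofHom ψ)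

end Groth.Calg5.OpenImmAway
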