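import Mathlib
import Groth.Agent.Calg5.OpenImmAway
import Groth.Agent.Calg5.SquarePres
import Groth.Agent.Calg5.TraceIso
import Groth.Agent.Duality.QFBaseChange
import Groth.Agent.KoszulLCI.BaseChange
import Groth.Agent.Hensel1.Finite

/-!
The dualizing module of a quasi-finite syntomic algebra is invertible.
-/

set_option autoImplicit false
set_option linter.style.haveILetI false

universe u

open TensorProduct

namespace Groth.Calg5.QFInvertible

section Idem

variable (R B₁ C : Type u) [CommRing R] [CommRing B₁] [CommRing C] [Algebra R B₁] [Algebra R C]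
  [Algebra B₁ C] [IsScalarTower R B₁ C]

/-- `Hom_R(B₁, R)` restricted to a factor cut out by an idempotent. -/
theorem exists_omega_factor_equiv {e : B₁} (he : IsIdempotentElem e) [IsLocalization.Away e C] :
    Nonempty (C ⊗[B₁] Disc.Omega R B₁ ≃ₗ[C] Disc.Omega R C) := by
  classical
  let π := algebraMap B₁ C
  have hs : Function.Surjective π := IsLocalization.Away.algebraMap_surjective_of_isIdempotentElem e he
  have hπe : π e = 1 :=
    (IsIdempotentElem.iff_eq_one_of_isUnit (IsLocalization.Away.algebraMap_isUnit e)).mp (he.map π)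
  have key : ∀ {x y}, π x = π y → e * x = e * y := by
    intro x y h
    obtain ⟨⟨_, k, rfl⟩, hk⟩ := IsLocalization.exists_of_eq (M := Submonoid.powers e) h
    dsimp only at hk
    calc e * x = e * (e ^ k * x) := by rw [← mul_assoc, ← pow_succ', he.pow_succ_eq]
      _ = e * (e ^ k * y) := by rw [hk]
      _ = e * y := by rw [← mul_assoc, ← pow_succ', he.pow_succ_eq]
  let pre := Function.surjInv hs
  have hpre : ∀ c, π (pre c) = c := Function.surjInv_eq hs
  let σ : C →ₗ[R] B₁ :=
    { toFun := fun c => e * pre c
      map_add' := fun c d => by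
        rw [← mul_add]
        exact key (by rw [map_add, hpre, hpre, hpre])
      map_smul' := fun r c => by
        rw [RingHom.id_apply, Algebra.smul_def r (e * pre c), mul_left_comm]
        refine key ?_
        rw [map_mul, hpre, hpre, Algebra.smul_def]
        congr 1
        exact IsScalarTower.algebraMap_apply R B₁ C r }
  have hσπ : ∀ x, σ (π x) = e * x := fun x => key (hpre _)
  have hπσ : ∀ c, π (σ c) = c := fun c => by
    change π (e * pre c) = c
    rw [map_mul, hπe, one_mul, hpre]
  let res : Disc.Omega R B₁ → Disc.Omega R C := fun l => ⟨l.toLinearMap ∘ₗ σ⟩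
  have hres_add : ∀ l m, res (l + m) = res l + res m := fun l m => by
    ext x; simp [res]
  have hres_smul : ∀ (b : B₁) (l : Disc.Omega R B₁), res (b • l) = π b • res l := fun b l => by
    refine Disc.Omega.ext (LinearMap.ext fun z => ?_)
    obtain ⟨x, rfl⟩ := hs z
    rw [Disc.Omega.smul_toLinearMap_apply]
    change l.toLinearMap (b * σ (π x)) = l.toLinearMap (σ (π b * π x))
    rw [← map_mul, hσπ, hσπ, mul_left_comm]
  letI : Module B₁ (Disc.Omega R C) := Module.compHom _ π
  haveI : IsScalarTower B₁ C (Disc.Omega R C) := IsScalarTower.of_compHom B₁ C (Disc.Omega R C)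
  let fwd : C ⊗[B₁] Disc.Omega R B₁ →ₗ[C] Disc.Omega R C :=
    TensorProduct.AlgebraTensorModule.lift
      { toFun := fun c =>
          { toFun := fun l => c • res l
            map_add' := fun l m => by rw [hres_add, smul_add]
            map_smul' := fun b l => by
              rw [hres_smul, RingHom.id_apply, algebraMap_smul, smul_comm] }
        map_add' := fun c d => by ext l x; simp [add_smul]
        map_smul' := fun c d => by ext l x; simp [mul_smul, mul_left_comm] }
  have hfwd : ∀ c l, fwd (c ⊗ₜ l) = c • res l := fun c l => rfl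
  let inv : Disc.Omega R C → C ⊗[B₁] Disc.Omega R B₁ := fun ψ =>
    (1 : C) ⊗ₜ (⟨ψ.toLinearMap ∘ₗ (IsScalarTower.toAlgHom R B₁ C).toLinearMap⟩ : Disc.Omega R B₁)
  have hinv_add : ∀ ψ χ, inv (ψ + χ) = inv ψ + inv χ := fun ψ χ => by
    simp only [inv]
    rw [← TensorProduct.tmul_add]
    congr 1
  have hfi : ∀ ψ, fwd (inv ψ) = ψ := fun ψ => by
    rw [hfwd, one_smul]
    refine Disc.Omega.ext (LinearMap.ext fun z => ?_)
    change ψ.toLinearMap (π (σ z)) = _
    rw [hπσ]
  have hif : ∀ t, inv (fwd t) = t := fun t => by
    induction t using TensorProduct.induction_on with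
    | zero =>
      rw [map_zero]
      have h0 := hinv_add 0 0
      rw [add_zero] at h0
      simpa using h0
    | add x y hx hy => rw [map_add, hinv_add, hx, hy]
    | tmul c l =>
      obtain ⟨b, rfl⟩ := hs c
      rw [hfwd]
      have h1 : (⟨(π b • res l).toLinearMap ∘ₗ (IsScalarTower.toAlgHom R B₁ C).toLinearMap⟩ :
          Disc.Omega R B₁) = (e * b) • l := by
        refine Disc.Omega.ext (LinearMap.ext fun z => ?_)
        rw [Disc.Omega.smul_toLinearMap_apply]
        change l.toLinearMap (σ (π b * π z)) = _
        rw [← map_mul, hσπ, mul_assoc]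
      change (1 : C) ⊗ₜ[B₁] _ = _
      rw [h1, TensorProduct.tmul_smul, TensorProduct.smul_tmul', Algebra.smul_def, mul_one]
      congr 1
      change π (e * b) = π b
      rw [map_mul, hπe, one_mul]
  exact ⟨LinearEquiv.ofBijective fwd ⟨Function.LeftInverse.injective hif, fun ψ => ⟨inv ψ, hfi ψ⟩⟩⟩

end Idem

/-- A module which becomes free of rank one after a faithfully flat extension to a local ring is free
of rank one. -/
theorem exists_linearEquiv_of_faithfullyFlat {R S M : Type u} [CommRing R] [CommRing S] [IsLocalRing S]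
    [Algebra R S] [Module.FaithfullyFlat R S] [AddCommGroup M] [Module R M]
    (E : S ⊗[R] M ≃ₗ[S] S) : Nonempty (M ≃ₗ[R] R) := by
  obtain ⟨m, hm⟩ : ∃ m, IsUnit (E (1 ⊗ₜ m)) := by
    by_contra hcon
    push Not at hcon
    have : ∀ t, E t ∈ IsLocalRing.maximalIdeal S := fun t => by
      induction t using TensorProduct.induction_on with
      | zero => simp
      | add x y hx hy => rw [map_add]; exact add_mem hx hy
      | tmul s m =>
        rw [show s ⊗ₜ[R] m = s • ((1 : S) ⊗ₜ[R] m) by rw [TensorProduct.smul_tmul', smul_eq_mul, mul_one],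
          map_smul]
        exact Submodule.smul_mem _ _ (hcon m)
    exact (IsLocalRing.maximalIdeal.isMaximal S).ne_top
      ((Ideal.eq_top_iff_one _).mpr (E.apply_symm_apply 1 ▸ this _))
  let j := LinearMap.toSpanSingleton R M m
  have hj : Function.Bijective (j.lTensor S) := by
    have h : ∀ t, E (j.lTensor S t) = TensorProduct.rid R S t * E (1 ⊗ₜ m) := fun t => by
      induction t using TensorProduct.induction_on with
      | zero => simp
      | add x y hx hy => rw [map_add, map_add, hx, hy, map_add, add_mul]
      | tmul s r =>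
        rw [LinearMap.lTensor_tmul, LinearMap.toSpanSingleton_apply, TensorProduct.rid_tmul,
          TensorProduct.tmul_smul, TensorProduct.smul_tmul',
          show (r • s) ⊗ₜ[R] m = (r • s) • ((1 : S) ⊗ₜ[R] m) by
            rw [TensorProduct.smul_tmul' (r • s), smul_eq_mul, mul_one], map_smul, smul_eq_mul]
    have hbij : Function.Bijective (fun t => TensorProduct.rid R S t * E (1 ⊗ₜ m)) :=
      (IsUnit.isUnit_iff_mulRight_bijective.mp hm).comp (TensorProduct.rid R S).bijective
    rw [← show E ∘ j.lTensor S = _ from funext h] at hbij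
    exact (Function.Bijective.of_comp_iff' E.bijective _).mp hbij
  exact ⟨(LinearEquiv.ofBijective j
    ⟨(Module.FaithfullyFlat.lTensor_injective_iff_injective R S j).mp hj.1,
      (Module.FaithfullyFlat.lTensor_surjective_iff_surjective R S j).mp hj.2⟩).symm⟩

/-- The dualizing module at a point `q`, computed on a local factor `C` over a henselian base. -/
theorem exists_equiv_atPrime {A B' B R B₁ C : Type u} [CommRing A] [CommRing B'] [CommRing B] [CommRing R]
    [CommRing B₁] [CommRing C] [IsNoetherianRing A] [IsLocalRing R] [IsLocalRing C]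
    [Algebra A B'] [Module.Finite A B'] [Algebra B' B] [Algebra A R] [Module.Flat A R]
    [Algebra B' B₁] [Algebra R B₁] [Algebra A B₁] [IsScalarTower A R B₁] [IsScalarTower A B' B₁]
    (h : Algebra.IsPushout A R B' B₁) [Algebra B₁ C] [Algebra R C] [IsScalarTower R B₁ C]
    [Algebra B' C] [IsScalarTower B' B₁ C] [Algebra B C] [IsScalarTower B' B C] [Module.Flat B C]
    (e : B₁) (he : IsIdempotentElem e) [IsLocalization.Away e C] [Module.Finite R C]
    (hC : Synt.IsSyntomic R C) (q : Ideal B) [q.IsPrime]
    (hq : (IsLocalRing.maximalIdeal C).comap (algebraMap B C) = q) :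
    Nonempty (Localization.AtPrime q ⊗[B] QFDual.omega A B' B ≃ₗ[Localization.AtPrime q]
      Localization.AtPrime q) := by
  haveI := hC.1
  haveI : Module.Free R C := Module.free_of_flat_of_isLocalRing
  obtain ⟨n, F, π, hπ, hker⟩ := SquarePres.exists_square_presentation hC
  obtain ⟨c, hc⟩ := Diagonal.exists_expresses π F hker
  obtain ⟨E₁⟩ := exists_omega_factor_equiv R B₁ C he
  let E₂ : C ⊗[B] QFDual.omega A B' B ≃ₗ[C] C :=
    AlgebraTensorModule.cancelBaseChange B' B C C (Disc.Omega A B') ≪≫ₗ
      (AlgebraTensorModule.cancelBaseChange B' B₁ C C (Disc.Omega A B')).symm ≪≫ₗ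
      AlgebraTensorModule.congr (LinearEquiv.refl C C)
        (Groth.Duality.QF.omegaEquiv h (Groth.Duality.QF.isBaseChange_toDual_of_flat h)) ≪≫ₗ
      E₁ ≪≫ₗ Trace.traceEquiv hπ hker hc
  have hu : ∀ s : q.primeCompl, IsUnit (algebraMap B C s) := fun ⟨s, hs⟩ => by
    by_contra hn
    exact hs (hq.le ((IsLocalRing.mem_maximalIdeal _).mpr hn))
  let l : Localization.AtPrime q →+* C := IsLocalization.lift hu
  letI : Algebra (Localization.AtPrime q) C := l.toAlgebra
  haveI : IsScalarTower B (Localization.AtPrime q) C :=
    IsScalarTower.of_algebraMap_eq fun b => (IsLocalization.lift_eq hu b).symm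
  haveI : Module.Flat (Localization.AtPrime q) C :=
    (Module.flat_iff_of_isLocalization (Localization.AtPrime q) q.primeCompl C).mpr inferInstance
  haveI : IsLocalHom (algebraMap (Localization.AtPrime q) C) := by
    refine ((IsLocalRing.local_hom_TFAE _).out 0 4).mpr ?_
    apply (IsLocalization.orderEmbedding q.primeCompl (Localization.AtPrime q)).injective
    change Ideal.comap _ (Ideal.comap _ _) = Ideal.comap _ _
    rw [Ideal.comap_comap, ← IsScalarTower.algebraMap_eq, hq]
    exact Localization.AtPrime.under_maximalIdeal.symm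
  haveI : Module.FaithfullyFlat (Localization.AtPrime q) C := Module.FaithfullyFlat.of_flat_of_isLocalHom
  exact exists_linearEquiv_of_faithfullyFlat (S := C)
    ((AlgebraTensorModule.cancelBaseChange B (Localization.AtPrime q) C C (QFDual.omega A B' B)).trans E₂)

/-- Same, for a point of a quasi-finite syntomic algebra and a henselian base. -/
theorem exists_equiv_atPrime_of_henselian (A B' B R : Type u) [CommRing A] [CommRing B'] [CommRing B]
    [CommRing R] [IsNoetherianRing A] [HenselianLocalRing R] [Algebra A B'] [Algebra B' B] [Algebra A B]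
    [IsScalarTower A B' B] [Algebra A R] [Module.Flat A R] (hf : QFDual.IsQFFactor A B' B)
    (hs : Synt.IsSyntomic A B) (q : Ideal B) [q.IsPrime] {K : Type u} [Field K] (φ : B →+* K)
    (hφ : RingHom.ker φ = q) (ψ : R →+* K) (hψ : RingHom.ker ψ = IsLocalRing.maximalIdeal R)
    (hcomp : ψ.comp (algebraMap A R) = φ.comp (algebraMap A B)) :
    Nonempty (Localization.AtPrime q ⊗[B] QFDual.omega A B' B ≃ₗ[Localization.AtPrime q]
      Localization.AtPrime q) := by
  classical
  haveI := hf.finite
  haveI := hs.1
  letI : Algebra B' (R ⊗[A] B') := Algebra.TensorProduct.rightAlgebra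
  set B₁ := R ⊗[A] B' with hB₁
  have h : Algebra.IsPushout A R B' B₁ := inferInstance
  haveI : Module.Flat B' B₁ :=
    Module.Flat.isBaseChange A B' R B₁ (Algebra.IsPushout.out (S := B') (R' := R) (self := h.symm))
  -- an open neighbourhood of the point
  obtain ⟨g, hgq, hgb⟩ := OpenImmAway.exists_awayMap_bijective (algebraMap B' B) hf.isOpenImmersion q
  set T := Localization.Away (algebraMap B' B g)
  haveI : IsLocalization.Away g T := by
    let E : Localization.Away g ≃ₐ[B'] T := AlgEquiv.ofRingEquiv (f := RingEquiv.ofBijective _ hgb)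
      (fun x => by
        change Localization.awayMap (algebraMap B' B) g (algebraMap B' (Localization.Away g) x) = algebraMap B' T x
        rw [IsScalarTower.algebraMap_apply B' B T]
        exact IsLocalization.map_eq _ x)
    exact IsLocalization.isLocalization_of_algEquiv (Submonoid.powers g) E
  have hT : Module.Flat A T ∧ LCI.IsLCI A T :=
    ⟨Module.Flat.trans A B T, Groth.KoszulLCI.isLCI_trans (Groth.Syntomic.isSyntomic_iff.mp hs).2
      (Groth.KoszulLCI.isLCI_away (algebraMap B' B g))⟩
  -- the base change of the neighbourhood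
  set U := Localization.Away (algebraMap B' B₁ g)
  have hgU : IsUnit (algebraMap B' U g) := by
    rw [IsScalarTower.algebraMap_apply B' B₁ U]
    exact IsLocalization.Away.algebraMap_isUnit _
  letI algTU : Algebra T U := (IsLocalization.Away.lift g hgU : T →+* U).toAlgebra
  haveI : IsScalarTower B' T U :=
    IsScalarTower.of_algebraMap_eq fun x => (IsLocalization.Away.lift_eq g hgU x).symm
  haveI : IsScalarTower A T U := IsScalarTower.of_algebraMap_eq fun a => by
    rw [IsScalarTower.algebraMap_apply A B' U, IsScalarTower.algebraMap_apply B' T U,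
      ← IsScalarTower.algebraMap_apply A B' T]
  haveI : Algebra.IsPushout A B' R B₁ := h.symm
  haveI : IsLocalization (Algebra.algebraMapSubmonoid B₁ (Submonoid.powers g)) U := by
    rw [show Algebra.algebraMapSubmonoid B₁ (Submonoid.powers g) =
      Submonoid.powers (algebraMap B' B₁ g) from Submonoid.map_powers _ _]
    infer_instance
  haveI : Algebra.IsPushout B' B₁ T U :=
    Algebra.isPushout_of_isLocalization (Submonoid.powers g) T B₁ U
  haveI : Algebra.IsPushout A T R U :=
    (Algebra.IsPushout.comp_iff A B' R B₁).mpr (Algebra.IsPushout.symm inferInstance)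
  haveI : Algebra.IsPushout A R T U := Algebra.IsPushout.symm inferInstance
  haveI := hT.1
  have hU : Module.Flat R U ∧ LCI.IsLCI R U :=
    ⟨Module.Flat.isBaseChange A R T U (Algebra.IsPushout.out (R := A) (S := R) (R' := T)),
      Groth.KoszulLCI.isLCI_baseChange (A := A) (B := T) hT.2⟩
  -- the local factor at the point
  let φ' : B' →ₐ[A] B := IsScalarTower.toAlgHom A B' B
  letI : Algebra A K := (φ.comp (algebraMap A B)).toAlgebra
  let ψa : R →ₐ[A] K := { ψ with commutes' := fun a => RingHom.congr_fun hcomp a }
  let φa : B →ₐ[A] K := { φ with commutes' := fun a => rfl }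
  let χ : B₁ →ₐ[A] K := Algebra.TensorProduct.lift ψa (φa.comp φ') (fun _ _ => Commute.all _ _)
  have hχR : ∀ r, χ (algebraMap R B₁ r) = ψ r := fun r => by
    simp [χ, B₁, Algebra.TensorProduct.algebraMap_apply, ψa]
  have hχB : ∀ b, χ (algebraMap B' B₁ b) = φ (algebraMap B' B b) := fun b => by
    simp [χ, B₁, Algebra.TensorProduct.right_algebraMap_apply, φa, φ']
  haveI hQprime : (RingHom.ker χ.toRingHom).IsPrime := RingHom.ker_isPrime _
  haveI : Algebra.IsIntegral R B₁ := Algebra.IsIntegral.of_finite R B₁
  have hQc : (RingHom.ker χ.toRingHom).comap (algebraMap R B₁) = IsLocalRing.maximalIdeal R := by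
    rw [← hψ]; ext r
    change χ (algebraMap R B₁ r) = 0 ↔ ψ r = 0
    rw [hχR]
  have hQmax : (RingHom.ker χ.toRingHom).IsMaximal :=
    Ideal.isMaximal_of_isIntegral_of_isMaximal_comap _ (hQc.symm ▸ IsLocalRing.maximalIdeal.isMaximal R)
  obtain ⟨ι, _, ε, hε, hloc⟩ := Groth.Hensel1.exists_completeOrthogonalIdempotents_local R B₁
  obtain ⟨i, hi⟩ : ∃ i, χ (ε i) ≠ 0 := by
    by_contra hcon
    push Not at hcon
    have := congrArg χ hε.complete
    rw [map_sum, Finset.sum_eq_zero (fun i _ => hcon i), map_one] at this
    exact zero_ne_one this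
  have he : IsIdempotentElem (ε i) := hε.idem i
  have hχe : χ (ε i) = 1 :=
    (IsIdempotentElem.iff_eq_one_of_isUnit (isUnit_iff_ne_zero.mpr hi)).mp (he.map χ)
  haveI := hloc i
  set C := B₁ ⧸ Ideal.span {1 - ε i}
  haveI : IsLocalization.Away (ε i) C := IsLocalization.Away.quotient_of_isIdempotentElem he
  haveI : Module.Finite R C :=
    Module.Finite.of_surjective (Ideal.Quotient.mkₐ R (Ideal.span {1 - ε i})).toLinearMap
      (Ideal.Quotient.mkₐ_surjective R _)
  have hker : Ideal.span {1 - ε i} ≤ RingHom.ker χ.toRingHom := by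
    rw [Ideal.span_le, Set.singleton_subset_iff]
    change χ (1 - ε i) = 0
    rw [map_sub, map_one, hχe, sub_self]
  let χC : C →+* K := Ideal.Quotient.lift _ χ.toRingHom fun a ha => hker ha
  have hχC : ∀ x, χC (algebraMap B₁ C x) = χ x := fun x => rfl
  have hmax : ∀ x : C, x ∈ IsLocalRing.maximalIdeal C ↔ χC x = 0 := by
    have h1 : (RingHom.ker χC).IsMaximal := by
      haveI := hQmax
      have : RingHom.ker χC = (RingHom.ker χ.toRingHom).map (Ideal.Quotient.mk _) :=
        Ideal.ker_quotient_lift _ fun a ha => hker ha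
      rw [this]
      exact Ideal.IsMaximal.map_of_surjective_of_ker_le Ideal.Quotient.mk_surjective
        (by rw [Ideal.mk_ker]; exact hker)
    intro x
    rw [← IsLocalRing.eq_maximalIdeal h1]
    rfl
  have hgC : IsUnit (algebraMap B' C g) := by
    by_contra hn
    have h1 := (hmax _).mp ((IsLocalRing.mem_maximalIdeal _).mpr hn)
    rw [IsScalarTower.algebraMap_apply B' B₁ C, hχC, hχB] at h1
    exact hgq (hφ ▸ h1)
  -- `B` and `U` map to the factor
  letI algTC : Algebra T C := (IsLocalization.Away.lift g hgC : T →+* C).toAlgebra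
  haveI : IsScalarTower B' T C :=
    IsScalarTower.of_algebraMap_eq fun x => (IsLocalization.Away.lift_eq g hgC x).symm
  letI : Algebra B C := ((algebraMap T C).comp (algebraMap B T)).toAlgebra
  haveI : IsScalarTower B T C := IsScalarTower.of_algebraMap_eq fun x => rfl
  haveI : IsScalarTower B' B C := IsScalarTower.of_algebraMap_eq fun x => by
    rw [IsScalarTower.algebraMap_apply B T C, ← IsScalarTower.algebraMap_apply B' B T,
      ← IsScalarTower.algebraMap_apply B' T C]
  haveI : Module.Flat B₁ C := IsLocalization.flat C (Submonoid.powers (ε i))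
  haveI : Module.Flat B' C := Module.Flat.trans B' B₁ C
  haveI : Module.Flat T C := (Module.flat_iff_of_isLocalization T (Submonoid.powers g) C).mpr inferInstance
  haveI : Module.Flat B C := Module.Flat.trans B T C
  have hgC' : IsUnit (algebraMap B₁ C (algebraMap B' B₁ g)) := by
    rwa [← IsScalarTower.algebraMap_apply]
  letI algUC : Algebra U C := (IsLocalization.Away.lift (algebraMap B' B₁ g) hgC' : U →+* C).toAlgebra
  haveI : IsScalarTower B₁ U C :=
    IsScalarTower.of_algebraMap_eq fun x => (IsLocalization.Away.lift_eq _ hgC' x).symm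
  haveI : IsScalarTower R U C := IsScalarTower.of_algebraMap_eq fun r => by
    rw [IsScalarTower.algebraMap_apply R B₁ C, IsScalarTower.algebraMap_apply R B₁ U,
      ← IsScalarTower.algebraMap_apply B₁ U C]
  haveI : IsLocalization (Algebra.algebraMapSubmonoid C (Submonoid.powers (algebraMap B' B₁ g))) C := by
    refine IsLocalization.self fun x hx => ?_
    obtain ⟨y, ⟨k, rfl⟩, rfl⟩ := hx
    rw [map_pow]
    exact hgC'.pow k
  have hloc' := IsLocalization.commutes U C C (Submonoid.powers (algebraMap B' B₁ g))
    (Submonoid.powers (ε i))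
  rw [show Algebra.algebraMapSubmonoid U (Submonoid.powers (ε i)) =
    Submonoid.powers (algebraMap B₁ U (ε i)) from Submonoid.map_powers _ _] at hloc'
  haveI := hloc'
  haveI := hU.1
  haveI : Module.Flat U C := IsLocalization.flat C (Submonoid.powers (algebraMap B₁ U (ε i)))
  have hC : Synt.IsSyntomic R C := Groth.Syntomic.isSyntomic_iff.mpr
    ⟨Module.Flat.trans R U C,
      Groth.KoszulLCI.isLCI_trans hU.2 (Groth.KoszulLCI.isLCI_away (algebraMap B₁ U (ε i)))⟩
  refine exists_equiv_atPrime h (ε i) he hC q ?_
  have hB : χC.comp (algebraMap B C) = φ := by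
    have h1 : χC.comp (algebraMap T C) = IsLocalization.Away.lift (algebraMap B' B g)
        (isUnit_iff_ne_zero.mpr (fun h0 => hgq (hφ ▸ h0)) : IsUnit (φ (algebraMap B' B g))) := by
      refine IsLocalization.ringHom_ext (Submonoid.powers g) (RingHom.ext fun x => ?_)
      rw [RingHom.comp_apply, RingHom.comp_apply, ← IsScalarTower.algebraMap_apply, RingHom.comp_apply,
        IsScalarTower.algebraMap_apply B' B T, IsLocalization.Away.lift_eq,
        IsScalarTower.algebraMap_apply B' B₁ C, hχC, hχB]
    rw [show algebraMap B C = (algebraMap T C).comp (algebraMap B T) from rfl, ← RingHom.comp_assoc, h1,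
      IsLocalization.Away.lift_comp]
  ext x
  rw [Ideal.mem_comap, hmax, ← hφ, RingHom.mem_ker, ← hB, RingHom.comp_apply]

end Groth.Calg5.QFInvertible
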