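import Mathlib
import Groth.Agent.Calg5.QFInvertible
import Groth.Agent.Calg1.Completion

/-!
Local structure of a flat quasi-finite algebra: after a flat henselian base change, a finite free local factor.
-/

set_option autoImplicit false
set_option linter.style.haveILetI false

universe u

open TensorProduct

namespace Groth.Calg5.QFLocal

/-- The local factor at a point of a flat quasi-finite algebra, over a henselian base. -/
theorem exists_localFactor (A B' B R : Type u) [CommRing A] [CommRing B'] [CommRing B]
    [CommRing R] [IsNoetherianRing A] [HenselianLocalRing R] [Algebra A B'] [Algebra B' B] [Algebra A B]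
    [IsScalarTower A B' B] [Algebra A R] [Module.Flat A R] (hf : QFDual.IsQFFactor A B' B)
    [Module.Flat A B] (q : Ideal B) [q.IsPrime] {K : Type u} [Field K] (φ : B →+* K)
    (hφ : RingHom.ker φ = q) (ψ : R →+* K) (hψ : RingHom.ker ψ = IsLocalRing.maximalIdeal R)
    (hcomp : ψ.comp (algebraMap A R) = φ.comp (algebraMap A B)) :
    ∃ (C : Type u) (_ : CommRing C) (_ : IsLocalRing C) (_ : Algebra R C) (_ : Algebra B C),
      Module.Finite R C ∧ Module.Free R C ∧ Module.Flat B C ∧
      (IsLocalRing.maximalIdeal C).comap (algebraMap B C) = q ∧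
      (∀ a, algebraMap R C (algebraMap A R a) = algebraMap B C (algebraMap A B a)) ∧
      Nonempty (C ⊗[B] QFDual.omega A B' B ≃ₗ[C] Disc.Omega R C) := by
  classical
  haveI := hf.finite
  letI : Algebra B' (R ⊗[A] B') := Algebra.TensorProduct.rightAlgebra
  set B₁ := R ⊗[A] B' with hB₁
  have h : Algebra.IsPushout A R B' B₁ := inferInstance
  haveI : Module.Flat B' B₁ :=
    Module.Flat.isBaseChange A B' R B₁ (Algebra.IsPushout.out (S := B') (R' := R) (self := h.symm))
  -- an open neighbourhood of the point
  obtain ⟨g, hgq, hgb⟩ := OpenImmAway.exists_awayMap_bijective (algebraMap B' B) hf.isOpenImmersion q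
  set T := Localization.Away (algebraMap B' B g)
  haveI : IsLocalization.Away g T := by
    let E : Localization.Away g ≃ₐ[B'] T := AlgEquiv.ofRingEquiv (f := RingEquiv.ofBijective _ hgb)
      (fun x => by
        change Localization.awayMap (algebraMap B' B) g (algebraMap B' (Localization.Away g) x) = algebraMap B' T x
        rw [IsScalarTower.algebraMap_apply B' B T]
        exact IsLocalization.map_eq _ x)
    exact IsLocalization.isLocalization_of_algEquiv (Submonoid.powers g) E
  have hT : Module.Flat A T := Module.Flat.trans A B T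
  -- the base change of the neighbourhood
  set U := Localization.Away (algebraMap B' B₁ g)
  have hgU : IsUnit (algebraMap B' U g) := by
    rw [IsScalarTower.algebraMap_apply B' B₁ U]
    exact IsLocalization.Away.algebraMap_isUnit _
  letI algTU : Algebra T U := (IsLocalization.Away.lift g hgU : T →+* U).toAlgebra
  haveI : IsScalarTower B' T U :=
    IsScalarTower.of_algebraMap_eq fun x => (IsLocalization.Away.lift_eq g hgU x).symm
  haveI : IsScalarTower A T U := IsScalarTower.of_algebraMap_eq fun a => by
    rw [IsScalarTower.algebraMap_apply A B' U, IsScalarTower.algebraMap_apply B' T U,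
      ← IsScalarTower.algebraMap_apply A B' T]
  haveI : Algebra.IsPushout A B' R B₁ := h.symm
  haveI : IsLocalization (Algebra.algebraMapSubmonoid B₁ (Submonoid.powers g)) U := by
    rw [show Algebra.algebraMapSubmonoid B₁ (Submonoid.powers g) =
      Submonoid.powers (algebraMap B' B₁ g) from Submonoid.map_powers _ _]
    infer_instance
  haveI : Algebra.IsPushout B' B₁ T U :=
    Algebra.isPushout_of_isLocalization (Submonoid.powers g) T B₁ U
  haveI : Algebra.IsPushout A T R U :=
    (Algebra.IsPushout.comp_iff A B' R B₁).mpr (Algebra.IsPushout.symm inferInstance)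
  haveI : Algebra.IsPushout A R T U := Algebra.IsPushout.symm inferInstance
  haveI := hT
  have hU : Module.Flat R U :=
    Module.Flat.isBaseChange A R T U (Algebra.IsPushout.out (R := A) (S := R) (R' := T))
  -- the local factor at the point
  let φ' : B' →ₐ[A] B := IsScalarTower.toAlgHom A B' B
  letI : Algebra A K := (φ.comp (algebraMap A B)).toAlgebra
  let ψa : R →ₐ[A] K := { ψ with commutes' := fun a => RingHom.congr_fun hcomp a }
  let φa : B →ₐ[A] K := { φ with commutes' := fun a => rfl }
  let χ : B₁ →ₐ[A] K := Algebra.TensorProduct.lift ψa (φa.comp φ') (fun _ _ => Commute.all _ _)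
  have hχR : ∀ r, χ (algebraMap R B₁ r) = ψ r := fun r => by
    simp [χ, B₁, Algebra.TensorProduct.algebraMap_apply, ψa]
  have hχB : ∀ b, χ (algebraMap B' B₁ b) = φ (algebraMap B' B b) := fun b => by
    simp [χ, B₁, Algebra.TensorProduct.right_algebraMap_apply, φa, φ']
  haveI hQprime : (RingHom.ker χ.toRingHom).IsPrime := RingHom.ker_isPrime _
  haveI : Algebra.IsIntegral R B₁ := Algebra.IsIntegral.of_finite R B₁
  have hQc : (RingHom.ker χ.toRingHom).comap (algebraMap R B₁) = IsLocalRing.maximalIdeal R := by
    rw [← hψ]; ext r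
    change χ (algebraMap R B₁ r) = 0 ↔ ψ r = 0
    rw [hχR]
  have hQmax : (RingHom.ker χ.toRingHom).IsMaximal :=
    Ideal.isMaximal_of_isIntegral_of_isMaximal_comap _ (hQc.symm ▸ IsLocalRing.maximalIdeal.isMaximal R)
  obtain ⟨ι, _, ε, hε, hloc⟩ := Groth.Hensel1.exists_completeOrthogonalIdempotents_local R B₁
  obtain ⟨i, hi⟩ : ∃ i, χ (ε i) ≠ 0 := by
    by_contra hcon
    push Not at hcon
    have := congrArg χ hε.complete
    rw [map_sum, Finset.sum_eq_zero (fun i _ => hcon i), map_one] at this
    exact zero_ne_one this
  have he : IsIdempotentElem (ε i) := hε.idem i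
  have hχe : χ (ε i) = 1 :=
    (IsIdempotentElem.iff_eq_one_of_isUnit (isUnit_iff_ne_zero.mpr hi)).mp (he.map χ)
  haveI := hloc i
  set C := B₁ ⧸ Ideal.span {1 - ε i}
  haveI : IsLocalization.Away (ε i) C := IsLocalization.Away.quotient_of_isIdempotentElem he
  haveI : Module.Finite R C :=
    Module.Finite.of_surjective (Ideal.Quotient.mkₐ R (Ideal.span {1 - ε i})).toLinearMap
      (Ideal.Quotient.mkₐ_surjective R _)
  have hker : Ideal.span {1 - ε i} ≤ RingHom.ker χ.toRingHom := by
    rw [Ideal.span_le, Set.singleton_subset_iff]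
    change χ (1 - ε i) = 0
    rw [map_sub, map_one, hχe, sub_self]
  let χC : C →+* K := Ideal.Quotient.lift _ χ.toRingHom fun a ha => hker ha
  have hχC : ∀ x, χC (algebraMap B₁ C x) = χ x := fun x => rfl
  have hmax : ∀ x : C, x ∈ IsLocalRing.maximalIdeal C ↔ χC x = 0 := by
    have h1 : (RingHom.ker χC).IsMaximal := by
      haveI := hQmax
      have : RingHom.ker χC = (RingHom.ker χ.toRingHom).map (Ideal.Quotient.mk _) :=
        Ideal.ker_quotient_lift _ fun a ha => hker ha
      rw [this]
      exact Ideal.IsMaximal.map_of_surjective_of_ker_le Ideal.Quotient.mk_surjective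
        (by rw [Ideal.mk_ker]; exact hker)
    intro x
    rw [← IsLocalRing.eq_maximalIdeal h1]
    rfl
  have hgC : IsUnit (algebraMap B' C g) := by
    by_contra hn
    have h1 := (hmax _).mp ((IsLocalRing.mem_maximalIdeal _).mpr hn)
    rw [IsScalarTower.algebraMap_apply B' B₁ C, hχC, hχB] at h1
    exact hgq (hφ ▸ h1)
  -- `B` and `U` map to the factor
  letI algTC : Algebra T C := (IsLocalization.Away.lift g hgC : T →+* C).toAlgebra
  haveI : IsScalarTower B' T C :=
    IsScalarTower.of_algebraMap_eq fun x => (IsLocalization.Away.lift_eq g hgC x).symm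
  letI : Algebra B C := ((algebraMap T C).comp (algebraMap B T)).toAlgebra
  haveI : IsScalarTower B T C := IsScalarTower.of_algebraMap_eq fun x => rfl
  haveI : IsScalarTower B' B C := IsScalarTower.of_algebraMap_eq fun x => by
    rw [IsScalarTower.algebraMap_apply B T C, ← IsScalarTower.algebraMap_apply B' B T,
      ← IsScalarTower.algebraMap_apply B' T C]
  haveI : Module.Flat B₁ C := IsLocalization.flat C (Submonoid.powers (ε i))
  haveI : Module.Flat B' C := Module.Flat.trans B' B₁ C
  haveI : Module.Flat T C := (Module.flat_iff_of_isLocalization T (Submonoid.powers g) C).mpr inferInstance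
  haveI : Module.Flat B C := Module.Flat.trans B T C
  have hgC' : IsUnit (algebraMap B₁ C (algebraMap B' B₁ g)) := by
    rwa [← IsScalarTower.algebraMap_apply]
  letI algUC : Algebra U C := (IsLocalization.Away.lift (algebraMap B' B₁ g) hgC' : U →+* C).toAlgebra
  haveI : IsScalarTower B₁ U C :=
    IsScalarTower.of_algebraMap_eq fun x => (IsLocalization.Away.lift_eq _ hgC' x).symm
  haveI : IsScalarTower R U C := IsScalarTower.of_algebraMap_eq fun r => by
    rw [IsScalarTower.algebraMap_apply R B₁ C, IsScalarTower.algebraMap_apply R B₁ U,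
      ← IsScalarTower.algebraMap_apply B₁ U C]
  haveI : IsLocalization (Algebra.algebraMapSubmonoid C (Submonoid.powers (algebraMap B' B₁ g))) C := by
    refine IsLocalization.self fun x hx => ?_
    obtain ⟨y, ⟨k, rfl⟩, rfl⟩ := hx
    rw [map_pow]
    exact hgC'.pow k
  have hloc' := IsLocalization.commutes U C C (Submonoid.powers (algebraMap B' B₁ g))
    (Submonoid.powers (ε i))
  rw [show Algebra.algebraMapSubmonoid U (Submonoid.powers (ε i)) =
    Submonoid.powers (algebraMap B₁ U (ε i)) from Submonoid.map_powers _ _] at hloc'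
  haveI := hloc'
  haveI := hU
  haveI : Module.Flat U C := IsLocalization.flat C (Submonoid.powers (algebraMap B₁ U (ε i)))
  haveI : Module.Flat R C := Module.Flat.trans R U C
  haveI : Module.Free R C := Module.free_of_flat_of_isLocalRing
  obtain ⟨E₁⟩ := QFInvertible.exists_omega_factor_equiv R B₁ C he
  let E₂ : C ⊗[B] QFDual.omega A B' B ≃ₗ[C] Disc.Omega R C :=
    AlgebraTensorModule.cancelBaseChange B' B C C (Disc.Omega A B') ≪≫ₗ
      (AlgebraTensorModule.cancelBaseChange B' B₁ C C (Disc.Omega A B')).symm ≪≫ₗ
      AlgebraTensorModule.congr (LinearEquiv.refl C C)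
        (Groth.Duality.QF.omegaEquiv h (Groth.Duality.QF.isBaseChange_toDual_of_flat h)) ≪≫ₗ E₁
  refine ⟨C, inferInstance, inferInstance, inferInstance, inferInstance, inferInstance, inferInstance,
    inferInstance, ?_, fun a => ?_, ⟨E₂⟩⟩
  rotate_left
  · rw [← IsScalarTower.algebraMap_apply A R C, IsScalarTower.algebraMap_apply A B' B,
      ← IsScalarTower.algebraMap_apply B' B C, ← IsScalarTower.algebraMap_apply A B' C]
  have hB : χC.comp (algebraMap B C) = φ := by
    have h1 : χC.comp (algebraMap T C) = IsLocalization.Away.lift (algebraMap B' B g)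
        (isUnit_iff_ne_zero.mpr (fun h0 => hgq (hφ ▸ h0)) : IsUnit (φ (algebraMap B' B g))) := by
      refine IsLocalization.ringHom_ext (Submonoid.powers g) (RingHom.ext fun x => ?_)
      rw [RingHom.comp_apply, RingHom.comp_apply, ← IsScalarTower.algebraMap_apply, RingHom.comp_apply,
        IsScalarTower.algebraMap_apply B' B T, IsLocalization.Away.lift_eq,
        IsScalarTower.algebraMap_apply B' B₁ C, hχC, hχB]
    rw [show algebraMap B C = (algebraMap T C).comp (algebraMap B T) from rfl, ← RingHom.comp_assoc, h1,
      IsLocalization.Away.lift_comp]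
  ext x
  rw [Ideal.mem_comap, hmax, ← hφ, RingHom.mem_ker, ← hB, RingHom.comp_apply]

open IsLocalRing in
/-- The local factor over the completion of the base at the image of the point. -/
theorem exists_localFactor_completion (A B' B : Type u) [CommRing A] [CommRing B'] [CommRing B]
    [IsNoetherianRing A] [Algebra A B'] [Algebra B' B] [Algebra A B] [IsScalarTower A B' B]
    [Module.Flat A B] (hf : QFDual.IsQFFactor A B' B) (q : Ideal B) [q.IsPrime] :
    ∃ (R : Type u) (_ : CommRing R) (_ : Algebra A R) (_ : IsNoetherianRing R)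
      (_ : HenselianLocalRing R), Module.Flat A R ∧
      (IsLocalRing.maximalIdeal R).comap (algebraMap A R) = q.comap (algebraMap A B) ∧
      ∃ (C : Type u) (_ : CommRing C) (_ : IsLocalRing C) (_ : Algebra R C) (_ : Algebra B C),
      Module.Finite R C ∧ Module.Free R C ∧ Module.Flat B C ∧
      (IsLocalRing.maximalIdeal C).comap (algebraMap B C) = q ∧
      (∀ a, algebraMap R C (algebraMap A R a) = algebraMap B C (algebraMap A B a)) ∧
      Nonempty (C ⊗[B] QFDual.omega A B' B ≃ₗ[C] Disc.Omega R C) := by
  set p := q.comap (algebraMap A B)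
  let Ap := Localization.AtPrime p
  let R := AdicCompletion (maximalIdeal Ap) Ap
  haveI : IsNoetherianRing R :=
    Groth.Calg1.isNoetherianRing_adicCompletion _ (IsNoetherian.noetherian _)
  haveI : HenselianRing R (maximalIdeal R) := inferInstance
  haveI : HenselianLocalRing R := Groth.Hensel1.henselianLocalRing_of_henselianRing
  haveI hflat : Module.Flat A R := Module.Flat.trans A Ap R
  have hres := AdicCompletion.residueField_map_bijective Ap
  let e := RingEquiv.ofBijective _ hres
  let ι := Ideal.ResidueField.map p q (algebraMap A B) rfl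
  refine ⟨R, inferInstance, inferInstance, inferInstance, inferInstance, hflat, ?_,
    exists_localFactor A B' B R hf q
    (algebraMap B q.ResidueField) (Ideal.ker_algebraMap_residueField q)
    ((ι.comp e.symm.toRingHom).comp (IsLocalRing.residue R)) ?_ ?_⟩
  · rw [IsScalarTower.algebraMap_eq A Ap R, ← Ideal.comap_comap, IsLocalRing.maximalIdeal_comap]
    exact Localization.AtPrime.under_maximalIdeal
  · rw [← RingHom.comap_ker, RingHom.ker_eq_bot_iff_eq_zero _ |>.mpr, ← RingHom.ker_eq_comap_bot,
      IsLocalRing.ker_residue]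
    intro x hx
    rw [RingHom.comp_apply] at hx
    exact (map_eq_zero_iff e.symm.toRingHom e.symm.injective).mp ((map_eq_zero_iff ι ι.injective).mp hx)
  · ext a
    simp only [RingHom.comp_apply]
    rw [IsScalarTower.algebraMap_apply A Ap R]
    have h1 : e (IsLocalRing.residue Ap (algebraMap A Ap a)) =
        IsLocalRing.residue R (algebraMap Ap R (algebraMap A Ap a)) :=
      IsLocalRing.ResidueField.map_residue _ _
    rw [← h1]
    change ι (e.symm (e (IsLocalRing.residue Ap (algebraMap A Ap a)))) = _
    rw [RingEquiv.symm_apply_apply]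
    exact Ideal.ResidueField.map_algebraMap p q (algebraMap A B) rfl a

/-- A module is flat over the base if this holds after flat extensions hitting every maximal ideal. -/
theorem flat_of_forall_maximal {A B M : Type u} [CommRing A] [CommRing B] [Algebra A B] [AddCommGroup M]
    [Module A M] [Module B M] [IsScalarTower A B M]
    (h : ∀ (q : Ideal B) [q.IsMaximal], ∃ (C : Type u) (_ : CommRing C) (_ : Algebra B C)
      (_ : Algebra A C) (_ : IsScalarTower A B C), Module.Flat B C ∧
      (∃ Q : Ideal C, Q.IsPrime ∧ Q.comap (algebraMap B C) = q) ∧ Module.Flat A (C ⊗[B] M)) :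
    Module.Flat A M := by
  rw [Module.Flat.iff_lTensor_preserves_injective_linearMap]
  intro X Y _ _ _ _ f hf
  -- the kernel as a `B`-module
  let F : M ⊗[A] X →ₗ[B] M ⊗[A] Y := TensorProduct.AlgebraTensorModule.lTensor B M f
  suffices Function.Injective F by exact this
  rw [← LinearMap.ker_eq_bot, eq_bot_iff]
  intro z hz
  rw [Submodule.mem_bot]
  by_contra hz0
  have hne : Ideal.torsionOf B _ z ≠ ⊤ := fun h => hz0 ((Ideal.torsionOf_eq_top_iff B z).mp h)
  obtain ⟨q, hq, hle⟩ := Ideal.exists_le_maximal _ hne
  obtain ⟨C, _, _, _, _, hflat, ⟨Q, hQ, hQq⟩, hCM⟩ := h q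
  let a := fun (Z : Type u) (_ : AddCommGroup Z) (_ : Module A Z) =>
    TensorProduct.AlgebraTensorModule.assoc A B C C M Z
  have hinj : Function.Injective (TensorProduct.AlgebraTensorModule.lTensor C (C ⊗[B] M) f) :=
    Module.Flat.lTensor_preserves_injective_linearMap (M := C ⊗[B] M) f hf
  have hcomm : ∀ w, a Y inferInstance inferInstance
      (TensorProduct.AlgebraTensorModule.lTensor C (C ⊗[B] M) f w) =
        F.lTensor C (a X inferInstance inferInstance w) := by
    intro w
    induction w using TensorProduct.induction_on with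
    | zero => simp
    | add u v hu hv => simp only [map_add, hu, hv]
    | tmul u x =>
      induction u using TensorProduct.induction_on with
      | zero => simp
      | add u v hu hv => simp only [add_tmul, map_add, hu, hv]
      | tmul c m => simp [a, F]
  have hz1 : (1 : C) ⊗ₜ[B] z = 0 := by
    obtain ⟨w, hw⟩ := (a X inferInstance inferInstance).surjective ((1 : C) ⊗ₜ[B] z)
    have h0 : TensorProduct.AlgebraTensorModule.lTensor C (C ⊗[B] M) f w = 0 := by
      apply (a Y inferInstance inferInstance).injective
      rw [hcomm, hw, map_zero, LinearMap.lTensor_tmul, show F z = 0 from hz, tmul_zero]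
    rw [← hw, hinj (h0.trans (map_zero _).symm), map_zero]
  -- the annihilator extends to the unit ideal
  let j := LinearMap.toSpanSingleton B (M ⊗[A] X) z
  have hkill : ∀ t : C ⊗[B] (B ⧸ LinearMap.ker j), t = 0 := by
    have hjinj : Function.Injective ((LinearMap.ker j).liftQ j le_rfl) :=
      LinearMap.ker_eq_bot.mp (Submodule.ker_liftQ_eq_bot _ _ _ le_rfl)
    have h2 := Module.Flat.lTensor_preserves_injective_linearMap (M := C) _ hjinj
    intro t
    apply h2
    rw [map_zero]
    induction t using TensorProduct.induction_on with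
    | zero => simp
    | add u v hu hv => rw [map_add, hu, hv, add_zero]
    | tmul c b =>
      obtain ⟨b, rfl⟩ := Submodule.Quotient.mk_surjective _ b
      rw [LinearMap.lTensor_tmul, Submodule.liftQ_apply, LinearMap.toSpanSingleton_apply, tmul_smul,
        show c ⊗ₜ[B] z = c • ((1 : C) ⊗ₜ[B] z) by rw [smul_tmul', smul_eq_mul, mul_one], hz1,
        smul_zero, smul_zero]
  have htop : (Ideal.torsionOf B _ z).map (algebraMap B C) = ⊤ := by
    refine (Ideal.eq_top_iff_one _).mpr ?_
    let E := Algebra.TensorProduct.quotIdealMapEquivTensorQuot C (Ideal.torsionOf B _ z)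
    rw [← Ideal.Quotient.eq_zero_iff_mem]
    exact E.injective ((hkill (E _)).trans (map_zero E).symm)
  refine hQ.ne_top (top_le_iff.mp (htop ▸ Ideal.map_le_iff_le_comap.mpr ?_))
  exact hle.trans hQq.ge

end Groth.Calg5.QFLocal
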