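import Groth.Agent.KoszulLCI.Fibrewise
import Groth.Agent.KoszulLCI.Seq
import Groth.Agent.Calg5.RelGCINoeth
import Groth.Agent.Calg5.QFLocal

/-!
Lifting Koszul-regular sequences with flat quotient along nilpotent thickenings of an Artinian local base.
-/

set_option autoImplicit false
set_option linter.style.haveILetI false

universe u

open IsLocalRing RingTheory.Sequence TensorProduct

namespace Groth.Calg5.KoszulLifts

/-- The sequence is `H₁`-regular in the closed fibre. -/
theorem isH1Regular_fibre {A' R' : Type u} [CommRing A'] [IsLocalRing A'] [CommRing R'] [Algebra A' R']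
    (I : Ideal A') (hI : I ≠ ⊤) {r : ℕ} (f' : Fin r → R')
    (hf : CAlgX.IsH1Regular (Ideal.Quotient.mk (I.map (algebraMap A' R')) ∘ f'))
    [Module.Flat (A' ⧸ I) ((R' ⧸ I.map (algebraMap A' R')) ⧸
      Ideal.span (Set.range (Ideal.Quotient.mk (I.map (algebraMap A' R')) ∘ f')))] :
    CAlgX.IsH1Regular (Ideal.Quotient.mk ((maximalIdeal A').map (algebraMap A' R')) ∘ f') := by
  let J := I.map (algebraMap A' R')
  let K := (maximalIdeal A').map (algebraMap A' R')
  have hle : J ≤ K := Ideal.map_mono (le_maximalIdeal hI)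
  let p : Ideal (A' ⧸ I) := (maximalIdeal A').map (Ideal.Quotient.mk I)
  have hp : p.map (algebraMap (A' ⧸ I) (R' ⧸ J)) = K.map (Ideal.Quotient.mk J) := by
    rw [Ideal.map_map, Ideal.map_map]
    rfl
  have h1 := Groth.KoszulLCI.isH1Regular_mk_of_flat (A := A' ⧸ I) (Ideal.Quotient.mk J ∘ f') hf p
  let e : (R' ⧸ J) ⧸ p.map (algebraMap (A' ⧸ I) (R' ⧸ J)) ≃+* R' ⧸ K :=
    (Ideal.quotEquivOfEq hp).trans (DoubleQuot.quotQuotEquivQuotOfLE hle)
  exact Groth.KoszulLCI.isH1Regular_map e.toRingHom (RingHom.Flat.of_bijective e.bijective) h1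

variable {A' R' : Type u} [CommRing A'] [IsLocalRing A'] [IsArtinianRing A'] [CommRing R'] [Algebra A' R']
  [IsNoetherianRing R'] [Module.Flat A' R']

/-- Local form: an `H₁`-regular sequence of the closed fibre is regular with flat quotient in every local
ring of the zero locus. -/
theorem regular_flat_local {r : ℕ} (f' : Fin r → R')
    (hf : CAlgX.IsH1Regular (Ideal.Quotient.mk ((maximalIdeal A').map (algebraMap A' R')) ∘ f'))
    (Q : Ideal R') [Q.IsPrime] (hQ : ∀ i, f' i ∈ Q) :
    IsWeaklyRegular (Localization.AtPrime Q) (List.ofFn (algebraMap R' (Localization.AtPrime Q) ∘ f')) ∧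
      Module.Flat A' (Localization.AtPrime Q ⧸
        (Ideal.span (Set.range f')).map (algebraMap R' (Localization.AtPrime Q))) := by
  let S := Localization.AtPrime Q
  let θ := algebraMap R' S
  have hnil : IsNilpotent (maximalIdeal A') := by
    have := IsArtinianRing.isNilpotent_jacobson_bot (R := A')
    rwa [IsLocalRing.jacobson_eq_maximalIdeal _ bot_ne_top] at this
  haveI : IsLocalHom (algebraMap A' S) := ⟨fun a ha => by
    by_contra hau
    obtain ⟨n, hn⟩ := hnil
    have h0 : a ^ n = 0 := by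
      have := Ideal.pow_mem_pow ((mem_maximalIdeal a).mpr hau) n
      rwa [hn] at this
    have h1 : (algebraMap A' S a) ^ n = 0 := by rw [← map_pow, h0, map_zero]
    exact not_isUnit_zero (h1 ▸ ha.pow n)⟩
  haveI : Module.Flat A' S := Module.Flat.trans A' R' S
  let K := (maximalIdeal A').map (algebraMap A' R')
  let KS := (maximalIdeal A').map (algebraMap A' S)
  have hKS : K.map θ = KS := by rw [Ideal.map_map, ← IsScalarTower.algebraMap_eq]
  let ψ : R' ⧸ K →+* (R' ⧸ K) ⊗[R'] S := algebraMap (R' ⧸ K) _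
  have hψ : ψ.Flat := RingHom.flat_algebraMap_iff.mpr inferInstance
  let e : (R' ⧸ K) ⊗[R'] S ≃+* S ⧸ KS :=
    ((Algebra.TensorProduct.comm R' (R' ⧸ K) S).toRingEquiv.trans
      (Algebra.TensorProduct.quotIdealMapEquivTensorQuot S K).symm.toRingEquiv).trans (Ideal.quotEquivOfEq hKS)
  let ρ : R' ⧸ K →+* S ⧸ KS := e.toRingHom.comp ψ
  have hρ : ρ.Flat := RingHom.Flat.comp hψ (RingHom.Flat.of_bijective e.bijective)
  have hρf : ∀ x, ρ (Ideal.Quotient.mk K x) = Ideal.Quotient.mk KS (θ x) := by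
    intro x
    refine RingHom.congr_fun (?_ : ρ.comp (Ideal.Quotient.mk K) = (Ideal.Quotient.mk KS).comp θ) x
    ext y
    have h1 : ψ (Ideal.Quotient.mk K y) = (1 : R' ⧸ K) ⊗ₜ[R'] (θ y) := by
      change (Ideal.Quotient.mk K y) ⊗ₜ[R'] (1 : S) = _
      rw [show Ideal.Quotient.mk K y = y • (1 : R' ⧸ K) by
        rw [← Ideal.Quotient.algebraMap_eq, Algebra.algebraMap_eq_smul_one], TensorProduct.smul_tmul,
        ← Algebra.algebraMap_eq_smul_one]
    change e (ψ (Ideal.Quotient.mk K y)) = _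
    rw [h1]
    change Ideal.quotEquivOfEq hKS ((Algebra.TensorProduct.quotIdealMapEquivTensorQuot S K).symm
      (θ y ⊗ₜ[R'] (1 : R' ⧸ K))) = _
    rw [← Algebra.TensorProduct.quotIdealMapEquivTensorQuot_mk, AlgEquiv.symm_apply_apply]
    rfl
  have hH : CAlgX.IsH1Regular (fun i => Ideal.Quotient.mk KS (θ (f' i))) := by
    have := Groth.KoszulLCI.isH1Regular_map ρ hρ hf
    rwa [show ρ ∘ (Ideal.Quotient.mk K ∘ f') = fun i => Ideal.Quotient.mk KS (θ (f' i)) from
      funext fun i => hρf _] at this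
  haveI : Nontrivial (S ⧸ KS) := Ideal.Quotient.nontrivial_iff.mpr
    ((IsLocalRing.maximalIdeal.isMaximal S).ne_top ∘ fun h => top_le_iff.mp
      (h ▸ Ideal.map_le_iff_le_comap.mpr (fun a ha hu => (mem_maximalIdeal a).mp ha (isUnit_of_map_unit _ a hu))))
  haveI : IsLocalHom (Ideal.Quotient.mk KS) := IsLocalHom.of_surjective _ Ideal.Quotient.mk_surjective
  haveI : IsLocalRing (S ⧸ KS) := IsLocalRing.of_surjective' _ Ideal.Quotient.mk_surjective
  have hw : IsWeaklyRegular (S ⧸ KS) (List.ofFn fun i => Ideal.Quotient.mk KS (θ (f' i))) := by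
    refine Groth.EGA41Two.isWeaklyRegular_of_isQuasiRegular _ _ _ (fun i => ?_)
      (Groth.Calg1.isQuasiRegular_of_isH1Regular _ hH)
    rw [IsLocalRing.ringJacobson_eq_maximalIdeal]
    have : θ (f' i) ∈ maximalIdeal S := by
      rw [← Localization.AtPrime.map_eq_maximalIdeal]
      exact Ideal.mem_map_of_mem _ (hQ i)
    exact fun hu => this (isUnit_of_map_unit (Ideal.Quotient.mk KS) _ hu)
  have hw' : IsWeaklyRegular (S ⧸ KS) (List.ofFn (θ ∘ f')) := by
    refine (isWeaklyRegular_map_algebraMap_iff (S ⧸ KS) (S ⧸ KS) (List.ofFn (θ ∘ f'))).mp ?_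
    rw [List.map_ofFn]
    exact hw
  have hw'' : IsWeaklyRegular (S ⊗[A'] ResidueField A') (List.ofFn (θ ∘ f')) :=
    ((Algebra.TensorProduct.quotIdealMapEquivTensorQuot S
      (maximalIdeal A')).toLinearEquiv.isWeaklyRegular_congr _).mp hw'
  obtain ⟨h1, h2⟩ := Groth.Calg5.RelGCI.regular_flat_of_fibre (A := A') (List.ofFn (θ ∘ f')) S hw''
  refine ⟨h1, ?_⟩
  have hr : Ideal.ofList ((List.ofFn (θ ∘ f')).take r) • (⊤ : Submodule S S) =
      ((Ideal.span (Set.range f')).map θ : Ideal S) := by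
    rw [List.take_of_length_le (List.length_ofFn (f := θ ∘ f')).le, smul_eq_mul, Ideal.mul_top,
      Ideal.map_span, ← Set.range_comp]
    refine congrArg Ideal.span ?_
    ext x
    simp [List.mem_ofFn]
  haveI := h2 r
  exact Module.Flat.of_linearEquiv ((Submodule.quotEquivOfEq _ _ hr).restrictScalars A').symm

/-- Global form. -/
theorem regular_flat {r : ℕ} (f' : Fin r → R')
    (hf : CAlgX.IsH1Regular (Ideal.Quotient.mk ((maximalIdeal A').map (algebraMap A' R')) ∘ f')) :
    Module.Flat A' (R' ⧸ Ideal.span (Set.range f')) ∧ LCI.IsKoszulRegularSeq R' (List.ofFn f') := by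
  refine ⟨?_, ?_⟩
  · refine Groth.Calg5.QFLocal.flat_of_forall_maximal (B := R') fun q _ => ⟨Localization.AtPrime q, inferInstance,
      inferInstance, inferInstance, inferInstance, inferInstance,
      ⟨maximalIdeal _, inferInstance, IsLocalization.AtPrime.comap_maximalIdeal _ q⟩, ?_⟩
    let S := Localization.AtPrime q
    suffices Module.Flat A' (S ⧸ (Ideal.span (Set.range f')).map (algebraMap R' S)) from
      Module.Flat.of_linearEquiv ((Algebra.TensorProduct.quotIdealMapEquivTensorQuot S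
        (Ideal.span (Set.range f'))).toLinearEquiv.restrictScalars A').symm
    by_cases hq : ∀ i, f' i ∈ q
    · exact (regular_flat_local f' hf q hq).2
    · push Not at hq
      obtain ⟨i, hi⟩ := hq
      have htop : (Ideal.span (Set.range f')).map (algebraMap R' S) = ⊤ :=
        Ideal.eq_top_of_isUnit_mem _ (Ideal.mem_map_of_mem _ (Ideal.subset_span ⟨i, rfl⟩))
          (IsLocalization.map_units S (⟨f' i, hi⟩ : q.primeCompl))
      haveI : Subsingleton (S ⧸ (Ideal.span (Set.range f')).map (algebraMap R' S)) :=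
        Ideal.Quotient.subsingleton_iff.mpr htop
      infer_instance
  · refine Groth.KoszulLCI.isKoszulRegularSeq_of_localization _ fun m _ hm => ?_
    rw [List.map_ofFn]
    exact Groth.KoszulLCI.isKoszulRegularSeq_of_isWeaklyRegular
      (regular_flat_local f' hf m fun i => hm (Ideal.subset_span (List.mem_ofFn.mpr ⟨i, rfl⟩))).1

end Groth.Calg5.KoszulLifts
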