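import Mathlib
import Groth.Prelude.Def_QFDual
import Groth.Agent.Calg5.OpenImmAway
import Groth.Agent.Calg5.QFLocal

/-!
Base change and flatness of the dualizing module of a flat quasi-finite map, by factoring multiplication
through finite free modules (Lazard).
-/

set_option autoImplicit false
set_option linter.style.haveILetI false

universe u

open TensorProduct

namespace Groth.Calg5.OmegaBC

variable {A B' : Type u} [CommRing A] [CommRing B'] [Algebra A B']

/-- Where `B'` is flat, a power of `g` factors through a finite free module. -/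
theorem exists_factor [Module.FinitePresentation A B'] (g : B') (C : Type u) [CommRing C] [Algebra B' C]
    [IsLocalization.Away g C] [Algebra A C] [IsScalarTower A B' C] [Module.Flat A C] :
    ∃ (N k : ℕ) (φ : Fin k → Disc.Omega A B') (y : Fin k → B'),
      ∀ b, g ^ N * b = ∑ i, algebraMap A B' ((φ i).toLinearMap b) * y i := by
  classical
  obtain ⟨k, a, Y, hY⟩ :=
    Module.Flat.exists_factorization_of_finitePresentation ((IsScalarTower.toAlgHom A B' C).toLinearMap)
  obtain ⟨⟨s, n, rfl⟩, hs⟩ := IsLocalization.exist_integer_multiples_of_finite (Submonoid.powers g)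
    (fun i : Fin k => Y (Finsupp.single i 1))
  choose y' hy' using hs
  let φ : Fin k → Disc.Omega A B' := fun i => ⟨(Finsupp.lapply i).comp a⟩
  let D : B' →ₗ[A] B' := LinearMap.mulLeft A (g ^ n) -
    ∑ i, (LinearMap.mulRight A (y' i)).comp ((Algebra.linearMap A B').comp ((φ i).toLinearMap))
  have hD : ∀ b, algebraMap B' C (D b) = 0 := by
    intro b
    have hb : algebraMap B' C b = Y (a b) := LinearMap.congr_fun hY b
    have h1 : Y (a b) = ∑ i, a b i • Y (Finsupp.single i 1) := by
      conv_lhs => rw [← (a b).univ_sum_single]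
      rw [map_sum]
      exact Finset.sum_congr rfl fun i _ => by rw [← map_smul, Finsupp.smul_single_one]
    simp only [D, LinearMap.sub_apply, LinearMap.mulLeft_apply, LinearMap.coe_sum, Finset.sum_apply,
      LinearMap.comp_apply, LinearMap.mulRight_apply, Algebra.linearMap_apply, map_sub, map_sum, map_mul]
    rw [sub_eq_zero, hb, h1, Finset.mul_sum]
    refine Finset.sum_congr rfl fun i _ => ?_
    rw [hy' i]
    simp [φ, Algebra.smul_def, ← IsScalarTower.algebraMap_apply, mul_left_comm]
  obtain ⟨T, hT⟩ := Module.Finite.fg_top (R := A) (M := B')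
  have hz : ∀ t : B', ∃ m : ℕ, g ^ m * D t = 0 := by
    intro t
    obtain ⟨⟨_, m, rfl⟩, hm⟩ := (IsLocalization.map_eq_zero_iff (Submonoid.powers g) C _).mp (hD t)
    exact ⟨m, hm⟩
  choose m hm using hz
  let M := T.sup m
  have hM : (LinearMap.mulLeft A (g ^ M)).comp D = 0 := by
    refine LinearMap.ext_on hT fun t ht => ?_
    obtain ⟨r, hr⟩ := Nat.exists_eq_add_of_le (Finset.le_sup (f := m) ht)
    simp [M, hr, pow_add, mul_comm (g ^ m t) (g ^ r), hm]
  refine ⟨M + n, k, φ, fun i => g ^ M * y' i, fun b => ?_⟩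
  have := LinearMap.congr_fun hM b
  simp only [LinearMap.comp_apply, D, LinearMap.mulLeft_apply, LinearMap.sub_apply, LinearMap.coe_sum,
    Finset.sum_apply, LinearMap.mulRight_apply, Algebra.linearMap_apply, LinearMap.zero_apply, mul_sub,
    sub_eq_zero, Finset.mul_sum] at this
  rw [pow_add, mul_assoc, this]
  exact Finset.sum_congr rfl fun i _ => by ring

theorem smul_eq_sum {g : B'} {N k : ℕ} {φ : Fin k → Disc.Omega A B'} {y : Fin k → B'}
    (h : ∀ b, g ^ N * b = ∑ i, algebraMap A B' ((φ i).toLinearMap b) * y i) (ψ : Disc.Omega A B') :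
    g ^ N • ψ = ∑ i, algebraMap A B' (ψ.toLinearMap (y i)) • φ i := by
  refine Disc.Omega.ext (LinearMap.ext fun x => ?_)
  have hsum : ∀ (s : Finset (Fin k)) (f : Fin k → Disc.Omega A B'),
      (∑ i ∈ s, f i).toLinearMap x = ∑ i ∈ s, (f i).toLinearMap x := by
    intro s f
    induction s using Finset.induction_on with
    | empty => simp
    | insert i s hi ih => rw [Finset.sum_insert hi, Finset.sum_insert hi, ← ih]; rfl
  rw [hsum, Disc.Omega.smul_toLinearMap_apply, h, map_sum]
  refine Finset.sum_congr rfl fun i _ => ?_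
  rw [Disc.Omega.smul_toLinearMap_apply, ← Algebra.smul_def, ← Algebra.smul_def, map_smul, map_smul,
    smul_eq_mul, smul_eq_mul, mul_comm]

/-- Localizations of `Hom_A(B', A)` on which `B'` is locally free are flat. -/
theorem flat_localized_omega (g : B') {N k : ℕ} (φ : Fin k → Disc.Omega A B') (y : Fin k → B')
    (h : ∀ b, g ^ N * b = ∑ i, algebraMap A B' ((φ i).toLinearMap b) * y i)
    {H : Type u} [AddCommGroup H] [Module B' H] [Module A H] [IsScalarTower A B' H]
    (f : Disc.Omega A B' →ₗ[B'] H) [IsLocalizedModule (Submonoid.powers g) f] : Module.Flat A H := by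
  refine Module.Flat.of_forall_exists_factorization fun {l c x} hxc => ?_
  obtain ⟨⟨s, n, rfl⟩, hs⟩ : ∃ s : Submonoid.powers g, ∀ i, ∃ ψ, f ψ = (s : B') • x (Finsupp.single i 1) := by
    choose z hz using fun i => IsLocalizedModule.surj (Submonoid.powers g) f (x (Finsupp.single i 1))
    refine ⟨∏ i, (z i).2, fun i => ⟨(∏ j ∈ Finset.univ.erase i, ((z j).2 : B')) • (z i).1, ?_⟩⟩
    rw [map_smul, ← hz i, Submonoid.smul_def, smul_smul, Submonoid.coe_finsetProd,
      Finset.prod_erase_mul _ _ (Finset.mem_univ i)]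
  choose ψ hψ using hs
  have hsum : ∀ v : Fin l →₀ A, x v = ∑ i, v i • x (Finsupp.single i 1) := by
    intro v
    conv_lhs => rw [← v.univ_sum_single]
    rw [map_sum]
    exact Finset.sum_congr rfl fun i _ => by rw [← map_smul, Finsupp.smul_single_one]
  -- the lifted relation is killed by a power of `g`
  have h0 : f (∑ i, algebraMap A B' (c i) • ψ i) = 0 := by
    rw [map_sum]
    have : ∑ i, g ^ n • (c i • x (Finsupp.single i 1)) = 0 := by rw [← Finset.smul_sum, ← hsum, hxc, smul_zero]
    refine Eq.trans (Finset.sum_congr rfl fun i _ => ?_) this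
    rw [map_smul, hψ, algebraMap_smul]
    exact (smul_comm (g ^ n) (c i) _).symm
  obtain ⟨⟨_, m, rfl⟩, hm⟩ := (IsLocalizedModule.eq_zero_iff (Submonoid.powers g) f).mp h0
  rw [Submonoid.smul_def, Finset.smul_sum] at hm
  -- the factorization
  let a : (Fin l →₀ A) →ₗ[A] (Fin k →₀ A) := Finsupp.linearCombination A fun i =>
    Finsupp.equivFunOnFinite.symm fun j => (g ^ m • ψ i).toLinearMap (y j)
  have ha : ∀ v j, a v j = ∑ i, v i * (g ^ m • ψ i).toLinearMap (y j) := by
    intro v j
    simp [a, Finsupp.linearCombination_apply, Finsupp.sum_fintype]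
  have hu : IsUnit (algebraMap B' (Module.End B' H) (g ^ (N + (m + n)))) :=
    IsLocalizedModule.map_units f (⟨_, N + (m + n), rfl⟩ : Submonoid.powers g)
  obtain ⟨u, hu'⟩ := hu
  let Y : (Fin k →₀ A) →ₗ[A] H :=
    ((↑u⁻¹ : Module.End B' H).restrictScalars A).comp (Finsupp.linearCombination A fun j => f (φ j))
  refine ⟨k, a, Y, ?_, Finsupp.ext fun j => ?_⟩
  · refine Finsupp.lhom_ext fun i r => ?_
    rw [← Finsupp.smul_single_one, map_smul, map_smul]
    congr 1
    let u' : Module.End B' H := (↑u⁻¹ : Module.End B' H)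
    have hinv : ∀ z, u' ((g ^ (N + (m + n))) • z) = z := fun z => by
      have := LinearMap.congr_fun u.inv_mul z
      rw [Module.End.mul_apply, hu'] at this
      exact this
    refine (hinv _).symm.trans (congrArg u' ?_)
    have e : a (Finsupp.single i 1) = Finsupp.equivFunOnFinite.symm fun j => (g ^ m • ψ i).toLinearMap (y j) := by
      simp [a]
    rw [e, Finsupp.linearCombination_apply, Finsupp.sum_fintype _ _ (by simp), pow_add, mul_smul,
      pow_add, mul_smul, ← hψ, ← map_smul f (g ^ m), ← map_smul f (g ^ N), smul_eq_sum h, map_sum]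
    exact Finset.sum_congr rfl fun j _ => by rw [map_smul, algebraMap_smul]; rfl
  · rw [ha, Finsupp.zero_apply]
    have hh := congrArg (fun z : Disc.Omega A B' => z.toLinearMap (y j)) hm
    have hsum' : ∀ (s : Finset (Fin l)) (F : Fin l → Disc.Omega A B'),
        (∑ i ∈ s, F i).toLinearMap (y j) = ∑ i ∈ s, (F i).toLinearMap (y j) := by
      intro s F
      induction s using Finset.induction_on with
      | empty => simp
      | insert i s hi ih => rw [Finset.sum_insert hi, Finset.sum_insert hi, ← ih]; rfl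
    simp only [hsum', Disc.Omega.zero_toLinearMap, LinearMap.zero_apply] at hh
    refine Eq.trans (Finset.sum_congr rfl fun i _ => ?_) hh
    simp only [Disc.Omega.smul_toLinearMap_apply]
    rw [← smul_eq_mul (c i), ← map_smul, Algebra.smul_def]

section BaseChange

variable {A₁ B'₁ B₁ : Type u} [CommRing A₁] [CommRing B'₁] [CommRing B₁]
  [Algebra A A₁] [Algebra B' B'₁] [Algebra A₁ B'₁] [Algebra A B'₁]
  [IsScalarTower A A₁ B'₁] [IsScalarTower A B' B'₁]
  [Algebra B'₁ B₁] [Algebra B' B₁] [IsScalarTower B' B'₁ B₁]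

/-- Up to a power of `g` the base-change map is invertible. -/
theorem exists_almost_inverse (h : Algebra.IsPushout A A₁ B' B'₁) {g : B'} {N k : ℕ}
    (φ : Fin k → Disc.Omega A B') (y : Fin k → B')
    (hf : ∀ b, g ^ N * b = ∑ i, algebraMap A B' ((φ i).toLinearMap b) * y i) :
    ∃ T : QFDual.omega A₁ B'₁ B₁ →ₗ[B₁] QFDual.omega A B' B₁,
      (∀ z, T (QFDual.omegaBC h z) = algebraMap B' B₁ (g ^ (N + N)) • z) ∧
        ∀ z, QFDual.omegaBC h (T z) = algebraMap B' B₁ (g ^ (N + N)) • z := by
  classical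
  let ι : A₁ →+* B₁ := (algebraMap B'₁ B₁).comp (algebraMap A₁ B'₁)
  have hι : ∀ a, ι (algebraMap A A₁ a) = algebraMap B' B₁ (algebraMap A B' a) := by
    intro a
    change algebraMap B'₁ B₁ (algebraMap A₁ B'₁ (algebraMap A A₁ a)) = _
    rw [← IsScalarTower.algebraMap_apply A A₁ B'₁, IsScalarTower.algebraMap_apply A B' B'₁,
      ← IsScalarTower.algebraMap_apply B' B'₁ B₁]
  let ev : Disc.Omega A₁ B'₁ → B' → B₁ := fun ψ b => ι (ψ.toLinearMap (algebraMap B' B'₁ b))
  have hev : ∀ ψ (c : Fin k → A) (b : Fin k → B'), ev ψ (∑ i, algebraMap A B' (c i) * b i) =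
      ∑ i, algebraMap B' B₁ (algebraMap A B' (c i)) * ev ψ (b i) := by
    intro ψ c b
    simp only [ev, map_sum, map_mul, ← IsScalarTower.algebraMap_apply A B' B'₁]
    refine Finset.sum_congr rfl fun i _ => ?_
    rw [IsScalarTower.algebraMap_apply A A₁ B'₁, ← Algebra.smul_def, map_smul, smul_eq_mul, map_mul, hι]
  let τ₀ : Disc.Omega A₁ B'₁ → QFDual.omega A B' B₁ := fun ψ => ∑ i, ev ψ (g ^ N * y i) ⊗ₜ[B'] φ i
  let ρ : Disc.Omega A₁ B'₁ → QFDual.omega A B' B₁ := fun ψ => ∑ i, ev ψ (y i) ⊗ₜ[B'] φ i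
  -- the key identity
  have key : ∀ ψ b, (∑ i, ev ψ (b * (g ^ N * y i)) ⊗ₜ[B'] φ i) = algebraMap B' B₁ (b * g ^ N) • ρ ψ := by
    intro ψ b
    have e1 : ∀ i, ev ψ (b * (g ^ N * y i)) =
        ∑ j, algebraMap B' B₁ (algebraMap A B' ((φ j).toLinearMap (b * y i))) * ev ψ (y j) := by
      intro i
      rw [mul_left_comm, hf, hev]
    simp only [e1, TensorProduct.sum_tmul]
    rw [Finset.sum_comm, Finset.smul_sum]
    refine Finset.sum_congr rfl fun j _ => ?_
    have e2 : (b * g ^ N) • φ j = ∑ i, algebraMap A B' ((φ j).toLinearMap (b * y i)) • φ i := by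
      rw [mul_comm, mul_smul, smul_eq_sum hf]
      rfl
    rw [algebraMap_smul, ← TensorProduct.tmul_smul, e2, TensorProduct.tmul_sum]
    refine Finset.sum_congr rfl fun i _ => ?_
    rw [← Algebra.smul_def, TensorProduct.smul_tmul]
  have hτ1 : ∀ ψ, τ₀ ψ = algebraMap B' B₁ (g ^ N) • ρ ψ := by
    intro ψ
    have := key ψ 1
    simp only [one_mul] at this
    exact this
  let τa : Disc.Omega A₁ B'₁ →+ QFDual.omega A B' B₁ :=
    { toFun := τ₀
      map_zero' := by simp [τ₀, ev]
      map_add' := fun ψ ψ' => by simp [τ₀, ev, TensorProduct.add_tmul, Finset.sum_add_distrib] }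
  have hτ : ∀ (c : B'₁) ψ, τ₀ (c • ψ) = algebraMap B'₁ B₁ c • τ₀ ψ := by
    intro c
    induction c using h.out.inductionOn with
    | zero =>
      intro ψ
      rw [zero_smul, map_zero, zero_smul]
      exact τa.map_zero
    | tmul b =>
      intro ψ
      change τ₀ (algebraMap B' B'₁ b • ψ) = algebraMap B'₁ B₁ (algebraMap B' B'₁ b) • τ₀ ψ
      rw [← IsScalarTower.algebraMap_apply B' B'₁ B₁, hτ1 ψ, smul_smul, ← map_mul, ← key ψ b]
      refine Finset.sum_congr rfl fun i _ => ?_
      congr 1
      simp [ev, map_mul]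
    | smul a c ih =>
      intro ψ
      have e : τ₀ (algebraMap A₁ B'₁ a • (c • ψ)) = ι a • τ₀ (c • ψ) := by
        simp only [τ₀, Finset.smul_sum, TensorProduct.smul_tmul', smul_eq_mul]
        refine Finset.sum_congr rfl fun i _ => ?_
        congr 1
        simp only [ev, Disc.Omega.smul_toLinearMap_apply]
        rw [← Algebra.smul_def, mul_smul_comm, map_smul, smul_eq_mul, map_mul]
      rw [Algebra.smul_def, mul_smul, e, ih, map_mul, mul_smul]
      rfl
    | add c c' ih ih' =>
      intro ψ
      rw [add_smul, map_add, add_smul, ← ih, ← ih']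
      exact τa.map_add _ _
  let τ : Disc.Omega A₁ B'₁ →ₗ[B'₁] QFDual.omega A B' B₁ :=
    { toFun := τ₀
      map_add' := τa.map_add
      map_smul' := fun c ψ => by rw [hτ, algebraMap_smul, RingHom.id_apply] }
  let T : QFDual.omega A₁ B'₁ B₁ →ₗ[B₁] QFDual.omega A B' B₁ :=
    TensorProduct.AlgebraTensorModule.lift
      (LinearMap.toSpanSingleton B₁ (Disc.Omega A₁ B'₁ →ₗ[B'₁] QFDual.omega A B' B₁) τ)
  have hT : ∀ b₁ ψ, T (b₁ ⊗ₜ[B'₁] ψ) = b₁ • τ₀ ψ := fun b₁ ψ => rfl
  refine ⟨T, fun z => ?_, fun z => ?_⟩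
  · induction z using TensorProduct.induction_on with
    | zero => simp
    | add z z' hz hz' => rw [map_add, map_add, hz, hz', smul_add]
    | tmul b₁ ψ =>
      rw [QFDual.omegaBC_tmul, hT]
      have e : τ₀ (QFDual.bcFin h ψ) = (1 : B₁) ⊗ₜ[B'] (g ^ (N + N) • ψ) := by
        have e1 : g ^ (N + N) • ψ = ∑ i, algebraMap A B' (ψ.toLinearMap (g ^ N * y i)) • φ i := by
          rw [pow_add, mul_smul, smul_eq_sum hf]
          rfl
        rw [e1, TensorProduct.tmul_sum]
        refine Finset.sum_congr rfl fun i _ => ?_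
        simp only [ev, QFDual.bcFin_apply_algebraMap, hι]
        rw [← TensorProduct.smul_tmul, Algebra.smul_def, mul_one]
      rw [e, TensorProduct.smul_tmul', smul_eq_mul, mul_one, algebraMap_smul, TensorProduct.tmul_smul]
  · induction z using TensorProduct.induction_on with
    | zero => simp
    | add z z' hz hz' => rw [map_add, map_add, hz, hz', smul_add]
    | tmul b₁ ψ =>
      rw [hT, map_smul, map_sum]
      simp only [QFDual.omegaBC_tmul, ev]
      have e : ∑ i, algebraMap A₁ B'₁ (ψ.toLinearMap (algebraMap B' B'₁ (g ^ N * y i))) • QFDual.bcFin h (φ i) =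
          algebraMap B' B'₁ (g ^ (N + N)) • ψ := by
        refine Disc.Omega.ext (h.out.algHom_ext _ _ fun x => ?_)
        change (∑ i, algebraMap A₁ B'₁ (ψ.toLinearMap (algebraMap B' B'₁ (g ^ N * y i))) •
          QFDual.bcFin h (φ i)).toLinearMap (algebraMap B' B'₁ x) = ψ.toLinearMap (algebraMap B' B'₁ (g ^ (N + N)) * algebraMap B' B'₁ x)
        have hsum : ∀ (s : Finset (Fin k)) (F : Fin k → Disc.Omega A₁ B'₁) (z : B'₁),
            (∑ i ∈ s, F i).toLinearMap z = ∑ i ∈ s, (F i).toLinearMap z := by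
          intro s F z
          induction s using Finset.induction_on with
          | empty => simp
          | insert i s hi ih => rw [Finset.sum_insert hi, Finset.sum_insert hi, ← ih]; rfl
        rw [hsum, ← map_mul, show g ^ (N + N) * x = g ^ N * (g ^ N * x) by ring, hf x, Finset.mul_sum, map_sum, map_sum]
        refine Finset.sum_congr rfl fun i _ => ?_
        rw [Disc.Omega.smul_toLinearMap_apply, ← Algebra.smul_def, map_smul, QFDual.bcFin_apply_algebraMap,
          mul_left_comm (g ^ N), map_mul (algebraMap B' B'₁) (algebraMap A B' _),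
          ← IsScalarTower.algebraMap_apply A B' B'₁, IsScalarTower.algebraMap_apply A A₁ B'₁, ← Algebra.smul_def,
          map_smul, smul_eq_mul, smul_eq_mul, mul_comm]
      have e' : ∑ i, ι (ψ.toLinearMap (algebraMap B' B'₁ (g ^ N * y i))) ⊗ₜ[B'₁] QFDual.bcFin h (φ i) =
          (1 : B₁) ⊗ₜ[B'₁] (algebraMap B' B'₁ (g ^ (N + N)) • ψ) := by
        rw [← e, TensorProduct.tmul_sum]
        refine Finset.sum_congr rfl fun i _ => ?_
        rw [← TensorProduct.smul_tmul, Algebra.smul_def, mul_one]
        rfl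
      rw [e', TensorProduct.smul_tmul', smul_eq_mul, mul_one, TensorProduct.tmul_smul]
      simp only [algebraMap_smul]

end BaseChange

section Factor

variable {B : Type u} [CommRing B] [Algebra B' B] [Algebra A B] [IsScalarTower A B' B]

/-- Near every prime of `B` the ring `B` is a localization of `B'` at an element. -/
theorem exists_away [IsNoetherianRing A] [Module.Flat A B] (hf : QFDual.IsQFFactor A B' B)
    (q : Ideal B) [q.IsPrime] :
    ∃ g : B', algebraMap B' B g ∉ q ∧ IsLocalization.Away g (Localization.Away (algebraMap B' B g)) ∧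
      ∃ (N k : ℕ) (φ : Fin k → Disc.Omega A B') (y : Fin k → B'),
        ∀ b, g ^ N * b = ∑ i, algebraMap A B' ((φ i).toLinearMap b) * y i := by
  obtain ⟨g, hg, hbij⟩ := Groth.Calg5.OpenImmAway.exists_awayMap_bijective (algebraMap B' B) hf.isOpenImmersion q
  let C := Localization.Away (algebraMap B' B g)
  have hC : IsLocalization.Away g C := by
    refine IsLocalization.isLocalization_of_algEquiv (Submonoid.powers g)
      (AlgEquiv.ofRingEquiv (R := B') (f := RingEquiv.ofBijective _ hbij) fun x => ?_)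
    rw [RingEquiv.ofBijective_apply, IsScalarTower.algebraMap_apply B' B C]
    exact IsLocalization.map_eq _ x
  haveI := hf.finite
  haveI : Module.FinitePresentation A B' := Module.finitePresentation_of_finite A B'
  haveI : Module.Flat A C := Module.Flat.trans A B C
  exact ⟨g, hg, hC, exists_factor g C⟩

/-- The dualizing module of a flat quasi-finite map is flat over the base. -/
theorem flat_omega [IsNoetherianRing A] [Module.Flat A B] (hf : QFDual.IsQFFactor A B' B) :
    Module.Flat A (QFDual.omega A B' B) := by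
  refine Groth.Calg5.QFLocal.flat_of_forall_maximal (B := B) fun q hq => ?_
  obtain ⟨g, hg, hC, N, k, φ, y, h⟩ := exists_away hf q
  let G := algebraMap B' B g
  let C := Localization.Away G
  refine ⟨C, inferInstance, inferInstance, inferInstance, inferInstance, inferInstance,
    ⟨q.map (algebraMap B C), ?_, ?_⟩, ?_⟩
  · exact IsLocalization.isPrime_of_isPrime_disjoint (Submonoid.powers G) C q inferInstance
      ((Ideal.disjoint_powers_iff_notMem G hq.isPrime.isRadical).mpr hg)
  · exact IsLocalization.under_map_of_isPrime_disjoint (Submonoid.powers G) C hq.isPrime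
      ((Ideal.disjoint_powers_iff_notMem G hq.isPrime.isRadical).mpr hg)
  haveI : IsLocalizedModule (Submonoid.powers g) (TensorProduct.mk B' C (Disc.Omega A B') 1) :=
    (isLocalizedModule_iff_isBaseChange (Submonoid.powers g) C _).mpr (TensorProduct.isBaseChange B' _ C)
  haveI : Module.Flat A (C ⊗[B'] Disc.Omega A B') :=
    flat_localized_omega g φ y h (TensorProduct.mk B' C (Disc.Omega A B') 1)
  exact Module.Flat.of_linearEquiv
    ((TensorProduct.AlgebraTensorModule.cancelBaseChange B' B C C (Disc.Omega A B')).restrictScalars A)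

variable {A₁ B'₁ B₁ : Type u} [CommRing A₁] [CommRing B'₁] [CommRing B₁]
  [Algebra A A₁] [Algebra B' B'₁] [Algebra A₁ B'₁] [Algebra A B'₁]
  [IsScalarTower A A₁ B'₁] [IsScalarTower A B' B'₁]
  [Algebra B'₁ B₁] [Algebra B' B₁] [IsScalarTower B' B'₁ B₁]
  [Algebra B B₁] [IsScalarTower B' B B₁]

/-- Formation of the dualizing module commutes with base change. -/
theorem omegaBC_bijective [IsNoetherianRing A] [Module.Flat A B] (hf : QFDual.IsQFFactor A B' B)
    (h : Algebra.IsPushout A A₁ B' B'₁) : Function.Bijective (QFDual.omegaBC (B₁ := B₁) h) := by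
  suffices key : ∀ (q : Ideal B) [q.IsMaximal], ∃ G : B, G ∉ q ∧
      (∀ z, QFDual.omegaBC (B₁ := B₁) h z = 0 → algebraMap B B₁ G • z = 0) ∧
      ∀ w, algebraMap B B₁ G • w ∈ LinearMap.range (QFDual.omegaBC (B₁ := B₁) h) by
    refine ⟨(injective_iff_map_eq_zero _).mpr fun z hz => ?_, fun w => ?_⟩
    · let J : Ideal B := Ideal.comap (algebraMap B B₁) (LinearMap.ker (LinearMap.toSpanSingleton B₁ _ z))
      by_contra hz0
      have hJ : J ≠ ⊤ := fun hJ => hz0 (by
        have : (1 : B) ∈ J := hJ ▸ Submodule.mem_top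
        simpa [J] using this)
      obtain ⟨q, hq, hle⟩ := Ideal.exists_le_maximal J hJ
      obtain ⟨G, hG, h1, -⟩ := key q
      exact hG (hle (h1 z hz))
    · let J : Ideal B := Ideal.comap (algebraMap B B₁) ((LinearMap.range (QFDual.omegaBC (B₁ := B₁) h)).comap
        (LinearMap.toSpanSingleton B₁ _ w))
      by_contra hw0
      have hJ : J ≠ ⊤ := fun hJ => hw0 (by
        have : (1 : B) ∈ J := hJ ▸ Submodule.mem_top
        simpa [J] using this)
      obtain ⟨q, hq, hle⟩ := Ideal.exists_le_maximal J hJ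
      obtain ⟨G, hG, -, h2⟩ := key q
      exact hG (hle (h2 w))
  intro q hq
  obtain ⟨g, hg, -, N, k, φ, y, hy⟩ := exists_away hf q
  obtain ⟨T, hT1, hT2⟩ := exists_almost_inverse (B₁ := B₁) h φ y hy
  refine ⟨algebraMap B' B (g ^ (N + N)), ?_, fun z hz => ?_, fun w => ⟨T w, ?_⟩⟩
  · rw [map_pow]
    exact fun hmem => hg (hq.isPrime.mem_of_pow_mem _ hmem)
  · rw [← IsScalarTower.algebraMap_apply B' B B₁, ← hT1 z, hz, map_zero]
  · rw [hT2, ← IsScalarTower.algebraMap_apply B' B B₁]

end Factor

end Groth.Calg5.OmegaBC
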