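import Mathlib
import Groth.Agent.Syntomic.Main

/-!
Shrinking a presentation to a relative global complete intersection.
-/

set_option autoImplicit false
set_option linter.style.haveILetI false

universe u

open MvPolynomial

namespace Groth.Calg5.RelGCIOpen

variable {R : Type u} [CommRing R] {n c : ℕ}

/-- The presentation of a basic open of `R[x]/(F)`. -/
noncomputable abbrev awayEqs (F : Fin c → MvPolynomial (Fin n) R) (h : MvPolynomial (Fin n) R) :
    Fin (c + 1) → MvPolynomial (Fin (n + 1)) R :=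
  Fin.snoc (fun i => rename Fin.castSucc (F i)) (rename Fin.castSucc h * X (Fin.last n) - 1)

theorem exists_away_equiv (F : Fin c → MvPolynomial (Fin n) R) (h : MvPolynomial (Fin n) R) :
    Nonempty (Localization.Away (Ideal.Quotient.mk (Ideal.span (Set.range F)) h) ≃ₐ[R]
      Synt.RelGCIRing R (n + 1) (c + 1) (awayEqs F h)) := by
  set I := Ideal.span (Set.range F)
  set J := Ideal.span (Set.range (awayEqs F h))
  set g := Ideal.Quotient.mk I h
  let ι : MvPolynomial (Fin n) R →ₐ[R] MvPolynomial (Fin (n + 1)) R := rename Fin.castSucc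
  have hF : ∀ i, ι (F i) ∈ J := fun i => Ideal.subset_span ⟨i.castSucc, by simp [awayEqs, ι]⟩
  have hw : ι h * X (Fin.last n) - 1 ∈ J := Ideal.subset_span ⟨Fin.last c, by simp [awayEqs, ι]⟩
  -- forwards
  let toS : MvPolynomial (Fin n) R →ₐ[R] Localization.Away g :=
    (IsScalarTower.toAlgHom R (MvPolynomial (Fin n) R ⧸ I) (Localization.Away g)).comp
      (Ideal.Quotient.mkₐ R I)
  let v : Fin (n + 1) → Localization.Away g :=
    Fin.snoc (fun i => toS (X i)) (IsLocalization.Away.invSelf g)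
  have hvι : ∀ p, aeval v (ι p) = toS p := fun p => AlgHom.congr_fun
    (show (aeval v).comp ι = toS from algHom_ext fun i => by simp [ι, v]) p
  have hv0 : ∀ a ∈ J, aeval v a = 0 := by
    intro a ha
    refine (Ideal.span_le.mpr ?_ : J ≤ RingHom.ker (aeval v).toRingHom) ha
    rintro _ ⟨i, rfl⟩
    rw [SetLike.mem_coe, RingHom.mem_ker]
    change aeval v (awayEqs F h i) = 0
    induction i using Fin.lastCases with
    | last =>
      rw [awayEqs, Fin.snoc_last, map_sub, map_mul, map_one, hvι, aeval_X, sub_eq_zero,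
        show v (Fin.last n) = IsLocalization.Away.invSelf g from Fin.snoc_last ..]
      exact IsLocalization.Away.mul_invSelf g
    | cast i =>
      rw [awayEqs, Fin.snoc_castSucc, hvι]
      change algebraMap _ (Localization.Away g) (Ideal.Quotient.mk I (F i)) = 0
      rw [Ideal.Quotient.eq_zero_iff_mem.mpr (Ideal.subset_span ⟨i, rfl⟩ : F i ∈ I), map_zero]
  let Φ : Synt.RelGCIRing R (n + 1) (c + 1) (awayEqs F h) →ₐ[R] Localization.Away g :=
    Ideal.Quotient.liftₐ J (aeval v) hv0
  have hΦ : ∀ a, Φ (Ideal.Quotient.mk J a) = aeval v a := fun a => rfl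
  -- backwards
  let ψ₀ : (MvPolynomial (Fin n) R ⧸ I) →ₐ[R] Synt.RelGCIRing R (n + 1) (c + 1) (awayEqs F h) :=
    Ideal.Quotient.liftₐ I ((Ideal.Quotient.mkₐ R J).comp ι) (fun a ha => by
      refine (Ideal.span_le.mpr ?_ : I ≤ RingHom.ker ((Ideal.Quotient.mkₐ R J).comp ι).toRingHom) ha
      rintro _ ⟨i, rfl⟩
      exact Ideal.Quotient.eq_zero_iff_mem.mpr (hF i))
  have hu : IsUnit (ψ₀ g) := IsUnit.of_mul_eq_one (Ideal.Quotient.mk J (X (Fin.last n))) (by
    change Ideal.Quotient.mk J (ι h) * Ideal.Quotient.mk J (X (Fin.last n)) = 1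
    rw [← map_mul, ← map_one (Ideal.Quotient.mk J), Ideal.Quotient.eq]
    exact hw)
  let Ψ : Localization.Away g →ₐ[R] Synt.RelGCIRing R (n + 1) (c + 1) (awayEqs F h) :=
    IsLocalization.liftAlgHom (M := Submonoid.powers g) (f := ψ₀) (fun ⟨y, k, hk⟩ => by
      subst hk
      rw [map_pow]
      exact hu.pow k)
  have hΨ : ∀ x, Ψ (algebraMap _ (Localization.Away g) x) = ψ₀ x := fun x => IsLocalization.lift_eq _ x
  refine ⟨AlgEquiv.ofAlgHom Ψ Φ ?_ ?_⟩
  · refine Ideal.Quotient.algHom_ext _ (algHom_ext fun i => ?_)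
    change Ψ (Φ (Ideal.Quotient.mk J (X i))) = Ideal.Quotient.mk J (X i)
    rw [hΦ, aeval_X]
    induction i using Fin.lastCases with
    | last =>
      rw [show v (Fin.last n) = IsLocalization.Away.invSelf g from Fin.snoc_last ..]
      refine hu.mul_left_cancel ?_
      rw [← hΨ, ← map_mul, IsLocalization.Away.mul_invSelf, map_one, hΨ]
      refine Eq.symm ?_
      change Ideal.Quotient.mk J (ι h) * Ideal.Quotient.mk J (X (Fin.last n)) = 1
      rw [← map_mul, ← map_one (Ideal.Quotient.mk J), Ideal.Quotient.eq]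
      exact hw
    | cast i =>
      rw [show v i.castSucc = toS (X i) from Fin.snoc_castSucc ..]
      change Ψ (algebraMap _ (Localization.Away g) (Ideal.Quotient.mk I (X i))) = _
      rw [hΨ]
      change Ideal.Quotient.mk J (ι (X i)) = _
      rw [show ι (X i) = X i.castSucc from rename_X _ _]
  · refine IsLocalization.algHom_ext (Submonoid.powers g) (Ideal.Quotient.algHom_ext _
      (algHom_ext fun i => ?_))
    change Φ (Ψ (algebraMap _ (Localization.Away g) (Ideal.Quotient.mk I (X i)))) = toS (X i)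
    rw [hΨ]
    change Φ (Ideal.Quotient.mk J (ι (X i))) = _
    rw [hΦ, hvι]

/-- Over a field, `c` equations cutting out something of dimension at most `n - c` cut out exactly
dimension `n - c`. -/
theorem dim_eq_of_le {k : Type u} [Field k] (hc : c ≤ n) (f : Fin c → MvPolynomial (Fin n) k)
    [Nontrivial (MvPolynomial (Fin n) k ⧸ Ideal.span (Set.range f))]
    (h : ringKrullDim (MvPolynomial (Fin n) k ⧸ Ideal.span (Set.range f)) ≤ ((n - c : ℕ) : WithBot ℕ∞)) :
    ringKrullDim (MvPolynomial (Fin n) k ⧸ Ideal.span (Set.range f)) = ((n - c : ℕ) : WithBot ℕ∞) := by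
  have hK : LCI.IsKoszulRegularSeq (MvPolynomial (Fin n) k) (List.ofFn f) :=
    Groth.KoszulLCI.isKoszulRegularSeq_of_localization _ fun m _ hm =>
      Groth.KoszulReg.isKoszulRegularSeq_of_isWeaklyRegular
        (Groth.Calg5.RelGCI.isWeaklyRegular_atPrime_of_dim_le hc f h m (Groth.Calg5.RelGCI.ofList_ofFn f ▸ hm))
  have hne : Ideal.ofList (List.ofFn f) ≠ ⊤ := by
    rw [Groth.Calg5.RelGCI.ofList_ofFn]
    exact Ideal.Quotient.nontrivial_iff.mp inferInstance
  obtain ⟨-, hd⟩ := Groth.Syntomic.dim_quotient_of_koszul _ hK hne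
  rwa [List.length_ofFn, Groth.Calg5.RelGCI.ofList_ofFn] at hd

/-- A presentation whose nonempty fibres have dimension at most `n - c` is a relative global complete
intersection. -/
theorem isRelGCI_of_le (F : Fin c → MvPolynomial (Fin n) R)
    (h : ∀ p : PrimeSpectrum R, Nontrivial (p.asIdeal.Fiber (Synt.RelGCIRing R n c F)) →
      c ≤ n ∧ ringKrullDim (p.asIdeal.Fiber (Synt.RelGCIRing R n c F)) ≤ ((n - c : ℕ) : WithBot ℕ∞)) :
    Synt.IsRelGCI R n c F := by
  intro p hnt
  obtain ⟨hc, hd⟩ := h p hnt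
  have e := (Groth.Calg5.RelGCI.tensorQuotientEquiv p.asIdeal.ResidueField F).toRingEquiv
  haveI := hnt
  haveI : Nontrivial (MvPolynomial (Fin n) p.asIdeal.ResidueField ⧸ Ideal.span (Set.range fun i =>
      MvPolynomial.map (algebraMap R p.asIdeal.ResidueField) (F i))) := e.symm.toEquiv.nontrivial
  exact ⟨hc, (ringKrullDim_eq_of_ringEquiv e).trans (dim_eq_of_le hc _
    ((ringKrullDim_eq_of_ringEquiv e).symm.le.trans hd))⟩

/-- If all points of `D(g)` lie in fibres' pieces of small transcendence degree, the fibres of `S_g`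
have small dimension. -/
theorem ringKrullDim_fiber_away_le {S : Type u} [CommRing S] [Algebra R S] [Algebra.FiniteType R S]
    (g : S) (d : ℕ)
    (h : ∀ q : PrimeSpectrum S, g ∉ q.asIdeal → ∀ (K L : Type u) [Field K] [Field L] [Algebra K L]
      (χ : R →+* K) (ψ : S →+* L), (∀ r, algebraMap K L (χ r) = ψ (algebraMap R S r)) →
      (∀ z, ∃ a b, ψ b ≠ 0 ∧ z = ψ a / ψ b) → RingHom.ker ψ = q.asIdeal →
      Algebra.trdeg K L ≤ (d : Cardinal.{u}))
    (p : Ideal R) [p.IsPrime] : ringKrullDim (p.Fiber (Localization.Away g)) ≤ (d : WithBot ℕ∞) := by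
  haveI : Algebra.FiniteType R (Localization.Away g) :=
    (inferInstance : Algebra.FiniteType R S).trans inferInstance
  refine Groth.Syntomic.ringKrullDim_fiber_le_of_trdeg p d fun K L _ _ _ χ ψ hcomp hgen => ?_
  let ρ := ψ.comp (algebraMap S (Localization.Away g))
  have hg : ρ g ≠ 0 := ((IsLocalization.Away.algebraMap_isUnit g).map ψ).ne_zero
  refine h ⟨RingHom.ker ρ, RingHom.ker_isPrime ρ⟩ hg K L χ ρ (fun r => ?_) (fun z => ?_) rfl
  · rw [hcomp, RingHom.comp_apply, ← IsScalarTower.algebraMap_apply]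
  · obtain ⟨x, y, hy, rfl⟩ := hgen z
    obtain ⟨i, x₀, hx⟩ := IsLocalization.Away.surj g x
    obtain ⟨j, y₀, hy'⟩ := IsLocalization.Away.surj g y
    refine ⟨x₀ * g ^ j, g ^ i * y₀, ?_, ?_⟩
    · rw [map_mul, map_pow]
      refine mul_ne_zero (pow_ne_zero _ hg) ?_
      rw [show ρ y₀ = ψ (algebraMap S (Localization.Away g) y₀) from rfl, ← hy', map_mul, map_pow]
      exact mul_ne_zero hy (pow_ne_zero _ hg)
    · rw [map_mul, map_mul, map_pow, map_pow,
        show ρ x₀ = ψ x * ρ g ^ i by
          rw [show ρ x₀ = ψ (algebraMap S (Localization.Away g) x₀) from rfl, ← hx, map_mul, map_pow]; rfl,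
        show ρ y₀ = ψ y * ρ g ^ j by
          rw [show ρ y₀ = ψ (algebraMap S (Localization.Away g) y₀) from rfl, ← hy', map_mul, map_pow]; rfl]
      have := pow_ne_zero i hg
      have := pow_ne_zero j hg
      field_simp

/-- The presentation of `S_g` is a relative global complete intersection when the fibres of `S_g` are
small. -/
theorem isRelGCI_awayEqs (F : Fin c → MvPolynomial (Fin n) R) (h : MvPolynomial (Fin n) R)
    (hle : ∀ p : Ideal R, ∀ [p.IsPrime],
      Nontrivial (p.Fiber (Localization.Away (Ideal.Quotient.mk (Ideal.span (Set.range F)) h))) →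
      c ≤ n ∧ ringKrullDim (p.Fiber (Localization.Away (Ideal.Quotient.mk (Ideal.span (Set.range F)) h))) ≤
        ((n - c : ℕ) : WithBot ℕ∞)) :
    Synt.IsRelGCI R (n + 1) (c + 1) (awayEqs F h) := by
  obtain ⟨e⟩ := exists_away_equiv F h
  refine isRelGCI_of_le _ fun p hnt => ?_
  let E := Algebra.TensorProduct.congr (AlgEquiv.refl (R := p.asIdeal.ResidueField)
    (A₁ := p.asIdeal.ResidueField)) e
  haveI := hnt
  obtain ⟨hc, hd⟩ := hle p.asIdeal E.toEquiv.nontrivial
  refine ⟨by omega, ?_⟩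
  rw [← ringKrullDim_eq_of_ringEquiv E.toRingEquiv, show n + 1 - (c + 1) = n - c by omega]
  exact hd

end Groth.Calg5.RelGCIOpen
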