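import Groth.Agent.DescentBase.El
import Mathlib.AlgebraicGeometry.Artinian

/-!
Separating families of homomorphisms of modules and flat inverse images.
-/

set_option autoImplicit false
set_option backward.isDefEq.respectTransparency.types false
universe u

open CategoryTheory Limits AlgebraicGeometry Opposite TopologicalSpace TensorProduct

namespace Groth.Calg5.SepFamily

open Groth.QCohMod (res res_res res_app germ germ_res germ_smul exists_germ pullGerm pullGerm_germ
  stalkAlg pullStalkHom pullStalkHom_tmul pullStalkHom_bijective)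
open Groth.PicAux (pullSec pullSec_map)

section Algebra

variable {A B M : Type*} {ι : Type*} {N : ι → Type*} [CommRing A] [AddCommGroup B] [Module A B]
  [AddCommGroup M] [Module A M] [∀ i, AddCommGroup (N i)] [∀ i, Module A (N i)]

theorem eq_zero_of_lTensor_of_flat [Finite ι] [Module.Flat A B] (f : ∀ i, M →ₗ[A] N i)
    (hf : ∀ m, (∀ i, f i m = 0) → m = 0) (z : B ⊗[A] M)
    (hz : ∀ i, (f i).lTensor B z = 0) : z = 0 := by
  classical
  cases nonempty_fintype ι
  have h1 : Function.Injective (LinearMap.pi f) :=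
    (injective_iff_map_eq_zero _).2 fun m hm => hf m fun i => congrFun hm i
  have h2 := Module.Flat.lTensor_preserves_injective_linearMap (M := B) _ h1
  have h3 : ∀ (w : B ⊗[A] M) i, TensorProduct.piRight A A B N ((LinearMap.pi f).lTensor B w) i =
      (f i).lTensor B w := by
    intro w i
    induction w using TensorProduct.induction_on with
    | zero => simp
    | tmul b m => simp
    | add p q hp hq => rw [map_add, map_add, Pi.add_apply, hp, hq, map_add]
  refine (injective_iff_map_eq_zero _).1 h2 z ((TensorProduct.piRight A A B N).injective ?_)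
  rw [map_zero]
  funext i
  rw [h3, hz]
  rfl

theorem eq_zero_of_lTensor_of_free [Module.Free A B] (f : ∀ i, M →ₗ[A] N i)
    (hf : ∀ m, (∀ i, f i m = 0) → m = 0) (z : B ⊗[A] M)
    (hz : ∀ i, (f i).lTensor B z = 0) : z = 0 := by
  classical
  let b := Module.Free.chooseBasis A B
  have h : ∀ (w : B ⊗[A] M) i j, f i (TensorProduct.equivFinsuppOfBasisLeft b w j) =
      TensorProduct.equivFinsuppOfBasisLeft b ((f i).lTensor B w) j := by
    intro w i j
    induction w using TensorProduct.induction_on with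
    | zero => simp
    | tmul x m => simp
    | add p q hp hq => simp [hp, hq]
  refine (TensorProduct.equivFinsuppOfBasisLeft b).injective ?_
  rw [map_zero]
  ext j
  refine hf _ fun i => ?_
  rw [h, hz, map_zero]
  rfl

end Algebra

variable {X Y : Scheme.{u}}

/-- The map on stalks, linear over the local ring. -/
noncomputable def stalkMapₗ {M N : X.Modules} (φ : M ⟶ N) (x : X) :
    M.presheaf.stalk x →ₗ[X.presheaf.stalk x] N.presheaf.stalk x where
  toFun := ((TopCat.Presheaf.stalkFunctor AddCommGrpCat.{u} x).map φ.mapPresheaf).hom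
  map_add' := map_add _
  map_smul' r t := by
    have hg : ∀ (W : X.Opens) (hx : x ∈ W) (m : Γ(M, W)),
        ((TopCat.Presheaf.stalkFunctor AddCommGrpCat.{u} x).map φ.mapPresheaf).hom
          (germ M x hx m) = germ N x hx (φ.app W m) := fun W hx m =>
      TopCat.Presheaf.stalkFunctor_map_germ_apply W x hx φ.mapPresheaf m
    obtain ⟨U, hU, r, rfl⟩ := TopCat.Presheaf.exists_germ_eq X.presheaf r
    obtain ⟨V, hV, m, rfl⟩ := exists_germ M x t
    have hW : x ∈ U ⊓ V := ⟨hU, hV⟩
    rw [← TopCat.Presheaf.germ_res_apply X.presheaf (homOfLE (inf_le_left : U ⊓ V ≤ U)) x hW r,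
      ← germ_res M (inf_le_right : U ⊓ V ≤ V) x hW m, ← germ_smul, hg, hg,
      Scheme.Modules.Hom.app_smul]
    exact germ_smul N x hW _ _

theorem stalkMapₗ_germ {M N : X.Modules} (φ : M ⟶ N) (x : X) {U : X.Opens} (hx : x ∈ U)
    (m : Γ(M, U)) : stalkMapₗ φ x (germ M x hx m) = germ N x hx (φ.app U m) :=
  TopCat.Presheaf.stalkFunctor_map_germ_apply U x hx φ.mapPresheaf m

theorem stalkMapₗ_pullStalkHom (g : Y ⟶ X) {M N : X.Modules} (φ : M ⟶ N) (y : Y) :
    letI := stalkAlg g y
    ∀ z : Y.presheaf.stalk y ⊗[X.presheaf.stalk (g y)] M.presheaf.stalk (g y),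
      stalkMapₗ ((Scheme.Modules.pullback g).map φ) y (pullStalkHom g M y z) =
        pullStalkHom g N y ((stalkMapₗ φ (g y)).lTensor (Y.presheaf.stalk y) z) := by
  let _ := stalkAlg g y
  intro z
  induction z using TensorProduct.induction_on with
  | zero => simp
  | tmul b t =>
    obtain ⟨U, hU, m, rfl⟩ := exists_germ M (g y) t
    simp only [LinearMap.lTensor_tmul, pullStalkHom_tmul, stalkMapₗ_germ, pullGerm_germ, map_smul]
    rw [pullSec_map]
  | add p q hp hq => simp [hp, hq]

/-- The pulled back family is separating as soon as the tensored stalk families are. -/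
theorem separating_pullback (g : Y ⟶ X) (F : X.Modules) {ι : Type u} (G : ι → X.Modules)
    (u : ∀ i, F ⟶ G i)
    (h : ∀ y : Y, letI := stalkAlg g y
      ∀ z : Y.presheaf.stalk y ⊗[X.presheaf.stalk (g y)] F.presheaf.stalk (g y),
        (∀ i, (stalkMapₗ (u i) (g y)).lTensor (Y.presheaf.stalk y) z = 0) → z = 0)
    (V : Y.Opens) (t : Γ((Scheme.Modules.pullback g).obj F, V))
    (ht : ∀ i, ((Scheme.Modules.pullback g).map (u i)).app V t = 0) : t = 0 := by
  refine Groth.DescentBase.eq_zero_of_germ _ t fun y hy => ?_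
  let _ := stalkAlg g y
  obtain ⟨z, hz⟩ := (pullStalkHom_bijective g F y).2
    (germ ((Scheme.Modules.pullback g).obj F) y hy t)
  rw [← hz, h y z (fun i => ?_), map_zero]
  apply (pullStalkHom_bijective g (G i) y).1
  rw [map_zero, ← stalkMapₗ_pullStalkHom, hz, stalkMapₗ_germ, ht i, map_zero]

/-- A finite separating family is jointly injective on stalks. -/
theorem stalk_injective_of_finite (F : X.Modules) {ι : Type u} [Finite ι] (G : ι → X.Modules)
    (u : ∀ i, F ⟶ G i) (h : ∀ (V : X.Opens) (t : Γ(F, V)), (∀ i, (u i).app V t = 0) → t = 0)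
    (x : X) (t : F.presheaf.stalk x) (ht : ∀ i, stalkMapₗ (u i) x t = 0) : t = 0 := by
  classical
  cases nonempty_fintype ι
  obtain ⟨U, hU, m, rfl⟩ := exists_germ F x t
  have h1 : ∀ i, ∃ W : X.Opens, x ∈ W ∧ ∃ hW : W ≤ U, res (G i) hW ((u i).app U m) = 0 := by
    intro i
    have h0 : germ (G i) x hU ((u i).app U m) = germ (G i) x hU 0 := by
      rw [← stalkMapₗ_germ, ht i, map_zero]
    obtain ⟨W, hW, iU, iV, hres⟩ := TopCat.Presheaf.germ_eq (G i).presheaf x hU hU _ _ h0
    exact ⟨W, hW, iU.le, (hres).trans (map_zero _)⟩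
  choose W hxW hWU hW using h1
  let W₀ : X.Opens := U ⊓ Finset.univ.inf W
  have hx0 : x ∈ W₀ := by
    refine ⟨hU, ?_⟩
    simp [hxW]
  have h2 : res F (inf_le_left : W₀ ≤ U) m = 0 := h W₀ _ fun i => by
    have hle : W₀ ≤ W i := inf_le_right.trans (Finset.inf_le (Finset.mem_univ i))
    rw [← res_app, ← res_res (G i) (hWU i) hle, hW i, map_zero]
  rw [← germ_res F (inf_le_left : W₀ ≤ U) x hx0 m, h2, map_zero]

/-- A separating family is jointly injective on the stalks at isolated points. -/
theorem stalk_injective_of_isOpen_singleton (F : X.Modules) {ι : Type u} (G : ι → X.Modules)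
    (u : ∀ i, F ⟶ G i) (h : ∀ (V : X.Opens) (t : Γ(F, V)), (∀ i, (u i).app V t = 0) → t = 0)
    (x : X) (hx : IsOpen ({x} : Set X)) (t : F.presheaf.stalk x)
    (ht : ∀ i, stalkMapₗ (u i) x t = 0) : t = 0 := by
  obtain ⟨U, hU, m, rfl⟩ := exists_germ F x t
  let W : X.Opens := ⟨{x}, hx⟩
  have hWU : W ≤ U := fun z hz => by
    rw [show z = x from hz]; exact hU
  have h2 : res F hWU m = 0 := h W _ fun i => by
    refine Groth.DescentBase.eq_zero_of_germ _ _ fun z hz => ?_
    have hzx : z = x := hz
    subst hzx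
    rw [← stalkMapₗ_germ, germ_res F hWU _ _ m]
    exact ht i
  rw [← germ_res F hWU x (rfl : x ∈ W) m, h2, map_zero]

theorem isArtinianRing_stalk_of_isOpen_singleton [IsLocallyArtinian X] (x : X) :
    IsArtinianRing (X.presheaf.stalk x) := by
  obtain ⟨U, hU, hxU, -⟩ := exists_isAffineOpen_mem_and_subset (X := X) (U := ⊤) (x := x) trivial
  have : IsArtinianRing Γ(X, U) := IsLocallyArtinian.isArtinianRing_presheaf_obj (X := X) ⟨U, hU⟩
  let _ : Algebra Γ(X, U) (X.presheaf.stalk x) :=
    TopCat.Presheaf.algebra_section_stalk X.presheaf ⟨x, hxU⟩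
  have := hU.isLocalization_stalk ⟨x, hxU⟩
  exact IsArtinianRing.localization_artinian (hU.primeIdealOf ⟨x, hxU⟩).asIdeal.primeCompl _

end Groth.Calg5.SepFamily
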