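import Mathlib

/-!
A criterion for a finitely generated algebra to be unramified in terms of relations with identity Jacobian.
-/

namespace Groth.Calg5

open MvPolynomial

variable {A T : Type*} [CommRing A] [CommRing T] [Algebra A T] {σ : Type*} [Fintype σ] [DecidableEq σ]

theorem D_eq_sum_pderiv (π : MvPolynomial σ A →ₐ[A] T) (q : MvPolynomial σ A) :
    KaehlerDifferential.D A T (π q) =
      ∑ l, π (pderiv l q) • KaehlerDifferential.D A T (π (X l)) := by
  induction q using MvPolynomial.induction_on with
  | C a => simp
  | add a b ha hb => simp [ha, hb, add_smul, Finset.sum_add_distrib]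
  | mul_X a j ha =>
    rw [map_mul, Derivation.leibniz, ha, Finset.smul_sum]
    simp only [Derivation.leibniz, pderiv_X, smul_eq_mul, map_add, map_mul, add_smul,
      Finset.sum_add_distrib, smul_smul]
    congr 1
    rw [Finset.sum_eq_single j]
    · simp
    · intro l _ hl; simp [hl.symm]
    · simp

theorem formallyUnramified_of_jacobian (π : MvPolynomial σ A →ₐ[A] T) (hπ : Function.Surjective π)
    (f : σ → MvPolynomial σ A) (hf : ∀ i, π (f i) = 0)
    (hd : ∀ i l, π (pderiv l (f i)) = if i = l then 1 else 0) :
    Algebra.FormallyUnramified A T := by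
  have hX : ∀ i, KaehlerDifferential.D A T (π (X i)) = 0 := by
    intro i
    have h0 := D_eq_sum_pderiv π (f i)
    rw [hf, map_zero] at h0
    simp only [hd, ite_smul, one_smul, zero_smul, Finset.sum_ite_eq, Finset.mem_univ, if_true] at h0
    exact h0.symm
  refine ⟨subsingleton_iff_forall_eq 0 |>.mpr fun ω => ?_⟩
  have hω : ω ∈ Submodule.span T (Set.range (KaehlerDifferential.D A T)) := by
    rw [KaehlerDifferential.span_range_derivation]; trivial
  induction hω using Submodule.span_induction with
  | zero => rfl
  | add a b _ _ ha hb => rw [ha, hb, add_zero]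
  | smul s a _ ha => rw [ha, smul_zero]
  | mem d hd =>
    obtain ⟨s, rfl⟩ := hd
    obtain ⟨p, rfl⟩ := hπ s
    rw [D_eq_sum_pderiv]
    simp [hX]

end Groth.Calg5
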